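import Mathlib.GroupTheory.Transfer
import Mathlib.Tactic

/-!
# Transfer of an involution into a subgroup of odd index

If a homomorphism on a subgroup of odd index takes one value on all conjugates of an involution `u`
lying in it, then its transfer takes the same value at `u`.  In particular, if that value is not
trivial and all conjugates of a set of involutions `D` go to `1`, then `D` does not generate.
-/

set_option autoImplicit false

namespace CfsgLib.LocalEven.TIEndgame

open MulAction Subgroup

variable {G A : Type*} [Group G] [CommGroup A] {H : Subgroup G} (φ : H →* A)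

theorem transfer_apply_of_mul_self [Finite G] {u : G} (hu : u * u = 1) (hodd : Odd H.index) (a : A)
    (hval : ∀ (g : G) (hg : g⁻¹ * u * g ∈ H), φ ⟨g⁻¹ * u * g, hg⟩ = a) :
    MonoidHom.transfer φ u = a := by
  classical
  have : Fintype (G ⧸ H) := Fintype.ofFinite _
  have : Fintype (Quotient (orbitRel (zpowers u) (G ⧸ H))) := Fintype.ofFinite _
  rw [MonoidHom.transfer_eq_prod_quotient_orbitRel_zpowers_quot]
  have hsum := index_eq_sum_minimalPeriod H u
  let m : Quotient (orbitRel (zpowers u) (G ⧸ H)) → ℕ :=
    fun q => Function.minimalPeriod (u • ·) q.out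
  have hm : ∀ q, m q = 1 ∨ m q = 2 := by
    intro q
    have hp : Function.IsPeriodicPt (u • · : G ⧸ H → G ⧸ H) 2 q.out := by
      show (u • ·)^[2] q.out = q.out
      simp [← mul_smul, hu]
    exact (Nat.dvd_prime Nat.prime_two).1 hp.minimalPeriod_dvd
  have hcard : Odd (Finset.univ.filter fun q => m q = 1).card := by
    rw [hsum, ← Finset.sum_filter_add_sum_filter_not Finset.univ (fun q => m q = 1)] at hodd
    have h1 : ∑ q ∈ Finset.univ.filter (fun q => m q = 1), m q =
        (Finset.univ.filter fun q => m q = 1).card := by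
      rw [Finset.card_eq_sum_ones]
      exact Finset.sum_congr rfl fun q hq => (Finset.mem_filter.1 hq).2
    have h2 : Even (∑ q ∈ Finset.univ.filter (fun q => ¬ m q = 1), m q) := by
      refine even_iff_two_dvd.2 (Finset.dvd_sum fun q hq => ?_)
      rw [(hm q).resolve_left (Finset.mem_filter.1 hq).2]
    rw [h1, Nat.odd_add] at hodd
    exact hodd.2 h2
  have ha : a ^ 2 = 1 := by
    obtain ⟨q, hq⟩ := Finset.card_pos.1 hcard.pos
    have hq1 := (Finset.mem_filter.1 hq).2
    have hmem := QuotientGroup.out_conj_pow_minimalPeriod_mem H u q.out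
    rw [show Function.minimalPeriod (u • ·) q.out = 1 from hq1, pow_one] at hmem
    rw [← hval _ hmem, ← map_pow, ← map_one φ]
    refine congrArg φ (Subtype.ext ?_)
    simp only [SubgroupClass.coe_pow, coe_one]
    rw [pow_two, show q.out.out⁻¹ * u * q.out.out * (q.out.out⁻¹ * u * q.out.out) =
      q.out.out⁻¹ * (u * u) * q.out.out by group, hu]
    group
  rw [Finset.prod_congr rfl (g := fun q => if m q = 1 then a else 1) (fun q _ => ?_),
    ← Finset.prod_filter, Finset.prod_const]
  · obtain ⟨k, hk⟩ := hcard
    rw [hk, pow_succ, pow_mul, ha, one_pow, one_mul]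
  · rcases hm q with h | h
    · rw [if_pos h]
      have hmem := QuotientGroup.out_conj_pow_minimalPeriod_mem H u q.out
      rw [show Function.minimalPeriod (u • ·) q.out = 1 from h, pow_one] at hmem
      rw [← hval _ hmem]
      congr 2
      rw [show Function.minimalPeriod (u • ·) q.out = 1 from h, pow_one]
    · rw [if_neg (by omega), ← map_one φ]
      refine congrArg φ (Subtype.ext ?_)
      simp only [coe_one]
      rw [show Function.minimalPeriod (u • ·) q.out = 2 from h, pow_two, hu]
      group

/-- The transfer criterion for a set of involutions not generating the group. -/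
theorem closure_ne_top_of_odd_index [Finite G] (D : Set G) (hD : ∀ d ∈ D, d * d = 1) {u : G}
    (hu : u * u = 1) (hodd : Odd H.index) {a : A} (ha : a ≠ 1)
    (hval : ∀ (g : G) (hg : g⁻¹ * u * g ∈ H), φ ⟨g⁻¹ * u * g, hg⟩ = a)
    (hker : ∀ d ∈ D, ∀ (g : G) (hg : g⁻¹ * d * g ∈ H), φ ⟨g⁻¹ * d * g, hg⟩ = 1) :
    Subgroup.closure D ≠ ⊤ := by
  intro htop
  have h1 : Subgroup.closure D ≤ (MonoidHom.transfer φ).ker :=
    (closure_le _).2 fun d hd =>
      MonoidHom.mem_ker.2 (transfer_apply_of_mul_self φ (hD d hd) hodd 1 (hker d hd))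
  apply ha
  rw [← transfer_apply_of_mul_self φ hu hodd a hval]
  exact MonoidHom.mem_ker.1 (h1 (htop ▸ mem_top u))

/-- The form for a normal subgroup: all conjugates of `u` in `H` lie outside the kernel of a
homomorphism to a group of order two. -/
theorem closure_ne_top_of_index_two [Finite G] (D : Set G) (hD : ∀ d ∈ D, d * d = 1) {u : G}
    (hu : u * u = 1) (hodd : Odd H.index) (H₀ : Subgroup G) (hH₀ : (H₀.subgroupOf H).index = 2)
    (hout : ∀ g : G, g⁻¹ * u * g ∈ H → g⁻¹ * u * g ∉ H₀)
    (hin : ∀ d ∈ D, ∀ g : G, g⁻¹ * d * g ∈ H → g⁻¹ * d * g ∈ H₀) :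
    Subgroup.closure D ≠ ⊤ := by
  classical
  let ψ : H →* Multiplicative (ZMod 2) :=
    { toFun := fun x => if x ∈ H₀.subgroupOf H then 1 else Multiplicative.ofAdd 1
      map_one' := if_pos (one_mem _)
      map_mul' := fun x y => by
        have h := Subgroup.mul_mem_iff_of_index_two hH₀ (a := x) (b := y)
        by_cases hx : x ∈ H₀.subgroupOf H <;> by_cases hy : y ∈ H₀.subgroupOf H <;>
          simp only [h, hx, hy, iff_self, if_true, if_false, iff_false, iff_true, not_true] <;> decide }
  refine closure_ne_top_of_odd_index ψ D hD hu hodd (a := Multiplicative.ofAdd 1) (by decide)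
    (fun g hg => if_neg fun h => hout g hg h) (fun d hd g hg => if_pos (hin d hd g hg))

end CfsgLib.LocalEven.TIEndgame
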