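import Mathlib.GroupTheory.Sylow
import Mathlib.GroupTheory.Index
import Mathlib.GroupTheory.QuotientGroup.Basic
import Mathlib.GroupTheory.Nilpotent
import Mathlib.NumberTheory.LucasLehmer
import Mathlib.Tactic

/-!
# The final count of the Suzuki case

A finite group `M` acts on a set with a point `b` whose stabiliser meets the normal subgroup `Y`
in a 2-group; a cyclic group `J` of order `2 ^ r - 1` (`r` odd) fixes only `b`, `|M : Y|` is
`(2 ^ r - 1) s` with `s` a divisor of `r`, and every point stabiliser has order divisible by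
`2 ^ r - 1`.  Then the set does not have `q³ (q² - q + 1)` points, `q = 2 ^ r`.
-/

set_option autoImplicit false

namespace CfsgLib.LocalEven.TIEndgame.CountThree

open MulAction Subgroup

/-- A `p`-group containing an element with the only fixed point `b` fixes `b`. -/
theorem le_stabilizer_of_unique {M X : Type*} [Group M] [Finite M] [MulAction M X] {p : ℕ}
    [Fact p.Prime] {R : Subgroup M} (hR : IsPGroup p R) {t : M} (htR : t ∈ R) {b : X}
    (hfix : ∀ c : X, t • c = c ↔ c = b) : R ≤ stabilizer M b := by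
  by_contra hcon
  set R₁ := R ⊓ stabilizer M b
  have hlt : R₁ < R := lt_of_le_of_ne inf_le_left fun h => hcon (inf_eq_left.mp h)
  haveI := hR.isNilpotent
  have htop : R₁.subgroupOf R < ⊤ := by
    rw [lt_top_iff_ne_top, ne_eq, subgroupOf_eq_top]
    exact not_le_of_gt hlt
  have hlt' := Group.normalizerCondition_of_isNilpotent (R₁.subgroupOf R) htop
  obtain ⟨g, hg, hgn⟩ := SetLike.exists_of_lt hlt'
  refine hgn (mem_subgroupOf.2 ⟨g.2, mem_stabilizer_iff.2 ((hfix _).1 ?_)⟩)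
  have htR₁ : (⟨t, htR⟩ : R) ∈ R₁.subgroupOf R :=
    mem_subgroupOf.2 ⟨htR, mem_stabilizer_iff.2 ((hfix b).2 rfl)⟩
  have h := (mem_normalizer_iff''.1 hg ⟨t, htR⟩).1 htR₁
  have h' : ((g : M)⁻¹ * t * g) • b = b := mem_stabilizer_iff.1 (mem_subgroupOf.1 h).2
  rw [mul_smul, mul_smul, inv_smul_eq_iff] at h'
  exact h'

/-- A group acting semiregularly divides the number of points. -/
theorem card_dvd_of_free {J X : Type*} [Group J] [Finite J] [Finite X] [MulAction J X]
    (h : ∀ (j : J) (x : X), j • x = x → j = 1) : Nat.card J ∣ Nat.card X := by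
  classical
  haveI := Fintype.ofFinite (orbitRel.Quotient J X)
  rw [Nat.card_congr (selfEquivSigmaOrbits J X), Nat.card_sigma]
  refine Finset.dvd_sum fun o _ => ?_
  rw [Nat.card_coe_set_eq, ← index_stabilizer]
  have hbot : stabilizer J o.out = ⊥ := by
    refine (eq_bot_iff_forall _).2 fun j hj => h j _ (mem_stabilizer_iff.1 hj)
  rw [hbot, index_bot]

theorem exists_prime_dvd {r : ℕ} (hr : Odd r) (h3 : 3 ≤ r) :
    ∃ p : ℕ, p.Prime ∧ p ∣ 2 ^ r - 1 ∧ ¬ p ∣ r := by
  have hr0 : r ≠ 0 := by omega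
  obtain ⟨l, hl, hmax⟩ : ∃ l, l ∈ r.primeFactors ∧ ∀ l' ∈ r.primeFactors, l' ≤ l :=
    ⟨r.primeFactors.max' (Nat.nonempty_primeFactors.2 (by omega)), Finset.max'_mem _ _,
      fun l' h => Finset.le_max' _ l' h⟩
  have hlp := Nat.prime_of_mem_primeFactors hl
  have hl2 : l ≠ 2 := fun e => Nat.not_even_iff_odd.2 hr (even_iff_two_dvd.2
    (e ▸ Nat.dvd_of_mem_primeFactors hl))
  have hgt : 1 < 2 ^ l - 1 := by
    have : 2 ^ 3 ≤ 2 ^ l := Nat.pow_le_pow_right two_pos (by have := hlp.two_le; omega)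
    omega
  obtain ⟨p, hp, hpd⟩ := Nat.exists_prime_and_dvd hgt.ne'
  haveI := Fact.mk hp
  refine ⟨p, hp, hpd.trans (Nat.pow_sub_one_dvd_pow_sub_one 2 (Nat.dvd_of_mem_primeFactors hl)),
    fun hpr => ?_⟩
  have hp2 : p ≠ 2 := by
    rintro rfl
    have h1 : Odd (2 ^ l - 1) :=
      Nat.Even.sub_odd Nat.one_le_two_pow (Nat.even_pow.2 ⟨even_two, hlp.ne_zero⟩) odd_one
    exact Nat.not_even_iff_odd.2 h1 (even_iff_two_dvd.2 hpd)
  -- the order of `2` modulo `p` is `l`, so `p` exceeds `l`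
  have h2 : (2 : ZMod p) ≠ 0 := by
    intro h0
    have h0' : ((2 : ℕ) : ZMod p) = 0 := by exact_mod_cast h0
    exact hp2 ((Nat.prime_dvd_prime_iff_eq hp Nat.prime_two).1
      ((ZMod.natCast_eq_zero_iff _ _).1 h0'))
  have hord : orderOf (2 : ZMod p) = l := by
    haveI := Fact.mk hlp
    refine orderOf_eq_prime ?_ fun h1 => ?_
    · have h := (ZMod.natCast_eq_zero_iff (2 ^ l - 1) p).2 hpd
      rw [Nat.cast_sub Nat.one_le_two_pow, sub_eq_zero] at h
      exact_mod_cast h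
    · have h10 : (1 : ZMod p) = 0 := by linear_combination h1
      exact one_ne_zero h10
  have hle : l ∣ p - 1 := hord ▸ ZMod.orderOf_dvd_card_sub_one h2
  have h1 := Nat.le_of_dvd (by have := hp.two_le; omega) hle
  have h2' := hmax p (Nat.mem_primeFactors.2 ⟨hp, hpr, hr0⟩)
  have := hp.two_le
  omega

theorem square_sub_mod_nine {r : ℕ} (hr : Odd r) :
    ((2 ^ r) ^ 2 - 2 ^ r + 1) % 9 = 3 := by
  have key : ∀ k : ℕ, 2 ^ (2 * k + 1) % 9 = 2 ∨ 2 ^ (2 * k + 1) % 9 = 8 ∨
      2 ^ (2 * k + 1) % 9 = 5 := by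
    intro k
    induction k with
    | zero => norm_num
    | succ k ih =>
      rw [show 2 * (k + 1) + 1 = 2 * k + 1 + 2 by ring, pow_add, Nat.mul_mod]
      rcases ih with h | h | h <;> rw [h] <;> norm_num
  obtain ⟨k, rfl⟩ := hr
  set x := 2 ^ (2 * k + 1) with hx
  have hle : x ≤ x ^ 2 := Nat.le_self_pow two_ne_zero x
  obtain ⟨c, hc⟩ := Nat.exists_eq_add_of_le hle
  have hsub : x ^ 2 - x = c := by omega
  rw [hsub]
  have hc' : (x % 9) * (x % 9) % 9 = (x % 9 + c % 9) % 9 := by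
    rw [← Nat.mul_mod, ← Nat.add_mod, ← hc, pow_two]
  rcases key k with h | h | h <;> rw [h] at hc' <;> norm_num at hc' <;> omega

variable {M X : Type*} [Group M] [Finite M] [MulAction M X] [Finite X] {Y : Subgroup M}
  {J : Subgroup M} {b : X} {r s : ℕ}

/-- The Suzuki case does not occur. -/
theorem absurd_count (hY : Y.Normal) (hYb : IsPGroup 2 ↥(Y ⊓ stabilizer M b))
    (hJ : ∀ j ∈ J, j ≠ 1 → ∀ c : X, j • c = c ↔ c = b) (hJb : J ≤ stabilizer M b)
    (hJc : Nat.card J = 2 ^ r - 1) (hr : Odd r) (h3 : 3 ≤ r) (hs : s ∣ r)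
    (hM : Nat.card M = Nat.card Y * ((2 ^ r - 1) * s))
    (hdiv : ∀ c : X, 2 ^ r - 1 ∣ Nat.card (stabilizer M c))
    (hX : Nat.card X = (2 ^ r) ^ 3 * ((2 ^ r) ^ 2 - 2 ^ r + 1)) : False := by
  classical
  obtain ⟨p, hp, hpq, hpr⟩ := exists_prime_dvd hr h3
  haveI := Fact.mk hp
  have hq7 : 7 ≤ 2 ^ r - 1 := by
    have : 2 ^ 3 ≤ 2 ^ r := Nat.pow_le_pow_right two_pos h3
    omega
  have hps : ¬ p ∣ s := fun h => hpr (h.trans hs)
  have hp2 : p ≠ 2 := by
    rintro rfl
    have h1 : Odd (2 ^ r - 1) :=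
      Nat.Even.sub_odd Nat.one_le_two_pow (Nat.even_pow.2 ⟨even_two, by omega⟩) odd_one
    exact Nat.not_even_iff_odd.2 h1 (even_iff_two_dvd.2 hpq)
  -- a Sylow subgroup of `J`, inside one of `M`
  let Jp : Sylow p J := default
  set P := (Jp : Subgroup J).map J.subtype with hP
  have hPJ : P ≤ J := map_subtype_le _
  have hPp : IsPGroup p P := Jp.isPGroup'.map _
  obtain ⟨R, hPR⟩ := hPp.exists_le_sylow
  have hPcard : Nat.card P = p ^ (2 ^ r - 1).factorization p := by
    rw [hP, card_subtype, Jp.card_eq_multiplicity, hJc]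
  obtain ⟨t, htP, ht1⟩ : ∃ t ∈ P, t ≠ 1 := by
    refine (Subgroup.bot_or_exists_ne_one P).resolve_left fun h => ?_
    rw [h, card_bot] at hPcard
    have h0 := (Nat.pow_eq_one.1 hPcard.symm).resolve_left hp.ne_one
    exact (hp.factorization_pos_of_dvd (by omega) hpq).ne' h0
  have hRb : (R : Subgroup M) ≤ stabilizer M b :=
    le_stabilizer_of_unique R.isPGroup' (hPR htP) fun c => hJ t (hPJ htP) ht1 c
  -- `p` does not divide `|Y|`
  have hpY : ¬ p ∣ Nat.card Y := by
    intro h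
    obtain ⟨y, hy⟩ := exists_prime_orderOf_dvd_card' (G := Y) p h
    rw [← orderOf_coe] at hy
    have hyp : IsPGroup p (zpowers (y : M)) :=
      IsPGroup.of_card (n := 1) (by rw [Nat.card_zpowers, hy, pow_one])
    obtain ⟨R', hR'⟩ := hyp.exists_le_sylow
    obtain ⟨g, rfl⟩ := exists_smul_eq M R R'
    have h1 := hR' (mem_zpowers (y : M))
    rw [Sylow.smul_def] at h1
    obtain ⟨x, hx, hxy⟩ := h1
    have hxY : x ∈ Y := by
      have h2 := hY.conj_mem _ y.2 g⁻¹
      rw [← hxy] at h2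
      simpa [mul_assoc] using h2
    obtain ⟨k, hk⟩ := IsPGroup.iff_orderOf.1 hYb ⟨x, mem_inf.2 ⟨hxY, hRb hx⟩⟩
    rw [Subgroup.orderOf_mk] at hk
    have hxo : orderOf x = p := by
      rw [← hy, ← hxy]
      exact ((MulAut.conj g).orderOf_eq x).symm
    have : p ∣ 2 ^ k := by rw [← hk, hxo]
    exact hp2 ((Nat.prime_dvd_prime_iff_eq hp Nat.prime_two).1 (hp.dvd_of_dvd_pow this))
  have hs0 : s ≠ 0 := fun h => hps (h ▸ dvd_zero p)
  have hRJ : (R : Subgroup M) = P := by
    refine (eq_of_le_of_card_ge hPR ?_).symm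
    rw [hPcard, R.card_eq_multiplicity, hM, Nat.factorization_mul Nat.card_pos.ne'
      (mul_ne_zero (by omega) hs0), Nat.factorization_mul (by omega) hs0]
    simp [Nat.factorization_eq_zero_of_not_dvd hpY, Nat.factorization_eq_zero_of_not_dvd hps]
  -- every element of order `p` fixes exactly a conjugate of `b`
  have hconj : ∀ g : M, orderOf g = p ^ 1 ∨ (g ≠ 1 ∧ ∃ i, orderOf g = p ^ i) →
      ∃ h : M, h * g * h⁻¹ ∈ J := by
    intro g hg
    obtain ⟨i, hi⟩ : ∃ i, orderOf g = p ^ i := hg.elim (fun h => ⟨1, h⟩) fun h => h.2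
    have hgp : IsPGroup p (zpowers g) := IsPGroup.of_card (n := i) (by rw [Nat.card_zpowers, hi])
    obtain ⟨R', hR'⟩ := hgp.exists_le_sylow
    obtain ⟨h, rfl⟩ := exists_smul_eq M R R'
    have h1 := hR' (mem_zpowers g)
    rw [Sylow.smul_def] at h1
    obtain ⟨x, hx, hxg⟩ := h1
    refine ⟨h⁻¹, hPJ (hRJ ▸ ?_)⟩
    have : h⁻¹ * g * h⁻¹⁻¹ = x := by rw [← hxg]; simp [mul_assoc]
    rw [this]; exact hx
  -- transitivity
  have htrans : ∀ c : X, ∃ g : M, g • c = b := by
    intro c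
    obtain ⟨g, hg⟩ := exists_prime_orderOf_dvd_card' (G := stabilizer M c) p (hpq.trans (hdiv c))
    rw [← orderOf_coe] at hg
    obtain ⟨h, hh⟩ := hconj g (Or.inl (by rw [hg, pow_one]))
    refine ⟨h, (hJ _ hh (fun e => ?_) _).1 ?_⟩
    · have : (g : M) = 1 := conj_eq_one_iff.1 e
      rw [this, orderOf_one] at hg; exact hp.ne_one hg.symm
    · rw [mul_smul, mul_smul, inv_smul_smul, mem_stabilizer_iff.1 g.2]
  haveI : IsPretransitive M X := ⟨fun c d => by
    obtain ⟨g, hg⟩ := htrans c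
    obtain ⟨h, hh⟩ := htrans d
    exact ⟨h⁻¹ * g, by rw [mul_smul, hg, ← hh, inv_smul_smul]⟩⟩
  have hMb : Nat.card X * Nat.card (stabilizer M b) = Nat.card M := by
    rw [← index_stabilizer_of_transitive M b, index_mul_card]
  -- the orbit of `b` under `Y`
  set N := Y ⊓ stabilizer M b with hN
  have ho : Nat.card (orbit Y b) * Nat.card N = Nat.card Y := by
    have h := (index_stabilizer Y b).symm ▸ (stabilizer Y b).index_mul_card
    have hN' : Nat.card (stabilizer Y b) = Nat.card N := by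
      rw [hN, inf_comm, ← Nat.card_congr (subgroupOfEquivOfLe (inf_le_right :
        stabilizer M b ⊓ Y ≤ Y)).toEquiv, inf_subgroupOf_right]
      rfl
    rw [hN'] at h
    rwa [Nat.card_coe_set_eq]
  have hNdvd : Nat.card N ∣ Nat.card (stabilizer M b) := card_dvd_of_le inf_le_right
  have hJdvd : Nat.card J ∣ Nat.card (stabilizer M b) := card_dvd_of_le hJb
  have hcop : (Nat.card N).Coprime (Nat.card J) := by
    obtain ⟨k, hk⟩ := hYb.exists_card_eq
    rw [hk, hJc]
    refine Nat.Coprime.pow_left k (Nat.coprime_two_left.2 ?_)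
    exact Nat.Even.sub_odd Nat.one_le_two_pow (Nat.even_pow.2 ⟨even_two, by omega⟩) odd_one
  obtain ⟨s', hs'⟩ : Nat.card N * Nat.card J ∣ Nat.card (stabilizer M b) :=
    hcop.mul_dvd_of_dvd_of_dvd hNdvd hJdvd
  have hs's : s' ∣ s := by
    haveI := hY
    let f : stabilizer M b →* M ⧸ Y := (QuotientGroup.mk' Y).comp (stabilizer M b).subtype
    have hker : Nat.card f.ker = Nat.card N := by
      have : f.ker = (stabilizer M b ⊓ Y).subgroupOf (stabilizer M b) := by
        ext x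
        simp [f, mem_subgroupOf, QuotientGroup.eq_one_iff]
      rw [this, hN, inf_comm Y]
      exact Nat.card_congr (subgroupOfEquivOfLe inf_le_left).toEquiv
    have h1 := f.ker.index_mul_card
    rw [hker, index_ker, hs'] at h1
    have h2 : Nat.card f.range ∣ Nat.card (M ⧸ Y) := card_subgroup_dvd_card _
    have h3 : Nat.card f.range = Nat.card J * s' :=
      mul_left_cancel₀ (Nat.card_pos (α := N)).ne' (by rw [← mul_assoc, ← h1]; ring)
    have h4 : Nat.card (M ⧸ Y) = (2 ^ r - 1) * s := by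
      refine mul_left_cancel₀ (Nat.card_pos (α := Y)).ne' ?_
      rw [← hM, mul_comm, ← card_eq_card_quotient_mul_card_subgroup]
    rw [h3, h4, hJc] at h2
    exact Nat.dvd_of_mul_dvd_mul_left (by omega) h2
  obtain ⟨k, hk⟩ := hs's
  have hk0 : k ≠ 0 := fun h => hs0 (by rw [hk, h, mul_zero])
  have hs'0 : s' ≠ 0 := fun h => hs0 (by rw [hk, h, zero_mul])
  have hok : Nat.card (orbit Y b) * k = Nat.card X := by
    refine mul_left_cancel₀ (a := Nat.card N * (2 ^ r - 1) * s')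
      (mul_ne_zero (mul_ne_zero Nat.card_pos.ne' (by omega)) hs'0) ?_
    have e1 : Nat.card X * (Nat.card N * (2 ^ r - 1) * s') = Nat.card Y * ((2 ^ r - 1) * s) := by
      rw [← hJc, ← hs', hMb, hM, hJc]
    rw [← ho, hk] at e1
    linear_combination -e1
  -- the orbit is one more than a multiple of `|J|`
  have horb : Nat.card J ∣ Nat.card (orbit Y b) - 1 := by
    let Z : Set X := orbit Y b \ {b}
    have hmem : ∀ (j : J) (c : X), c ∈ Z → (j : M) • c ∈ Z := by
      rintro j c ⟨⟨y, rfl⟩, hne⟩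
      refine ⟨⟨⟨j * y * (j : M)⁻¹, hY.conj_mem _ y.2 _⟩, ?_⟩, fun h => hne ?_⟩
      · show ((j : M) * y * (j : M)⁻¹) • b = (j : M) • (y : M) • b
        rw [mul_smul, mul_smul, inv_smul_eq_iff.2 (mem_stabilizer_iff.1 (hJb j.2)).symm]
      · rw [Set.mem_singleton_iff] at h ⊢
        dsimp only at h ⊢
        rw [← inv_smul_smul (j : M) (y • b), h]
        exact inv_smul_eq_iff.2 (mem_stabilizer_iff.1 (hJb j.2)).symm
    letI : MulAction J Z :=
      { smul := fun j c => ⟨(j : M) • (c : X), hmem j c c.2⟩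
        one_smul := fun c => Subtype.ext (one_smul M (c : X))
        mul_smul := fun j j' c => Subtype.ext (mul_smul (j : M) (j' : M) (c : X)) }
    have := card_dvd_of_free (J := J) (X := Z) fun j c hc => by
      by_contra hj
      exact c.2.2 ((hJ j j.2 (fun e => hj (Subtype.ext e)) c).1 (congrArg Subtype.val hc))
    rwa [Nat.card_coe_set_eq, Set.ncard_diff_singleton_of_mem (mem_orbit_self b),
      ← Nat.card_coe_set_eq] at this
  have hk1 : k = 1 := by
    have hkr : k ≤ r := Nat.le_of_dvd (by omega) ((dvd_mul_left k s').trans (hk ▸ hs))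
    have hrq : r + 1 < 2 ^ r := by
      have : ∀ n, 3 ≤ n → n + 1 < 2 ^ n := by
        intro n hn
        induction n, hn using Nat.le_induction with
        | base => norm_num
        | succ n _ ih => rw [pow_succ]; omega
      exact this r h3
    obtain ⟨c, hc⟩ := horb
    have hopos : 0 < Nat.card (orbit Y b) :=
      have : Nonempty (orbit Y b) := ⟨⟨b, mem_orbit_self b⟩⟩
      Nat.card_pos
    rw [hJc] at hc
    set m := 2 ^ r - 1 with hm
    have h1 : (2 ^ r : ZMod m) = 1 := by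
      have h := ZMod.natCast_self m
      rw [hm, Nat.cast_sub Nat.one_le_two_pow, sub_eq_zero] at h
      exact_mod_cast h
    have hsubX : ((Nat.card X : ℕ) : ZMod m) = 1 := by
      rw [hX, Nat.cast_mul, Nat.cast_add, Nat.cast_sub (Nat.le_self_pow two_ne_zero _)]
      push_cast
      rw [h1]; ring
    rw [← hok, show Nat.card (orbit Y b) = m * c + 1 by omega] at hsubX
    push_cast at hsubX
    rw [ZMod.natCast_self, zero_mul, zero_add, one_mul] at hsubX
    have h := (ZMod.natCast_eq_natCast_iff' k 1 m).1 (by simpa using hsubX)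
    rwa [Nat.mod_eq_of_lt (by omega), Nat.mod_eq_of_lt (by omega)] at h
  rw [hk1, mul_one] at hok
  -- three divides `|Y|` exactly once
  haveI : Fact (Nat.Prime 3) := ⟨Nat.prime_three⟩
  let L : Sylow 3 Y := default
  have hL : Nat.card L = 3 := by
    obtain ⟨i, hi⟩ := hYb.exists_card_eq
    have h9 := square_sub_mod_nine hr
    set c := (2 ^ r) ^ 2 - 2 ^ r + 1 with hc
    obtain ⟨d, hd⟩ : 3 ∣ c := by omega
    have hcard : Nat.card Y = 2 ^ (3 * r + i) * (3 * d) := by
      rw [← ho, hok, hX, hi, hd, pow_add, ← pow_mul]; ring_nf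
    have hd3 : ¬ 3 ∣ d := by omega
    have hd0 : d ≠ 0 := by omega
    rw [L.card_eq_multiplicity, hcard, Nat.factorization_mul (by positivity) (by omega),
      Nat.factorization_mul (by norm_num) hd0, Nat.factorization_pow]
    simp [Nat.factorization_eq_zero_of_not_dvd hd3, Nat.factorization_eq_zero_of_not_dvd
      (show ¬ 3 ∣ 2 by norm_num), Nat.prime_three.factorization_self]
  set L' := (L : Subgroup Y).map Y.subtype with hL'
  haveI := hY
  have hsup := L.normalizer_sup_eq_top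
  obtain ⟨g₀, hg₀, y, hy, hgy⟩ :=
    (Subgroup.mem_sup_of_normal_right (t := Y)).1 (hsup ▸ mem_top t)
  have hg₀Y : g₀ ∉ Y := fun h => by
    obtain ⟨i, hi⟩ := IsPGroup.iff_orderOf.1 hPp ⟨t, htP⟩
    rw [Subgroup.orderOf_mk] at hi
    have htY : t ∈ Y := hgy ▸ mul_mem h hy
    have h1 : p ^ i ∣ Nat.card Y := hi ▸ Subgroup.orderOf_dvd_natCard Y htY
    rcases i with _ | i
    · exact ht1 (orderOf_eq_one_iff.1 (by rw [hi, pow_zero]))
    · exact hpY ((dvd_pow_self p (Nat.succ_ne_zero i)).trans h1)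
  -- its `p`-part
  set o := orderOf g₀ with ho'
  have hopos : 0 < o := orderOf_pos g₀
  obtain ⟨i, m, hm, hom⟩ : ∃ i m, ¬ p ∣ m ∧ o = p ^ i * m :=
    ⟨_, _, Nat.not_dvd_ordCompl hp hopos.ne', (Nat.ordProj_mul_ordCompl_eq_self o p).symm⟩
  set g₁ := g₀ ^ m with hg₁
  have hg₁p : orderOf g₁ = p ^ i := by
    have hm0 : 0 < m := Nat.pos_of_ne_zero (fun h => by simp [h] at hm)
    rw [hg₁, orderOf_pow' _ hm0.ne', ← ho', hom, Nat.gcd_eq_right (dvd_mul_left _ _),
      Nat.mul_div_cancel _ hm0]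
  have hg₁Y : g₁ ∉ Y := by
    intro h
    apply hg₀Y
    rw [← QuotientGroup.eq_one_iff] at h ⊢
    rw [hg₁, QuotientGroup.mk_pow] at h
    have htq : ((g₀ : M ⧸ Y)) = (t : M ⧸ Y) := by
      rw [← hgy, QuotientGroup.mk_mul, (QuotientGroup.eq_one_iff y).2 hy, mul_one]
    obtain ⟨l, hl⟩ := IsPGroup.iff_orderOf.1 hPp ⟨t, htP⟩
    rw [Subgroup.orderOf_mk] at hl
    have hd1 : orderOf (g₀ : M ⧸ Y) ∣ p ^ l := by
      rw [htq, ← hl]; exact orderOf_map_dvd (QuotientGroup.mk' Y) t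
    have hd2 : orderOf (g₀ : M ⧸ Y) ∣ m := orderOf_dvd_of_pow_eq_one h
    have hd3 := Nat.dvd_gcd hd1 hd2
    rw [Nat.Coprime.gcd_eq_one ((hp.coprime_iff_not_dvd.2 hm).pow_left l)] at hd3
    exact orderOf_eq_one_iff.1 (Nat.dvd_one.1 hd3)
  -- it centralises the subgroup of order three
  obtain ⟨x, hx⟩ : ∃ x : (L' : Subgroup M), orderOf x = 3 :=
    exists_prime_orderOf_dvd_card' 3 (by rw [hL', card_subtype]; exact hL.symm ▸ dvd_refl _)
  have hx3 : orderOf (x : M) = 3 := by rw [orderOf_coe, hx]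
  have hLx : L' = zpowers (x : M) := by
    refine (eq_of_le_of_card_ge (zpowers_le.2 x.2) ?_).symm
    rw [Nat.card_zpowers, hx3, hL', card_subtype, hL]
  have hcomm : g₁ * (x : M) * g₁⁻¹ = x := by
    have hmem : g₁ * (x : M) * g₁⁻¹ ∈ L' :=
      (mem_normalizer_iff.1 (pow_mem hg₀ m) _).1 x.2
    replace hmem := (SetLike.ext_iff.1 hLx _).1 hmem
    rw [mem_zpowers_iff_mem_range_orderOf, hx3] at hmem
    simp only [Finset.mem_image, Finset.mem_range] at hmem
    obtain ⟨e, he, hee⟩ := hmem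
    interval_cases e
    · exfalso
      rw [pow_zero] at hee
      have : (x : M) = 1 := conj_eq_one_iff.1 hee.symm
      rw [this, orderOf_one] at hx3; omega
    · rw [pow_one] at hee; exact hee.symm
    · exfalso
      have hinv : (x : M) ^ 2 = (x : M)⁻¹ := eq_inv_of_mul_eq_one_left (by
        have h := pow_orderOf_eq_one (x : M)
        rw [hx3] at h
        rwa [← pow_succ])
      rw [hinv] at hee
      have hev : ∀ n : ℕ, g₁ ^ (2 * n + 1) * (x : M) * (g₁ ^ (2 * n + 1))⁻¹ = (x : M)⁻¹ := by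
        intro n
        induction n with
        | zero => simpa using hee.symm
        | succ n ih =>
          rw [show 2 * (n + 1) + 1 = 1 + (1 + (2 * n + 1)) by ring, pow_add, pow_add, pow_one]
          calc g₁ * (g₁ * g₁ ^ (2 * n + 1)) * (x : M) * (g₁ * (g₁ * g₁ ^ (2 * n + 1)))⁻¹
              = g₁ * (g₁ * (g₁ ^ (2 * n + 1) * (x : M) * (g₁ ^ (2 * n + 1))⁻¹) * g₁⁻¹) * g₁⁻¹ := by
                group
            _ = g₁ * (g₁ * (x : M) * g₁⁻¹)⁻¹ * g₁⁻¹ := by rw [ih]; group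
            _ = (x : M)⁻¹ := by
              rw [← hee, inv_inv]
              exact hee.symm
      obtain ⟨n, hn⟩ : Odd (p ^ i) := (hp.odd_of_ne_two hp2).pow
      have h := hev n
      rw [← hn, ← hg₁p, pow_orderOf_eq_one, one_mul, inv_one, mul_one] at h
      have h2 : (x : M) ^ 2 = 1 := by rw [pow_two]; nth_rewrite 2 [h]; exact mul_inv_cancel _
      have := orderOf_dvd_of_pow_eq_one h2
      rw [hx3] at this
      norm_num at this
  obtain ⟨h, hh⟩ := hconj g₁ (Or.inr ⟨fun e => hg₁Y (e ▸ one_mem Y), i, hg₁p⟩)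
  -- the conjugate of `x` fixes `b`
  have hne : h * g₁ * h⁻¹ ≠ 1 := fun e => hg₁Y (by rw [conj_eq_one_iff.1 e]; exact one_mem Y)
  have hfix : (h * (x : M) * h⁻¹) • b = b := by
    refine (hJ _ hh hne _).1 ?_
    have hc : h * g₁ * h⁻¹ * (h * x * h⁻¹) = h * x * h⁻¹ * (h * g₁ * h⁻¹) := by
      calc h * g₁ * h⁻¹ * (h * x * h⁻¹) = h * (g₁ * x * g₁⁻¹) * g₁ * h⁻¹ := by group
        _ = h * x * h⁻¹ * (h * g₁ * h⁻¹) := by rw [hcomm]; group
    rw [← mul_smul, hc, mul_smul, (hJ _ hh hne b).2 rfl]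
  have hxY : (x : M) ∈ Y := map_subtype_le _ x.2
  obtain ⟨l, hl⟩ := IsPGroup.iff_orderOf.1 hYb ⟨h * x * h⁻¹, mem_inf.2 ⟨hY.conj_mem _ hxY h, hfix⟩⟩
  rw [Subgroup.orderOf_mk] at hl
  have h3' : orderOf (h * (x : M) * h⁻¹) = 3 := by
    rw [← hx3]; exact (MulAut.conj h).orderOf_eq (x : M)
  have : 3 ∣ 2 ^ l := by rw [← hl, h3']
  exact absurd (Nat.prime_three.dvd_of_dvd_pow this) (by norm_num)

end CfsgLib.LocalEven.TIEndgame.CountThree
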