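import Cfsg.Agent.Lib.LocalEven.TIEndgame.Setup
import Mathlib.GroupTheory.Commutator.Basic

/-!
# Local data for Theorem T

Interfaces between the pieces of the proof in `tools/NOTES_TI_LEAN_PROOF.md`.  `Loc`, `Torus` and
`Rot` describe the group generated by the members in a subgroup `H` on the points whose group
meets `H`; for `H = centralizer {x}` with `x` bad these points are the fixed points of `x`.
-/

set_option autoImplicit false

namespace CfsgLib.LocalEven.TIEndgame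

open MulAction Subgroup
open scoped commutatorElement

universe u v

variable {G : Type u} [Group G] {Ω : Type v} [MulAction G Ω]

/-- The points whose `W`-group meets `H`. -/
def pts (W : Ω → Subgroup G) (H : Subgroup G) : Set Ω := {c | W c ⊓ H ≠ ⊥}

/-- The subgroup generated by the members in `H`. -/
def core (W : Ω → Subgroup G) (H : Subgroup G) : Subgroup G :=
  closure (members W ∩ (H : Set G))

/-- No involution of `core W H` fixes two points of `pts W H`. -/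
def CleanOn (W : Ω → Subgroup G) (H : Subgroup G) : Prop :=
  ∀ z ∈ core W H, orderOf z = 2 → ∀ a ∈ pts W H, ∀ b ∈ pts W H, z • a = a → z • b = b → a = b

/-- All bad involutions fixing `a` centralise `W a`. -/
def AllCentral (W : Ω → Subgroup G) (a : Ω) : Prop :=
  ∀ z : G, IsBad Ω z → z • a = a → ∀ d ∈ W a, Commute z d

/-- The centraliser of `W a` in the stabiliser of `a`. -/
def cW (W : Ω → Subgroup G) (a : Ω) : Subgroup G :=
  stabilizer G a ⊓ centralizer (W a : Set G)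

/-- The centraliser of `z` in `cW W a`. -/
def cY (W : Ω → Subgroup G) (a : Ω) (z : G) : Subgroup G := cW W a ⊓ centralizer {z}

/-- The centraliser of `z` modulo `W a` in `cW W a`. -/
def cMod (W : Ω → Subgroup G) (a : Ω) (z : G) : Subgroup G :=
  closure {g | g ∈ cW W a ∧ ⁅z, g⁆ ∈ W a}

/-- Every translation of `z` by an element of `W a` is induced inside `cW W a`. -/
def Shift (W : Ω → Subgroup G) (a : Ω) (z : G) : Prop :=
  ∀ f ∈ W a, ∃ g ∈ cW W a, ⁅z, g⁆ = f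

namespace TISetting

variable {W : Ω → Subgroup G} (h : TISetting W)
include h

omit h in
theorem centralizer_inter_members (z : G) :
    members W ∩ (centralizer {z} : Set G) = centred (members W) z := by
  ext d
  exact ⟨fun hd => ⟨hd.1, (Subgroup.mem_centralizer_singleton_iff.1 hd.2).symm⟩,
    fun hd => ⟨hd.1, Subgroup.mem_centralizer_singleton_iff.2 hd.2.eq.symm⟩⟩

omit h in
theorem core_centralizer (z : G) : core W (centralizer {z}) = lineGroup W z := by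
  rw [core, centralizer_inter_members]; rfl

theorem pts_centralizer [Finite G] {z : G} (hz : orderOf z = 2) :
    pts W (centralizer {z}) = {c : Ω | z • c = c} := by
  ext c
  constructor
  · intro hc
    obtain ⟨⟨d, hd⟩, hd1⟩ := (Subgroup.ne_bot_iff_exists_ne_one).1 hc
    have hd1' : d ≠ 1 := fun e => hd1 (Subtype.ext e)
    exact h.onePoint.fix_of_commute ⟨hd1', c, hd.1⟩ (mem_stabilizer_iff.1 (h.fix c hd.1))
      (Subgroup.mem_centralizer_singleton_iff.1 hd.2)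
  · intro hc
    obtain ⟨d, hd, hdz⟩ := OnePoint.exists_dat_commute (D := members W) h.covers hz hc
    rw [h.dat_eq] at hd
    refine (Subgroup.ne_bot_iff_exists_ne_one).2
      ⟨⟨d, hd.1, Subgroup.mem_centralizer_singleton_iff.2 hdz.eq.symm⟩, fun e => hd.2 ?_⟩
    exact congrArg Subtype.val e

end TISetting

/-- The splitting 2-group `Q` of `core W H` at the point `a`. -/
structure Loc (W : Ω → Subgroup G) (H : Subgroup G) (a : Ω) (Q : Subgroup G) : Prop where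
  le : Q ≤ core W H ⊓ stabilizer G a
  pgroup : IsPGroup 2 Q
  mem_of_two : ∀ x ∈ core W H, x • a = a → (∃ k : ℕ, x ^ 2 ^ k = 1) → x ∈ Q
  normal : ∀ g ∈ H, g • a = a → ∀ x ∈ Q, g * x * g⁻¹ ∈ Q
  inf_le : W a ⊓ H ≤ Q
  invol : ∀ x ∈ Q, x * x = 1 → x ∈ W a
  central : ∀ x ∈ Q, ∀ d ∈ W a ⊓ H, Commute x d
  sq_mem : ∀ x ∈ Q, x * x ∈ W a
  comm_mem : ∀ x ∈ Q, ∀ y ∈ Q, ⁅x, y⁆ ∈ W a
  regular : ∀ b ∈ pts W H, b ≠ a → ∀ c ∈ pts W H, c ≠ a → ∃! x : G, x ∈ Q ∧ x • b = c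
  card : Nat.card Q = Nat.card ↥(W a ⊓ H) ∨ Nat.card Q = Nat.card ↥(W a ⊓ H) ^ 2 ∨
    Nat.card Q = Nat.card ↥(W a ⊓ H) ^ 3
  square_log : Nat.card Q = Nat.card ↥(W a ⊓ H) ^ 2 →
    ∃ r : ℕ, Odd r ∧ 3 ≤ r ∧ Nat.card ↥(W a ⊓ H) = 2 ^ r
  square_inj : Nat.card Q = Nat.card ↥(W a ⊓ H) ^ 2 →
    ∀ x ∈ Q, ∀ y ∈ Q, x * x = y * y → x⁻¹ * y ∈ W a
  square_comm : Nat.card Q = Nat.card ↥(W a ⊓ H) ^ 2 →
    ∀ x ∈ Q, x ∉ W a → ∀ y ∈ Q, Commute x y → y ∈ W a ∨ x⁻¹ * y ∈ W a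

/-- The torus of `core W H` at the points `a`, `b`. -/
structure Torus (W : Ω → Subgroup G) (H : Subgroup G) (a b : Ω) (Q J : Subgroup G) : Prop where
  le : J ≤ core W H ⊓ stabilizer G a ⊓ stabilizer G b
  cyclic : IsCyclic J
  card : Nat.card J + 1 = Nat.card ↥(W a ⊓ H)
  normal : ∀ g ∈ H, g • a = a → g • b = b → ∀ j ∈ J, g * j * g⁻¹ ∈ J
  trans : ∀ f ∈ W a ⊓ H, f ≠ 1 → ∀ f' ∈ W a ⊓ H, f' ≠ 1 → ∃ j ∈ J, j * f * j⁻¹ = f'
  free_b : ∀ j ∈ J, j ≠ 1 → ∀ d ∈ W b ⊓ H, Commute j d → d = 1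
  fix_two : ∀ j ∈ J, j ≠ 1 → ∀ c ∈ pts W H, j • c = c → c = a ∨ c = b
  both : ∀ x ∈ H, x • a = a → x • b = b → (∀ d ∈ W a ⊓ H, Commute x d) →
    ∀ d ∈ W b ⊓ H, Commute x d
  full : Nat.card Q = Nat.card ↥(W a ⊓ H) → ∀ x ∈ core W H, x • a = a → x • b = b →
    ∀ f ∈ W a ⊓ H, f ≠ 1 → Commute x f → ∀ c ∈ pts W H, x • c = c

/-- A rotation of `core W H` at `a`, `b`, present when `|Q| = q³`. -/
structure Rot (W : Ω → Subgroup G) (H : Subgroup G) (a b : Ω) (Q J : Subgroup G) (w : G) :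
    Prop where
  mem : w ∈ core W H
  fix_a : w • a = a
  fix_b : w • b = b
  prime : ∃ p k : ℕ, p.Prime ∧ p ≠ 2 ∧ 0 < k ∧ orderOf w = p ^ k
  odd : Odd (orderOf w)
  central : ∀ d ∈ W a ⊓ H, Commute w d
  fpf : ∀ x ∈ Q, ⁅w, x⁆ ∈ W a → x ∈ W a
  irred : ∀ U : Subgroup G, W a ⊓ H ≤ U → U ≤ Q → (∀ x ∈ U, w * x * w⁻¹ ∈ U) →
    (∀ j ∈ J, ∀ x ∈ U, j * x * j⁻¹ ∈ U) → U = W a ⊓ H ∨ U = Q
  abelian : ∀ x ∈ core W H, x • a = a → x • b = b → (∀ d ∈ W a ⊓ H, Commute x d) →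
    ∀ y ∈ core W H, y • a = a → y • b = b → (∀ d ∈ W a ⊓ H, Commute y d) →
    ∀ z ∈ Q, Commute ⁅x, y⁆ z

/-- The standing data of the case where all bad involutions at `a` centralise `W a`. -/
structure Fam {G Ω : Type u} [Group G] [Finite G] [Finite Ω] [MulAction G Ω] [FaithfulSMul G Ω]
    (W : Ω → Subgroup G) (a b : Ω) (z : G) (Q N J : Subgroup G) : Prop where
  setting : TIMin G Ω W
  all : ∀ c : Ω, AllCentral W c
  four : 4 ≤ Nat.card ↥(W a)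
  bad : IsBad Ω z
  fix_a : z • a = a
  fix_b : z • b = b
  ne : b ≠ a
  maximal : ∀ z' : G, IsBad Ω z' → z' • a = a → Nat.card ↥(cY W a z') ≤ Nat.card ↥(cY W a z)
  loc : Loc W (centralizer {z}) a Q
  torus : Torus W (centralizer {z}) a b Q J
  not_cube : Nat.card Q = Nat.card ↥(W a) ∨ Nat.card Q = Nat.card ↥(W a) ^ 2
  eq_N : N = cY W a z ⊓ stabilizer G b
  mem_N : z ∈ N
  pointwise : ∀ n ∈ N, ∀ c : Ω, z • c = c → n • c = c
  sq_N : ∀ n ∈ N, n * n = 1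
  comm_Q : ∀ n ∈ N, ∀ x ∈ Q, Commute n x
  comm_J : ∀ n ∈ N, ∀ j ∈ J, Commute n j
  decomp : ∀ g ∈ cY W a z, ∃ x ∈ Q, ∃ n ∈ N, g = x * n
  cY_eq : ∀ n ∈ N, n ≠ 1 → cY W a n = cY W a z
  scalar : ∀ n ∈ N, n ≠ 1 → ∃ j ∈ J, ∀ f ∈ W a, ∀ c : Ω, c ≠ a → (z * f) • c = c →
    (n * (j * f * j⁻¹)) • c = c

end CfsgLib.LocalEven.TIEndgame
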