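import Mathlib.FieldTheory.Finite.GaloisField
import Cfsg.Agent.Lib.LocalEvenB.OddTransitive.Semilinear
import Cfsg.Agent.Lib.OddOrder.Final.Main

/-!
# Groups of odd order transitive on an elementary abelian 2-group

Such a group of automorphisms of a group of order `2 ^ r` has order `(2 ^ r - 1) s`, `s ∣ r`.
-/

set_option autoImplicit false
set_option linter.style.haveILetI false

namespace CfsgLib.LocalEven.TIEndgame.OddTransitiveCard

open MulAction CfsgLib.LocalEvenB.OddTransitive

universe u

theorem card_ringAut {R : Type*} [Field R] [Finite R] [CharP R 2] {r : ℕ}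
    (hR : Nat.card R = 2 ^ r) : Nat.card (R ≃+* R) = r := by
  letI : Algebra (ZMod 2) R := ZMod.algebra R 2
  have hfin : Module.finrank (ZMod 2) R = r := by
    have h := Module.natCard_eq_pow_finrank (K := ZMod 2) (V := R)
    rw [hR, Nat.card_zmod] at h
    exact (Nat.pow_right_injective le_rfl h).symm
  rw [← hfin, ← IsGalois.card_aut_eq_finrank]
  exact Nat.card_congr
    { toFun := fun σ => AlgEquiv.ofRingEquiv (f := σ) fun c => by
        rw [← ZMod.natCast_zmod_val c, map_natCast, map_natCast]
      invFun := fun σ => σ.toRingEquiv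
      left_inv := fun σ => RingEquiv.ext fun _ => rfl
      right_inv := fun σ => AlgEquiv.ext fun _ => rfl }

theorem card_eq {V : Type u} [Group V] [Finite V] (hV2 : ∀ v : V, v * v = 1) {r : ℕ} (hr0 : r ≠ 0)
    (hV : Nat.card V = 2 ^ r) (D : Subgroup (MulAut V)) (hodd : Odd (Nat.card D))
    (htrans : ∀ v w : V, v ≠ 1 → w ≠ 1 → ∃ d ∈ D, d v = w) :
    ∃ s, s ∣ r ∧ Nat.card D = (2 ^ r - 1) * s := by
  classical
  have hinv : ∀ v : V, v⁻¹ = v := fun v => inv_eq_of_mul_eq_one_right (hV2 v)
  letI : CommGroup V := { ‹Group V› with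
    mul_comm := fun v w => by
      calc v * w = (v * w)⁻¹ := (hinv _).symm
        _ = w * v := by rw [mul_inv_rev, hinv, hinv] }
  haveI : Finite (MulAut V) := Finite.of_injective _ DFunLike.coe_injective
  letI : DistribMulAction D (Additive V) :=
    { smul := fun d v => Additive.ofMul ((d : MulAut V) v.toMul)
      one_smul := fun v => rfl
      mul_smul := fun d d' v => rfl
      smul_zero := fun d => congrArg Additive.ofMul (map_one (d : MulAut V))
      smul_add := fun d v w => congrArg Additive.ofMul (map_mul (d : MulAut V) _ _) }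
  haveI : FaithfulSMul D (Additive V) := ⟨fun h =>
    Subtype.ext (MulEquiv.ext fun v => congrArg Additive.toMul (h (Additive.ofMul v)))⟩
  have htr : ∀ x y : Additive V, x ≠ 0 → y ≠ 0 → ∃ d : D, d • x = y := fun x y hx hy => by
    obtain ⟨d, hd, hdx⟩ := htrans x.toMul y.toMul (fun h => hx (congrArg Additive.ofMul h))
      (fun h => hy (congrArg Additive.ofMul h))
    exact ⟨⟨d, hd⟩, congrArg Additive.ofMul hdx⟩
  haveI : Nontrivial V := Finite.one_lt_card_iff_nontrivial.1
    (hV ▸ Nat.one_lt_two_pow hr0)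
  obtain ⟨a, ha⟩ := exists_ne (0 : Additive V)
  obtain ⟨-, R, hR, ψ, hψa, hψ⟩ := exists_semilinear (D := D) (E := Additive V) (q := 2) hodd
    (CfsgLib.OddOrder.Final.oddSolvable D hodd) Nat.prime_two
    (fun e => by rw [two_nsmul]; exact congrArg Additive.ofMul (hV2 e.toMul))
    (PMTransitive.of_transitive htr) ha
  letI : Field R := hR.toField
  haveI : Finite R := Finite.of_equiv _ ψ.toEquiv
  have hcardR : Nat.card R = 2 ^ r := by
    rw [← hV]; exact Nat.card_congr (ψ.toEquiv.symm.trans Additive.toMul)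
  haveI : CharP R 2 := by
    refine (CharP.charP_iff_prime_eq_zero Nat.prime_two).2 ?_
    rw [Nat.cast_ofNat, ← one_add_one_eq_two, ← hψa, ← map_add, ← map_zero ψ]
    exact congrArg ψ (congrArg Additive.ofMul (hV2 a.toMul))
  choose u σ hσ using hψ
  have hu : ∀ d ∈ stabilizer D a, ∀ x, ψ (d • x) = σ d (ψ x) := fun d hd x => by
    have h1 := hσ d a
    rw [mem_stabilizer_iff.1 hd, hψa, map_one, mul_one] at h1
    rw [hσ d x, ← h1, one_mul]
  let f : stabilizer D a →* (R ≃+* R) := MonoidHom.mk' (fun d => σ d) fun d d' =>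
    RingEquiv.ext fun y => by
      obtain ⟨x, rfl⟩ := ψ.surjective y
      show σ (d * d' : stabilizer D a) (ψ x) = σ d (σ d' (ψ x))
      rw [← hu _ (d * d').2, ← hu _ d'.2, ← hu _ d.2]
      exact congrArg ψ (mul_smul (d : D) (d' : D) x)
  have hf : Function.Injective f := fun d d' h => Subtype.ext
    (eq_of_smul_eq_smul (α := Additive V) fun x => ψ.injective (by
      rw [hu _ d.2, hu _ d'.2]; exact congrArg (fun g : R ≃+* R => g (ψ x)) h))
  refine ⟨Nat.card (stabilizer D a), ?_, ?_⟩
  · rw [← card_ringAut hcardR]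
    exact Subgroup.card_dvd_of_injective f hf
  · rw [← Subgroup.index_mul_card (stabilizer D a), index_stabilizer]
    congr 1
    have horb : orbit D a = ({0}ᶜ : Set (Additive V)) := by
      ext x
      refine ⟨?_, fun hx => htr a x ha hx⟩
      rintro ⟨d, rfl⟩
      exact fun h => ha ((smul_eq_zero_iff_eq d).1 h)
    rw [horb, Set.ncard_compl, Set.ncard_singleton,
      show Nat.card (Additive V) = 2 ^ r from hV ▸ Nat.card_congr Additive.toMul]

end CfsgLib.LocalEven.TIEndgame.OddTransitiveCard
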