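import Cfsg.Agent.Lib.LocalEven.TIEndgame.OddTransitiveCard

/-!
# Two-elements normalising an odd transitive group of an elementary group of odd rank

For odd `r` such an automorphism of a group of order `2 ^ r` is trivial: the scalars are the
Fitting subgroup, so the automorphism is semilinear, and the field has an automorphism group
of odd order.
-/

set_option autoImplicit false
set_option linter.style.haveILetI false

namespace CfsgLib.LocalEven.TIEndgame.OddTransitiveNormaliser

open MulAction CfsgLib.LocalEvenB.OddTransitive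

universe u

theorem three_lt_two_pow {n : ℕ} (hn : 2 ≤ n) : 3 * n < 2 * 2 ^ n := by
  induction n, hn using Nat.le_induction with
  | base => norm_num
  | succ n hn ih =>
    have : 4 ≤ 2 ^ n := Nat.pow_le_pow_right two_pos hn
    rw [pow_succ]
    omega

/-- In a field of order `2 ^ r`, `r` odd, a set with at least `(2 ^ r - 1) / r` elements generates
the field. -/
theorem closure_eq_top {R : Type*} [Field R] [Finite R] [CharP R 2] {r : ℕ}
    (hr : Odd r) (hr3 : 3 ≤ r) (hR : Nat.card R = 2 ^ r) {S : Set R} (h0 : (0 : R) ∉ S)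
    (hS : 2 ^ r - 1 ≤ r * S.ncard) : Subfield.closure S = ⊤ := by
  classical
  set K := Subfield.closure S with hK
  by_contra hne
  haveI : CharP K 2 := K.subtype.charP K.subtype.injective 2
  letI : Algebra (ZMod 2) K := ZMod.algebra K 2
  obtain ⟨k, hk⟩ : ∃ k, Nat.card K = 2 ^ k :=
    ⟨_, (Module.natCard_eq_pow_finrank (K := ZMod 2) (V := K)).trans (by rw [Nat.card_zmod])⟩
  have hpow := Module.natCard_eq_pow_finrank (K := K) (V := R)
  set m := Module.finrank K R with hm
  rw [hR, hk, ← pow_mul] at hpow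
  have hkm : r = k * m := Nat.pow_right_injective le_rfl hpow
  have hk0 : k ≠ 0 := by
    rintro rfl
    rw [zero_mul] at hkm
    omega
  have hm1 : m ≠ 1 := fun e => hne (by
    refine eq_top_iff.2 fun x _ => ?_
    have hle : Nat.card R ≤ Nat.card K := by rw [hR, hk, hkm, e, mul_one]
    obtain ⟨y, rfl⟩ := (Function.Injective.bijective_of_nat_card_le
      (f := (Subtype.val : K → R)) Subtype.val_injective hle).2 x
    exact y.2)
  have hm3 : 3 ≤ m := by
    rcases Nat.lt_or_ge m 3 with h | h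
    · interval_cases m
      · omega
      · exact absurd rfl hm1
      · exact absurd hr (Nat.not_odd_iff_even.2 (by rw [hkm]; exact Even.mul_left even_two k))
    · exact h
  have hcard : S.ncard + 1 ≤ 2 ^ k := by
    rw [← hk, ← Set.ncard_insert_of_notMem h0 (Set.toFinite S),
      show Nat.card K = (K : Set R).ncard from Nat.card_coe_set_eq _]
    exact Set.ncard_le_ncard (Set.insert_subset (zero_mem K) Subfield.subset_closure)
  have hrk : k + 2 * k ≤ r := by
    rw [hkm]
    calc k + 2 * k = k * 3 := by ring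
      _ ≤ k * m := Nat.mul_le_mul_left k hm3
  have hlt : r < 2 ^ (r - k) := by
    have := three_lt_two_pow (n := r - k) (by omega)
    omega
  have e1 : 2 ^ r = 2 ^ k * 2 ^ (r - k) := by rw [← pow_add, Nat.add_sub_cancel' (by omega)]
  have h2k : 2 ≤ 2 ^ k := Nat.one_lt_two_pow hk0
  have h1 : r * S.ncard ≤ r * (2 ^ k - 1) := Nat.mul_le_mul_left r (by omega)
  have h2 : r * (2 ^ k - 1) < 2 ^ (r - k) * (2 ^ k - 1) :=
    Nat.mul_lt_mul_of_pos_right hlt (by omega)
  have h3 : 2 ^ (r - k) * (2 ^ k - 1) + 1 ≤ 2 ^ r := by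
    rw [Nat.mul_sub, mul_one, e1, mul_comm (2 ^ (r - k))]
    have : 2 ≤ 2 ^ (r - k) := Nat.one_lt_two_pow (by omega)
    have h4 : 2 ^ (r - k) ≤ 2 ^ k * 2 ^ (r - k) := Nat.le_mul_of_pos_left _ (by positivity)
    omega
  omega

/-- The semilinear frame. -/
theorem exists_field {V : Type u} [CommGroup V] [Finite V] (hV2 : ∀ v : V, v * v = 1) {r : ℕ}
    (hr0 : r ≠ 0) (hV : Nat.card V = 2 ^ r) (D : Subgroup (MulAut V)) (hodd : Odd (Nat.card D))
    (htrans : ∀ v w : V, v ≠ 1 → w ≠ 1 → ∃ d ∈ D, d v = w) :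
    IsCyclic (Cfsg.fittingSubgroup D) ∧ 2 ^ r - 1 ≤ Nat.card D ∧
      ∃ (R : Type u) (_ : Field R) (_ : Finite R), CharP R 2 ∧ Nat.card R = 2 ^ r ∧
        ∃ ψ : Additive V ≃+ R, ∀ d ∈ D, ∃ (c : R) (θ : R ≃+* R), c ≠ 0 ∧
          ∀ v, ψ (Additive.ofMul (d v)) = c * θ (ψ (Additive.ofMul v)) := by
  classical
  letI : DistribMulAction D (Additive V) :=
    { smul := fun d v => Additive.ofMul ((d : MulAut V) v.toMul)
      one_smul := fun v => rfl
      mul_smul := fun d d' v => rfl
      smul_zero := fun d => congrArg Additive.ofMul (map_one (d : MulAut V))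
      smul_add := fun d v w => congrArg Additive.ofMul (map_mul (d : MulAut V) _ _) }
  haveI : FaithfulSMul D (Additive V) := ⟨fun h =>
    Subtype.ext (MulEquiv.ext fun v => congrArg Additive.toMul (h (Additive.ofMul v)))⟩
  haveI : Finite (MulAut V) := Finite.of_injective _ DFunLike.coe_injective
  have htr : ∀ x y : Additive V, x ≠ 0 → y ≠ 0 → ∃ d : D, d • x = y := fun x y hx hy => by
    obtain ⟨d, hd, hdx⟩ := htrans x.toMul y.toMul (fun h => hx (congrArg Additive.ofMul h))
      (fun h => hy (congrArg Additive.ofMul h))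
    exact ⟨⟨d, hd⟩, congrArg Additive.ofMul hdx⟩
  have hsolv := CfsgLib.OddOrder.Final.oddSolvable D hodd
  have hE : ∀ e : Additive V, 2 • e = 0 := fun e => by
    rw [two_nsmul]; exact congrArg Additive.ofMul (hV2 e.toMul)
  have hpm := PMTransitive.of_transitive htr
  obtain ⟨hcyc, -, -⟩ := main hodd hsolv Nat.prime_two hE hpm
  obtain ⟨s, -, hs⟩ := OddTransitiveCard.card_eq hV2 hr0 hV D hodd htrans
  refine ⟨hcyc, ?_, ?_⟩
  · rw [hs]
    refine Nat.le_mul_of_pos_right _ (Nat.pos_of_ne_zero fun e => ?_)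
    rw [e, mul_zero] at hs
    exact Nat.card_pos.ne' hs
  haveI : Nontrivial V := Finite.one_lt_card_iff_nontrivial.1 (hV ▸ Nat.one_lt_two_pow hr0)
  obtain ⟨a, ha⟩ := exists_ne (0 : Additive V)
  obtain ⟨-, R, hR, ψ, hψa, hψ⟩ := exists_semilinear (D := D) (E := Additive V) (q := 2) hodd hsolv
    Nat.prime_two hE hpm ha
  letI : Field R := hR.toField
  haveI : Finite R := Finite.of_equiv _ ψ.toEquiv
  have hchar : CharP R 2 := by
    refine (CharP.charP_iff_prime_eq_zero Nat.prime_two).2 ?_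
    rw [Nat.cast_ofNat, ← one_add_one_eq_two, ← hψa, ← map_add, ← map_zero ψ]
    exact congrArg ψ (congrArg Additive.ofMul (hV2 a.toMul))
  refine ⟨R, hR.toField, inferInstance, hchar, ?_, ψ, fun d hd => ?_⟩
  · rw [← hV]; exact Nat.card_congr (ψ.toEquiv.symm.trans Additive.toMul)
  obtain ⟨c, θ, h⟩ := hψ ⟨d, hd⟩
  exact ⟨c, θ, c.ne_zero, fun v => h (Additive.ofMul v)⟩

/-- The result. -/
theorem eq_one {V : Type u} [Group V] [Finite V] (hV2 : ∀ v : V, v * v = 1) {r : ℕ} (hr : Odd r)
    (hr3 : 3 ≤ r) (hV : Nat.card V = 2 ^ r) (D : Subgroup (MulAut V)) (hodd : Odd (Nat.card D))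
    (htrans : ∀ v w : V, v ≠ 1 → w ≠ 1 → ∃ d ∈ D, d v = w) {g : MulAut V}
    (hnorm : ∀ d ∈ D, g * d * g⁻¹ ∈ D) {k : ℕ} (hg : g ^ 2 ^ k = 1) : g = 1 := by
  classical
  have hinv : ∀ v : V, v⁻¹ = v := fun v => inv_eq_of_mul_eq_one_right (hV2 v)
  letI : CommGroup V := { ‹Group V› with
    mul_comm := fun v w => by
      calc v * w = (v * w)⁻¹ := (hinv _).symm
        _ = w * v := by rw [mul_inv_rev, hinv, hinv] }
  haveI : Finite (MulAut V) := Finite.of_injective _ DFunLike.coe_injective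
  obtain ⟨hcyc, hDcard, R, _, _, hchar, hR, ψ, hψ⟩ :=
    exists_field hV2 (by omega : r ≠ 0) hV D hodd htrans
  -- transport to the field
  let φ : MulAut V →* AddMonoid.End R :=
    { toFun := fun d => ψ.toAddMonoidHom.comp ((MulEquiv.toAdditive d).toAddMonoidHom.comp
        ψ.symm.toAddMonoidHom)
      map_one' := AddMonoidHom.ext fun x => ψ.apply_symm_apply x
      map_mul' := fun d d' => AddMonoidHom.ext fun x =>
        congrArg ψ (congrArg (MulEquiv.toAdditive d) (ψ.symm_apply_apply _).symm) }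
  have hφ : ∀ (d : MulAut V) (v : V),
      φ d (ψ (Additive.ofMul v)) = ψ (Additive.ofMul (d v)) := fun d v => by
    show ψ ((MulEquiv.toAdditive d) (ψ.symm (ψ (Additive.ofMul v)))) = _
    rw [ψ.symm_apply_apply]
    rfl
  have hφmul : ∀ (d d' : MulAut V) (x : R), φ (d * d') x = φ d (φ d' x) := fun d d' x => by
    rw [map_mul]; rfl
  have hφinj : Function.Injective φ := fun d d' h => MulEquiv.ext fun v => by
    have := congrArg (fun e : AddMonoid.End R => e (ψ (Additive.ofMul v))) h
    simp only [hφ] at this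
    exact Additive.ofMul.injective (ψ.injective this)
  have hsemi : ∀ d : D, ∃ p : R × (R ≃+* R), p.1 ≠ 0 ∧ ∀ x, φ d x = p.1 * p.2 x := fun d => by
    obtain ⟨c, θ, hc, h⟩ := hψ d d.2
    refine ⟨(c, θ), hc, fun x => ?_⟩
    obtain ⟨v, rfl⟩ : ∃ v, ψ (Additive.ofMul v) = x := ⟨(ψ.symm x).toMul, by simp⟩
    rw [hφ]; exact h v
  choose p hp0 hp using hsemi
  have huniq : ∀ (d : D) (c : R) (θ : R ≃+* R), (∀ x, φ d x = c * θ x) → (p d).2 = θ := by
    intro d c θ h
    have h1 : (p d).1 = c := by simpa [hp d 1] using h 1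
    exact RingEquiv.ext fun x => mul_left_cancel₀ (hp0 d) (by rw [← hp d x, h x, h1])
  let π : D →* (R ≃+* R) := MonoidHom.mk' (fun d => (p d).2) fun d d' =>
    huniq (d * d') ((p d).1 * (p d).2 (p d').1) _ fun x => by
      rw [Subgroup.coe_mul, hφmul, hp d', hp d, map_mul, ← mul_assoc]
      rfl
  have hscal : ∀ d : D, d ∈ π.ker ↔ ∀ x, φ d x = (p d).1 * x := fun d => by
    refine ⟨fun hd x => ?_, fun hd => huniq d (p d).1 1 hd⟩
    rw [hp d, show (p d).2 = 1 from hd]
    rfl
  haveI : Finite (R ≃+* R) := Finite.of_injective _ DFunLike.coe_injective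
  have hTcard : 2 ^ r - 1 ≤ r * Nat.card π.ker := by
    refine hDcard.trans ?_
    rw [← π.ker.card_mul_index, Subgroup.index_ker, mul_comm r]
    refine Nat.mul_le_mul_left _ ?_
    calc Nat.card π.range ≤ Nat.card (R ≃+* R) := Subgroup.card_le_card_group _
      _ = r := OddTransitiveCard.card_ringAut hR
  set S : Set R := Set.range fun t : π.ker => (p t).1 with hS
  have hScard : S.ncard = Nat.card π.ker := by
    rw [hS, ← Nat.card_coe_set_eq]
    refine Nat.card_range_of_injective fun t t' h => Subtype.ext (Subtype.ext (hφinj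
      (DFunLike.ext _ _ fun x => ?_)))
    rw [(hscal t).1 t.2, (hscal t').1 t'.2]
    exact congrArg (· * x) h
  have htop : Subfield.closure S = ⊤ := closure_eq_top hr hr3 hR
    (by rintro ⟨t, ht⟩; exact hp0 t ht) (by rwa [hScard])
  -- the scalars form the Fitting subgroup
  haveI : Group.IsNilpotent π.ker := by
    letI : CommGroup π.ker := { (inferInstance : Group π.ker) with
      mul_comm := fun t t' => Subtype.ext (Subtype.ext (hφinj (DFunLike.ext _ _ fun x => by
        simp only [Subgroup.coe_mul, hφmul, (hscal t).1 t.2, (hscal t').1 t'.2, mul_left_comm]))) }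
    exact CommGroup.isNilpotent
  have hTF : π.ker ≤ Cfsg.fittingSubgroup D :=
    CfsgLib.Solvable.Cores.le_fittingSubgroup inferInstance
  have hFT : Cfsg.fittingSubgroup D ≤ π.ker := by
    intro d hd
    have hfix : S ⊆ ((p d).2 : R →+* R).eqLocusField (RingHom.id R) := by
      rintro _ ⟨t, rfl⟩
      letI := IsCyclic.commGroup (α := Cfsg.fittingSubgroup D)
      have hc : d * (t : D) = (t : D) * d :=
        congrArg Subtype.val (mul_comm (⟨d, hd⟩ : Cfsg.fittingSubgroup D) ⟨t, hTF t.2⟩)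
      have := congrArg (fun e : D => φ e 1) hc
      simp only [Subgroup.coe_mul, hφmul, (hscal t).1 t.2, hp d, map_one,
        mul_one] at this
      show (p d).2 (p t).1 = (p t).1
      exact mul_left_cancel₀ (hp0 d) (this.trans (mul_comm _ _))
    refine MonoidHom.mem_ker.2 (RingEquiv.ext fun x => ?_)
    exact Subfield.closure_le.2 hfix (htop ▸ Subfield.mem_top x)
  -- the conjugate of a scalar is a scalar
  let cj : D →* D := MonoidHom.mk' (fun d => ⟨g * d * g⁻¹, hnorm d d.2⟩) fun d d' =>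
    Subtype.ext (by simp only [Subgroup.coe_mul]; group)
  have hcjinj : Function.Injective cj := fun d d' h =>
    Subtype.ext (mul_left_cancel (mul_right_cancel (congrArg Subtype.val h)))
  have hmapN : (π.ker.map cj).Normal := (MonoidHom.normal_ker π).map cj
    (Finite.injective_iff_surjective.1 hcjinj)
  have hmapnil : Group.IsNilpotent ↥(π.ker.map cj) :=
    Group.nilpotent_of_mulEquiv (π.ker.equivMapOfInjective cj hcjinj)
  have hmap : π.ker.map cj ≤ π.ker :=
    (CfsgLib.Solvable.Cores.le_fittingSubgroup (hn := hmapN) hmapnil).trans hFT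
  -- so `g` is semilinear
  set τ := φ g with hτ
  have hconj : ∀ t : π.ker, ∀ x, τ ((p t).1 * x) = (p (cj t)).1 * τ x := fun t x => by
    rw [← (hscal t).1 t.2, ← (hscal (cj t)).1 (hmap ⟨t, t.2, rfl⟩), hτ]
    show φ g (φ ((t : D) : MulAut V) x) = φ (g * ((t : D) : MulAut V) * g⁻¹) (φ g x)
    rw [← hφmul, ← hφmul, inv_mul_cancel_right]
  have hτ0 : ∀ x, τ x = 0 → x = 0 := fun x hx => by
    have h1 : φ g⁻¹ (τ x) = x := by rw [hτ, ← hφmul, inv_mul_cancel, map_one]; rfl
    rw [← h1, hx, map_zero]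
  have hτbij : Function.Bijective τ :=
    Finite.injective_iff_bijective.1 ((injective_iff_map_eq_zero τ).2 hτ0)
  let L : Subfield R :=
    { carrier := {c | ∃ c', ∀ x, τ (c * x) = c' * τ x}
      one_mem' := ⟨1, fun x => by rw [one_mul, one_mul]⟩
      zero_mem' := ⟨0, fun x => by rw [zero_mul, zero_mul, map_zero]⟩
      mul_mem' := by
        rintro c d ⟨c', hc⟩ ⟨d', hd⟩
        exact ⟨c' * d', fun x => by rw [mul_assoc, hc, hd, mul_assoc]⟩
      add_mem' := by
        rintro c d ⟨c', hc⟩ ⟨d', hd⟩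
        exact ⟨c' + d', fun x => by rw [add_mul, map_add, hc, hd, add_mul]⟩
      neg_mem' := by
        rintro c ⟨c', hc⟩
        exact ⟨-c', fun x => by rw [neg_mul, map_neg, hc, neg_mul]⟩
      inv_mem' := by
        rintro c ⟨c', hc⟩
        rcases eq_or_ne c 0 with rfl | hc0
        · exact ⟨0, fun x => by rw [inv_zero, zero_mul, map_zero, zero_mul]⟩
        have hc'0 : c' ≠ 0 := fun e => by
          have := hτ0 (c * 1) (by rw [hc, e, zero_mul])
          exact hc0 (by simpa using this)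
        refine ⟨c'⁻¹, fun x => ?_⟩
        have := hc (c⁻¹ * x)
        rw [← mul_assoc, mul_inv_cancel₀ hc0, one_mul] at this
        rw [this, inv_mul_cancel_left₀ hc'0] }
  have hL : ∀ c : R, ∃ c', ∀ x, τ (c * x) = c' * τ x := fun c =>
    (show Subfield.closure S ≤ L from
      Subfield.closure_le.2 (by rintro _ ⟨t, rfl⟩; exact ⟨_, hconj t⟩))
      (htop ▸ Subfield.mem_top c)
  set u := τ 1 with hu
  have hu0 : u ≠ 0 := fun e => one_ne_zero (hτ0 1 e)
  let ρ : R ≃+* R :=
    { ((Equiv.ofBijective _ hτbij).trans (Equiv.mulLeft₀ u⁻¹ (inv_ne_zero hu0))) with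
      map_mul' := fun c x => by
        obtain ⟨c', hc⟩ := hL c
        have h1 := hc 1
        rw [mul_one, ← hu] at h1
        show u⁻¹ * τ (c * x) = (u⁻¹ * τ c) * (u⁻¹ * τ x)
        rw [hc x, h1]
        field_simp
      map_add' := fun c x => by
        show u⁻¹ * τ (c + x) = u⁻¹ * τ c + u⁻¹ * τ x
        rw [map_add, mul_add] }
  have hτρ : ∀ x, τ x = u * ρ x := fun x => by
    show τ x = u * (u⁻¹ * τ x)
    rw [mul_inv_cancel_left₀ hu0]
  have hiter : ∀ i : ℕ, ∀ x, (τ ^ i) x = (τ ^ i) 1 * (ρ ^ i) x := by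
    intro i
    induction i with
    | zero =>
      intro x
      rw [pow_zero, pow_zero]
      exact (one_mul x).symm
    | succ i ih =>
      intro x
      rw [pow_succ']
      show τ ((τ ^ i) x) = τ ((τ ^ i) 1) * _
      rw [ih x, hτρ, hτρ ((τ ^ i) 1), map_mul, pow_succ', ← mul_assoc]
      rfl
  have hgτ : τ ^ 2 ^ k = 1 := by rw [hτ, ← map_pow, hg, map_one]
  have hρk : ρ ^ 2 ^ k = 1 := RingEquiv.ext fun x => by
    have := hiter (2 ^ k) x
    rw [hgτ] at this
    exact (this.trans (one_mul _)).symm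
  have hρ : ρ = 1 := by
    have h1 : orderOf ρ ∣ 2 ^ k := orderOf_dvd_of_pow_eq_one hρk
    have h2 : orderOf ρ ∣ r := OddTransitiveCard.card_ringAut hR ▸ orderOf_dvd_natCard ρ
    have h3 := Nat.dvd_gcd h1 h2
    rw [Nat.Coprime.gcd_eq_one ((Nat.coprime_two_left.2 hr).pow_left k)] at h3
    exact orderOf_eq_one_iff.1 (Nat.dvd_one.1 h3)
  have hpw : ∀ i : ℕ, (τ ^ i) 1 = u ^ i := by
    intro i
    induction i with
    | zero => rw [pow_zero, pow_zero]; rfl
    | succ i ih =>
      rw [pow_succ']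
      show τ ((τ ^ i) 1) = _
      rw [ih, hτρ, hρ]
      exact (pow_succ' u i).symm
  have hu1 : u = 1 := by
    have h1 : u ^ 2 ^ k = 1 := by rw [← hpw, hgτ]; rfl
    have h2 : (u - 1) ^ 2 ^ k = 0 := by rw [sub_pow_char_pow, h1, one_pow, sub_self]
    exact sub_eq_zero.1 (pow_eq_zero_iff (pow_ne_zero k two_ne_zero) |>.1 h2)
  refine hφinj ?_
  rw [map_one]
  exact DFunLike.ext _ _ fun x => by rw [← hτ, hτρ, hρ, hu1, one_mul]; rfl

end CfsgLib.LocalEven.TIEndgame.OddTransitiveNormaliser
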