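import Mathlib.Algebra.CharP.Quotient
import Mathlib.Algebra.CharP.Two
import Mathlib.Algebra.GroupWithZero.Action.Basic
import Mathlib.Algebra.MvPolynomial.Rename
import Mathlib.Algebra.Polynomial.BigOperators
import Mathlib.Algebra.Ring.Action.Basic
import Mathlib.GroupTheory.OrderOfElement
import Mathlib.RingTheory.Artinian.Module
import Mathlib.RingTheory.Jacobson.Ring

/-!
# An invariant nondegenerate form excludes a twisted abelian group of odd order

`K` is an abelian group of odd order acting on an elementary abelian 2-group `V` without fixed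
points and preserving a nondegenerate biadditive form; `t` normalises it, its powers short of `m`
centralise nothing in it, and it fixes at most two vectors. Then `K` acts trivially.
The proof: `V` is spanned by the `K`-translates of the fixed vector, so the operators of `K` span a
commutative ring with `t`-fixed part `{0, 1}`; the adjoint is a ring endomorphism, so each character
of `K` is inverted by a power of `t` of odd order, hence is trivial.
-/

set_option autoImplicit false
set_option linter.style.haveILetI false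

namespace CfsgLib.LocalEven.TIEndgame.OddFormRigid

open Finset

/-- Two homomorphisms into a domain of a ring whose fixed part is `{0, 1}`. -/
theorem exists_iterate_eq {R L : Type*} [CommRing R] [CommRing L] [IsDomain L] (τ : R →+* R)
    {m : ℕ} (hm : 0 < m) (hτ : ∀ r, τ^[m] r = r) (hfix : ∀ r, τ r = r → r = 0 ∨ r = 1)
    (χ ψ : R →+* L) {ι : Type*} [Fintype ι] (x : ι → R) :
    ∃ j < m, ∀ i, ψ (x i) = χ (τ^[j] (x i)) := by
  classical
  let T : MvPolynomial ι R →+* MvPolynomial ι R := MvPolynomial.map τ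
  let g : MvPolynomial ι R := ∑ i, MvPolynomial.C (x i) * MvPolynomial.X i
  have hTit : ∀ j, T^[j] g = ∑ i, MvPolynomial.C (τ^[j] (x i)) * MvPolynomial.X i := by
    intro j
    induction j with
    | zero => rfl
    | succ j ih =>
      rw [Function.iterate_succ_apply', ih, map_sum]
      refine sum_congr rfl fun i _ => ?_
      rw [map_mul, MvPolynomial.map_C, MvPolynomial.map_X, Function.iterate_succ_apply']
  let P : Polynomial (MvPolynomial ι R) :=
    ∏ j ∈ range m, (Polynomial.X - Polynomial.C (T^[j] g))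
  have hperiod : T^[m] g = g := by
    rw [hTit]; simp only [hτ]; rfl
  have hPT : P.map T = P := by
    show Polynomial.map T P = P
    simp only [P, Polynomial.map_prod, Polynomial.map_sub, Polynomial.map_X, Polynomial.map_C,
      ← Function.iterate_succ_apply']
    obtain ⟨k, rfl⟩ := Nat.exists_eq_succ_of_ne_zero hm.ne'
    rw [prod_range_succ, hperiod, prod_range_succ' (fun j => Polynomial.X - Polynomial.C (T^[j] g))]
    rfl
  let Ψ : MvPolynomial ι R →+* MvPolynomial ι L := MvPolynomial.map ψ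
  let Φ : MvPolynomial ι R →+* MvPolynomial ι L := MvPolynomial.map χ
  have hsame : P.map Ψ = P.map Φ := by
    refine Polynomial.ext fun n => MvPolynomial.ext _ _ fun d => ?_
    rw [Polynomial.coeff_map, Polynomial.coeff_map, MvPolynomial.coeff_map, MvPolynomial.coeff_map]
    rcases hfix (MvPolynomial.coeff d (P.coeff n)) (by
      conv_rhs => rw [← hPT]
      rw [Polynomial.coeff_map, MvPolynomial.coeff_map]) with h | h <;> simp [h]
  have hroot : (P.map Φ).eval (Ψ g) = 0 := by
    rw [← hsame, Polynomial.eval_map, Polynomial.eval₂_at_apply]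
    have : P.eval g = 0 := by
      rw [Polynomial.eval_prod]
      exact prod_eq_zero (mem_range.2 hm) (by simp)
    rw [this, map_zero]
  simp only [P, Polynomial.map_prod, Polynomial.eval_prod, Polynomial.map_sub, Polynomial.map_X,
    Polynomial.map_C, Polynomial.eval_sub, Polynomial.eval_X, Polynomial.eval_C] at hroot
  obtain ⟨j, hj, hjz⟩ := prod_eq_zero_iff.1 hroot
  refine ⟨j, mem_range.1 hj, fun i => ?_⟩
  have hh : ∀ (f : R →+* L) (y : ι → R),
      MvPolynomial.coeff (Finsupp.single i 1)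
        (MvPolynomial.map f (∑ i, MvPolynomial.C (y i) * MvPolynomial.X i)) = f (y i) := by
    intro f y
    rw [MvPolynomial.coeff_map, MvPolynomial.coeff_sum]
    congr 1
    rw [sum_eq_single i]
    · simp
    · intro k _ hk
      rw [MvPolynomial.coeff_C_mul, MvPolynomial.coeff_X, if_neg, mul_zero]
      exact fun e => hk ((Finsupp.single_left_inj one_ne_zero).1 e)
    · exact fun h => absurd (mem_univ _) h
  have h5 := congrArg (MvPolynomial.coeff (Finsupp.single i 1)) (sub_eq_zero.1 hjz)
  change MvPolynomial.coeff (Finsupp.single i 1)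
    (MvPolynomial.map ψ (∑ i, MvPolynomial.C (x i) * MvPolynomial.X i)) = _ at h5
  rw [hTit, hh, hh] at h5
  exact h5

variable {V U X : Type*} [AddCommGroup V] [AddCommGroup U] [Group X]
  [DistribMulAction X V]

/-- The translates of the fixed vector span. -/
theorem mem_closure_orbit (h2 : ∀ v : V, v + v = 0) (K : Subgroup X) [Finite K]
    (hodd : Odd (Nat.card K)) (hfix : ∀ v : V, (∀ k ∈ K, k • v = v) → v = 0) (t : X)
    (hnorm : ∀ k ∈ K, t * k * t⁻¹ ∈ K) (e : V) (het : ∀ v : V, t • v = v → v = 0 ∨ v = e)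
    {m : ℕ} (hm : 0 < m) (htm : ∀ v : V, t ^ m • v = v)
    (hfpf : ∀ k ∈ K, ∀ j, 0 < j → j < m → t ^ j * k * (t ^ j)⁻¹ = k → k = 1) (v : V) :
    v ∈ AddSubgroup.closure ((fun k : X => k • e) '' (K : Set X)) := by
  classical
  haveI := Fintype.ofFinite K
  set S : V → V := fun w => ∑ j ∈ range m, t ^ j • w with hS
  have hSfix : ∀ w, t • S w = S w := by
    intro w
    obtain ⟨n, rfl⟩ := Nat.exists_eq_succ_of_ne_zero hm.ne'
    simp only [hS, smul_sum, smul_smul, ← pow_succ']
    rw [sum_range_succ (fun j => t ^ (j + 1) • w), sum_range_succ' (fun j => t ^ j • w), htm,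
      pow_zero, one_smul]
  have hK0 : ∀ w : V, ∑ k : K, (k : X) • w = 0 := fun w => hfix _ fun k hk => by
    rw [smul_sum]
    exact Fintype.sum_equiv (Equiv.mulLeft (⟨k, hk⟩ : K)) _ _ fun x => smul_smul k (x : X) w
  have hpow : ∀ j, ∀ k ∈ K, t ^ j * k * (t ^ j)⁻¹ ∈ K := by
    intro j
    induction j with
    | zero => intro k hk; simpa using hk
    | succ j ih =>
      intro k hk
      rw [show t ^ (j + 1) * k * (t ^ (j + 1))⁻¹ = t * (t ^ j * k * (t ^ j)⁻¹) * t⁻¹ by
        rw [pow_succ']; group]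
      exact hnorm _ (ih k hk)
  have hterm : ∀ j, 0 < j → j < m → ∑ k : K, (k : X)⁻¹ • t ^ j • (k : X) • v = 0 := by
    intro j hj0 hjm
    let f : K → K := fun k => ⟨(k : X)⁻¹ * (t ^ j * k * (t ^ j)⁻¹),
      mul_mem (inv_mem k.2) (hpow j k k.2)⟩
    have hf : Function.Bijective f := Finite.injective_iff_bijective.1 fun k l hkl => by
      have h1 : (k : X)⁻¹ * (t ^ j * k * (t ^ j)⁻¹) = (l : X)⁻¹ * (t ^ j * l * (t ^ j)⁻¹) :=
        congrArg Subtype.val hkl
      have h2' : t ^ j * ((k : X) * (l : X)⁻¹) * (t ^ j)⁻¹ = (k : X) * (l : X)⁻¹ := by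
        calc t ^ j * ((k : X) * (l : X)⁻¹) * (t ^ j)⁻¹
            = (k : X) * ((k : X)⁻¹ * (t ^ j * k * (t ^ j)⁻¹)) *
              ((l : X)⁻¹ * (t ^ j * l * (t ^ j)⁻¹))⁻¹ * (l : X)⁻¹ := by group
          _ = (k : X) * (l : X)⁻¹ := by rw [h1]; group
      exact Subtype.ext (mul_inv_eq_one.1 (hfpf _ (mul_mem k.2 (inv_mem l.2)) j hj0 hjm h2'))
    calc ∑ k : K, (k : X)⁻¹ • t ^ j • (k : X) • v = ∑ k : K, ((f k : K) : X) • (t ^ j • v) :=
          sum_congr rfl fun k _ => by
            simp only [f, smul_smul]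
            congr 1
            group
      _ = ∑ k : K, (k : X) • (t ^ j • v) := hf.sum_comp fun k : K => (k : X) • (t ^ j • v)
      _ = 0 := hK0 _
  have hv : v = ∑ k : K, (k : X)⁻¹ • S ((k : X) • v) := by
    simp only [hS, smul_sum]
    rw [sum_comm, sum_eq_single 0]
    · simp only [pow_zero, one_smul, inv_smul_smul, sum_const, card_univ, ← Nat.card_eq_fintype_card]
      obtain ⟨n, hn⟩ := hodd
      rw [hn, succ_nsmul, mul_comm 2 n, mul_nsmul', two_nsmul, h2, nsmul_zero, zero_add]
    · exact fun j hj hj0 => hterm j (Nat.pos_of_ne_zero hj0) (mem_range.1 hj)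
    · exact fun h => absurd (mem_range.2 hm) h
  rw [hv]
  refine sum_mem fun k _ => ?_
  rcases het _ (hSfix ((k : X) • v)) with h | h <;> rw [h]
  · rw [smul_zero]; exact zero_mem _
  · exact AddSubgroup.subset_closure ⟨(k : X)⁻¹, inv_mem k.2, rfl⟩

/-- The group acts trivially. -/
theorem smul_eq_self [Finite V] (h2 : ∀ v : V, v + v = 0) (B : V →+ V →+ U)
    (hnd : ∀ v, (∀ w, B v w = 0) → v = 0) (hsymm : ∀ v w, B v w = B w v)
    (K : Subgroup X) [Finite K] (hcomm : ∀ k ∈ K, ∀ l ∈ K, Commute k l)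
    (hodd : Odd (Nat.card K)) (hfix : ∀ v : V, (∀ k ∈ K, k • v = v) → v = 0)
    (hinv : ∀ k ∈ K, ∀ v w, B (k • v) (k • w) = B v w) (t : X)
    (hnorm : ∀ k ∈ K, t * k * t⁻¹ ∈ K) (e : V) (hte : t • e = e)
    (het : ∀ v : V, t • v = v → v = 0 ∨ v = e) {m : ℕ} (hm : Odd m)
    (htm : ∀ v : V, t ^ m • v = v)
    (hfpf : ∀ k ∈ K, ∀ j, 0 < j → j < m → t ^ j * k * (t ^ j)⁻¹ = k → k = 1)
    {k : X} (hk : k ∈ K) (v : V) : k • v = v := by
  classical
  haveI := Fintype.ofFinite K
  have hspan := mem_closure_orbit h2 K hodd hfix t hnorm e het hm.pos htm hfpf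
  let op : X →* AddMonoid.End V := DistribMulAction.toAddMonoidEnd X V
  have hop : ∀ (x : X) (w : V), op x w = x • w := fun _ _ => rfl
  let S : Set (AddMonoid.End V) := op '' (K : Set X)
  let R : Subring (AddMonoid.End V) := Subring.closure S
  have hS : ∀ f ∈ S, ∀ g ∈ S, f * g = g * f := by
    rintro _ ⟨x, hx, rfl⟩ _ ⟨y, hy, rfl⟩
    rw [← map_mul, ← map_mul, (hcomm x hx y hy).eq]
  letI : CommRing R := Subring.closureCommRingOfComm hS
  haveI : Finite (AddMonoid.End V) :=
    Finite.of_injective (fun f : AddMonoid.End V => (f : V → V)) DFunLike.coe_injective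
  have hmemR : ∀ x ∈ K, op x ∈ R := fun x hx => Subring.subset_closure ⟨x, hx, rfl⟩
  -- an element of `R` is determined at `e`
  have hdet : ∀ r s : R, r.1 e = s.1 e → r = s := by
    intro r s hrs
    refine Subtype.ext (AddMonoidHom.ext fun w => ?_)
    have hle : AddSubgroup.closure ((fun x : X => x • e) '' (K : Set X)) ≤
        AddMonoidHom.eqLocus r.1 s.1 := by
      refine (AddSubgroup.closure_le _).2 ?_
      rintro _ ⟨x, hx, rfl⟩
      have hr := congrArg (fun q : R => q.1 e) (mul_comm r (⟨op x, hmemR x hx⟩ : R))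
      have hs := congrArg (fun q : R => q.1 e) (mul_comm s (⟨op x, hmemR x hx⟩ : R))
      show r.1 (x • e) = s.1 (x • e)
      simp only [Subring.coe_mul, AddMonoid.End.coe_mul, Function.comp_apply, hop] at hr hs
      rw [hr, hs, hrs]
    exact hle (hspan w)
  -- conjugation by `t`
  have hconj : ∀ f ∈ R, op t * f * op t⁻¹ ∈ R := by
    intro f hf
    induction hf using Subring.closure_induction with
    | mem f hf =>
      obtain ⟨x, hx, rfl⟩ := hf
      rw [← map_mul, ← map_mul]
      exact hmemR _ (hnorm x hx)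
    | zero => rw [mul_zero, zero_mul]; exact zero_mem _
    | one => rw [mul_one, ← map_mul, mul_inv_cancel, map_one]; exact one_mem _
    | add f g _ _ ihf ihg => rw [mul_add, add_mul]; exact add_mem ihf ihg
    | neg f _ ih => rw [mul_neg, neg_mul]; exact neg_mem ih
    | mul f g _ _ ihf ihg =>
      have := mul_mem ihf ihg
      rwa [show op t * f * op t⁻¹ * (op t * g * op t⁻¹) = op t * f * (op t⁻¹ * op t) * g * op t⁻¹ by
        simp [mul_assoc], ← map_mul op t⁻¹ t, inv_mul_cancel, map_one, mul_one, mul_assoc (op t) f g]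
        at this
  let τ : R →+* R :=
    { toFun := fun f => ⟨op t * f.1 * op t⁻¹, hconj f.1 f.2⟩
      map_one' := Subtype.ext (by simp [← map_mul])
      map_mul' := fun f g => Subtype.ext (by
        show op t * (f.1 * g.1) * op t⁻¹ = op t * f.1 * op t⁻¹ * (op t * g.1 * op t⁻¹)
        rw [show op t * f.1 * op t⁻¹ * (op t * g.1 * op t⁻¹) =
          op t * f.1 * (op t⁻¹ * op t) * g.1 * op t⁻¹ by simp [mul_assoc], ← map_mul op t⁻¹ t,
          inv_mul_cancel, map_one, mul_one]
        simp only [mul_assoc])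
      map_zero' := Subtype.ext (by simp)
      map_add' := fun f g => Subtype.ext (by simp [mul_add, add_mul]) }
  have hτit : ∀ (j : ℕ) (r : R) (w : V), (τ^[j] r).1 w = t ^ j • r.1 ((t ^ j)⁻¹ • w) := by
    intro j
    induction j with
    | zero => intro r w; simp
    | succ j ih =>
      intro r w
      rw [Function.iterate_succ_apply']
      show t • ((τ^[j] r).1 (t⁻¹ • w)) = _
      rw [ih, smul_smul, smul_smul, pow_succ' t j, mul_inv_rev]
  have hτm : ∀ r, τ^[m] r = r := fun r => hdet _ _ (by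
    rw [hτit, inv_smul_eq_iff.2 (htm e).symm, htm])
  have hτfix : ∀ r, τ r = r → r = 0 ∨ r = 1 := by
    intro r hr
    have h1 : t • r.1 e = r.1 e := by
      have := congrArg (fun q : R => q.1 e) hr
      change t • r.1 (t⁻¹ • e) = r.1 e at this
      rwa [inv_smul_eq_iff.2 hte.symm] at this
    rcases het _ h1 with h | h
    · exact Or.inl (hdet _ _ (by simpa using h))
    · exact Or.inr (hdet _ _ (by simpa using h))
  -- the adjoint
  have hadj : ∀ f ∈ R, ∃ g : R, ∀ v w, B (f v) w = B v (g.1 w) := by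
    intro f hf
    induction hf using Subring.closure_induction with
    | mem f hf =>
      obtain ⟨x, hx, rfl⟩ := hf
      refine ⟨⟨op x⁻¹, hmemR _ (inv_mem hx)⟩, fun v w => ?_⟩
      show B (x • v) w = B v (x⁻¹ • w)
      rw [← hinv x hx v (x⁻¹ • w), smul_inv_smul]
    | zero => exact ⟨0, fun v w => by simp⟩
    | one => exact ⟨1, fun v w => by simp⟩
    | add f g _ _ ihf ihg =>
      obtain ⟨f', hf'⟩ := ihf
      obtain ⟨g', hg'⟩ := ihg
      refine ⟨f' + g', fun v w => ?_⟩
      show B (f v + g v) w = B v (f'.1 w + g'.1 w)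
      rw [map_add, AddMonoidHom.add_apply, hf', hg', map_add]
    | neg f _ ih =>
      obtain ⟨f', hf'⟩ := ih
      refine ⟨-f', fun v w => ?_⟩
      show B (-f v) w = B v (-f'.1 w)
      rw [map_neg, AddMonoidHom.neg_apply, hf', map_neg]
    | mul f g _ _ ihf ihg =>
      obtain ⟨f', hf'⟩ := ihf
      obtain ⟨g', hg'⟩ := ihg
      refine ⟨g' * f', fun v w => ?_⟩
      show B (f (g v)) w = B v (g'.1 (f'.1 w))
      rw [hf', hg']
  choose adj hadj using fun r : R => hadj r.1 r.2
  have huniq : ∀ (r : R) (g : R), (∀ v w, B (r.1 v) w = B v (g.1 w)) → adj r = g := fun r g hg => by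
    refine Subtype.ext (AddMonoidHom.ext fun w => ?_)
    refine sub_eq_zero.1 (hnd _ fun v => ?_)
    have h1 : B v ((adj r).1 w) = B v (g.1 w) := by rw [← hadj, hg]
    rw [hsymm, map_sub, sub_eq_zero]
    exact h1
  let σ : R →+* R :=
    { toFun := adj
      map_one' := huniq 1 1 fun v w => rfl
      map_mul' := fun r s => huniq _ _ fun v w => by
        show B (r.1 (s.1 v)) w = B v ((adj r * adj s).1 w)
        rw [mul_comm (adj r), hadj, hadj]
        rfl
      map_zero' := huniq 0 0 fun v w => by simp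
      map_add' := fun r s => huniq _ _ fun v w => by
        show B (r.1 v + s.1 v) w = B v ((adj r).1 w + (adj s).1 w)
        rw [map_add, AddMonoidHom.add_apply, hadj, hadj, map_add] }
  let κ : K →* R :=
    { toFun := fun x => ⟨op x, hmemR x x.2⟩
      map_one' := Subtype.ext (map_one op)
      map_mul' := fun x y => Subtype.ext (map_mul op (x : X) y) }
  have hσκ : ∀ x : K, σ (κ x) = κ x⁻¹ := fun x => huniq _ _ fun v w => by
    show B ((x : X) • v) w = B v (((x⁻¹ : K) : X) • w)
    rw [Subgroup.coe_inv, ← hinv x x.2 v ((x : X)⁻¹ • w), smul_inv_smul]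
  have h2R : (2 : R) = 0 := Subtype.ext (AddMonoidHom.ext fun w => by
    rw [show (2 : R) = 1 + 1 from one_add_one_eq_two.symm]
    exact h2 w)
  -- every character of `K` is trivial
  have hnil : IsNilpotent (κ ⟨k, hk⟩ - 1) := by
    rw [← mem_nilradical, nilradical_eq_sInf]
    refine Submodule.mem_sInf.2 fun (P : Ideal R) (hP : Ideal.IsPrime P) => ?_
    haveI : Ideal.IsPrime P := hP
    letI χ := Ideal.Quotient.mk P
    have h2L : (2 : R ⧸ P) = 0 := by
      rw [← map_ofNat χ 2, h2R, map_zero]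
    obtain ⟨j, -, hj⟩ := exists_iterate_eq τ hm.pos hτm hτfix χ (χ.comp σ) (fun x : K => κ x)
    have hc : ∀ (i : ℕ) (x : K), ∃ y : K, κ y = τ^[i] (κ x) := fun i x => by
      induction i with
      | zero => exact ⟨x, rfl⟩
      | succ i ih =>
        obtain ⟨y, hy⟩ := ih
        refine ⟨⟨t * y * t⁻¹, hnorm y y.2⟩, ?_⟩
        rw [Function.iterate_succ_apply', ← hy]
        exact Subtype.ext (by
          show op (t * (y : X) * t⁻¹) = op t * op y * op t⁻¹
          rw [map_mul, map_mul])
    have hmulκ : ∀ x : K, χ (κ x⁻¹) * χ (κ x) = 1 := fun x => by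
      rw [← map_mul, ← map_mul, inv_mul_cancel, map_one, map_one]
    have hj' : ∀ x : K, χ (κ x⁻¹) = χ (τ^[j] (κ x)) := fun x => by
      have := hj x
      rwa [RingHom.comp_apply, hσκ] at this
    have hdouble : ∀ x : K, χ (τ^[2 * j] (κ x)) = χ (κ x) := fun x => by
      obtain ⟨y, hy⟩ := hc j x
      rw [two_mul, Function.iterate_add_apply, ← hy, ← hj']
      have h1 := hmulκ y
      rw [show χ (κ y) = χ (κ x⁻¹) by rw [hj', hy]] at h1
      have h3 := hmulκ x
      calc χ (κ y⁻¹) = χ (κ y⁻¹) * (χ (κ x⁻¹) * χ (κ x)) := by rw [h3, mul_one]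
        _ = χ (κ x) := by rw [← mul_assoc, h1, one_mul]
    have heven : ∀ (i : ℕ) (x : K), χ (τ^[2 * j * i] (κ x)) = χ (κ x) := fun i => by
      induction i with
      | zero => intro x; rfl
      | succ i ih =>
        intro x
        obtain ⟨y, hy⟩ := hc (2 * j) x
        rw [show 2 * j * (i + 1) = 2 * j * i + 2 * j by ring, Function.iterate_add_apply, ← hy, ih,
          hy, hdouble]
    obtain ⟨n, hn⟩ := hm
    have hperiodic : ∀ (i : ℕ) (r : R), τ^[m * i] r = r := fun i r => by
      rw [Function.iterate_mul]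
      exact Function.iterate_fixed (hτm r) i
    have hfin := heven (n + 1) ⟨k, hk⟩
    rw [show 2 * j * (n + 1) = j + m * j by rw [hn]; ring, Function.iterate_add_apply, hperiodic,
      ← hj'] at hfin
    have h1 := hmulκ ⟨k, hk⟩
    rw [hfin] at h1
    refine Ideal.Quotient.eq_zero_iff_mem.1 ?_
    have h3 : (χ (κ ⟨k, hk⟩) - 1) * (χ (κ ⟨k, hk⟩) - 1) = 0 := by
      linear_combination h1 + (1 - χ (κ ⟨k, hk⟩)) * h2L
    rw [map_sub, map_one]
    exact mul_self_eq_zero.1 h3
  obtain ⟨N, hN⟩ := hnil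
  have hpow2 : κ ⟨k, hk⟩ ^ 2 ^ N = 1 := by
    haveI : Fact (Nat.Prime 2) := ⟨Nat.prime_two⟩
    rcases subsingleton_or_nontrivial R with hR | hR
    · exact Subsingleton.elim _ _
    haveI : CharP R 2 := CharTwo.of_one_ne_zero_of_two_eq_zero one_ne_zero h2R
    have := pow_eq_zero_of_le (Nat.lt_two_pow_self (n := N)).le hN
    rwa [sub_pow_char_pow, one_pow, sub_eq_zero] at this
  have hone : κ ⟨k, hk⟩ = 1 := by
    have h1 : κ ⟨k, hk⟩ ^ Nat.card K = 1 := by rw [← map_pow, pow_card_eq_one', map_one]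
    have h3 := pow_gcd_eq_one.2 ⟨hpow2, h1⟩
    rwa [Nat.Coprime.gcd_eq_one ((Nat.coprime_two_left.2 hodd).pow_left N), pow_one] at h3
  exact congrArg (fun q : R => q.1 v) hone

end CfsgLib.LocalEven.TIEndgame.OddFormRigid
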