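import Mathlib.FieldTheory.Finite.Basic
import Mathlib.Algebra.CharP.Two
import Mathlib.Algebra.Algebra.ZMod
import Mathlib.RingTheory.IntegralDomain
import Mathlib.Algebra.Ring.Subring.Basic
import Mathlib.Data.Nat.ModEq
import Mathlib.Tactic

/-!
# Invariant biadditive forms for irreducible commutative groups in characteristic two

If a commutative group acts irreducibly on an elementary abelian 2-group and leaves a nontrivial
biadditive form invariant, then it generates a field in which inverting is a power of the Frobenius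
map, so the orders of its elements on the module divide `2 ^ k + 1` for one `k`.
-/

set_option autoImplicit false
set_option linter.style.haveILetI false

namespace CfsgLib.LocalEven.TIEndgame.InvariantForm

variable {V : Type*} [CommGroup V] [Finite V] {A : Type*} [CommGroup A] {C : Type*} [Group C]

/-- A nontrivial invariant form forces one twisting exponent for the whole group. -/
theorem exists_twist (hV : ∀ v : V, v * v = 1) (ρ : A →* MulAut V)
    (hirr : ∀ U : Subgroup V, (∀ g : A, ∀ x ∈ U, ρ g x ∈ U) → U = ⊥ ∨ U = ⊤)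
    (B : V → V → C) (hl : ∀ u v w, B (u * v) w = B u w * B v w)
    (hr : ∀ u v w, B u (v * w) = B u v * B u w)
    (hinv : ∀ g u v, B (ρ g u) (ρ g v) = B u v) (hne : ∃ u v, B u v ≠ 1) :
    ∃ k : ℕ, ∀ g : A, orderOf (ρ g) ∣ 2 ^ k + 1 := by
  classical
  obtain ⟨u₀, v₀, h₀⟩ := hne
  have hB1l : ∀ v, B 1 v = 1 := fun v => by
    have h := hl 1 1 v
    rw [one_mul] at h
    exact mul_eq_left.1 h.symm
  have hB1r : ∀ u, B u 1 = 1 := fun u => by
    have h := hr u 1 1
    rw [one_mul] at h
    exact mul_eq_left.1 h.symm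
  haveI : Nontrivial V := ⟨⟨v₀, 1, fun e => h₀ (e ▸ hB1r u₀)⟩⟩
  -- the right radical is trivial
  have hrad : ∀ w : V, (∀ u, B u w = 1) → w = 1 := by
    intro w hw
    let U : Subgroup V :=
      { carrier := {w | ∀ u, B u w = 1}
        mul_mem' := fun {a b} ha hb u => by rw [hr, ha u, hb u, one_mul]
        one_mem' := hB1r
        inv_mem' := fun {a} ha u => by
          rw [inv_eq_of_mul_eq_one_right (hV a)]
          exact ha u }
    rcases hirr U (fun g x hx u => by
      have h := hinv g (ρ g⁻¹ u) x
      have hu : ρ g (ρ g⁻¹ u) = u := by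
        rw [← MulAut.mul_apply, ← map_mul, mul_inv_cancel, map_one, MulAut.one_apply]
      rw [hu] at h
      rw [h]
      exact hx _) with h | h
    · exact (Subgroup.mem_bot).1 (h ▸ (hw : w ∈ U))
    · exact absurd ((h ▸ Subgroup.mem_top v₀ : v₀ ∈ U) u₀) h₀
  -- the form and the action, additively
  let B' : Additive V → Additive V → C := fun u v => B u.toMul v.toMul
  have hV' : ∀ u : Additive V, u + u = 0 := fun u => hV u.toMul
  have hneg : ∀ u : Additive V, -u = u := fun u => neg_eq_of_add_eq_zero_left (hV' u)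
  let act : A →* AddMonoid.End (Additive V) :=
    { toFun := fun g => MonoidHom.toAdditive (ρ g).toMonoidHom
      map_one' := AddMonoidHom.ext fun u => by
        show Additive.ofMul (ρ 1 u.toMul) = u
        rw [map_one]
        rfl
      map_mul' := fun g g' => AddMonoidHom.ext fun u => by
        show Additive.ofMul (ρ (g * g') u.toMul) = Additive.ofMul (ρ g (ρ g' u.toMul))
        rw [map_mul]
        rfl }
  have hact : ∀ (g : A) (u : Additive V), act g u = Additive.ofMul (ρ g u.toMul) := fun _ _ => rfl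
  set R : Subring (AddMonoid.End (Additive V)) := Subring.closure (Set.range act) with hR
  letI : CommRing R := Subring.closureCommRingOfComm (by
    rintro _ ⟨g, rfl⟩ _ ⟨g', rfl⟩
    rw [← map_mul, ← map_mul, mul_comm])
  let ag : A → R := fun g => ⟨act g, Subring.subset_closure ⟨g, rfl⟩⟩
  have hcomm : ∀ (x y : R) (u : Additive V),
      (x : AddMonoid.End (Additive V)) ((y : AddMonoid.End (Additive V)) u) =
        (y : AddMonoid.End (Additive V)) ((x : AddMonoid.End (Additive V)) u) := fun x y u =>
    DFunLike.congr_fun (congrArg Subtype.val (mul_comm x y)) u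
  -- the ring is a field of characteristic two
  haveI : Finite (AddMonoid.End (Additive V)) :=
    Finite.of_injective _ (DFunLike.coe_injective (F := AddMonoid.End (Additive V)))
  haveI : Nontrivial R := by
    obtain ⟨v, hv⟩ := exists_ne (1 : V)
    refine ⟨⟨1, 0, fun e => hv ?_⟩⟩
    have h := DFunLike.congr_fun (congrArg Subtype.val e) (Additive.ofMul v)
    exact Additive.ofMul.injective h
  have hker : ∀ x : R, x ≠ 0 → ∀ u, (x : AddMonoid.End (Additive V)) u = 0 → u = 0 := by
    intro x hx u hu
    let U : Subgroup V :=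
      { carrier := {v | (x : AddMonoid.End (Additive V)) (Additive.ofMul v) = 0}
        mul_mem' := fun {a b} ha hb => by
          show (x : AddMonoid.End (Additive V)) (Additive.ofMul (a * b)) = 0
          rw [ofMul_mul, map_add, show _ = _ from ha, show _ = _ from hb, add_zero]
        one_mem' := map_zero (x : AddMonoid.End (Additive V))
        inv_mem' := fun {a} ha => by
          show (x : AddMonoid.End (Additive V)) (Additive.ofMul a⁻¹) = 0
          rw [inv_eq_of_mul_eq_one_right (hV a)]
          exact ha }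
    rcases hirr U (fun g v hv => by
      show (x : AddMonoid.End (Additive V)) ((ag g : AddMonoid.End (Additive V)) (Additive.ofMul v)) = 0
      rw [hcomm, show _ = _ from hv, map_zero]) with h | h
    · have : u.toMul ∈ U := hu
      rw [h, Subgroup.mem_bot] at this
      exact Additive.toMul.injective this
    · refine absurd (Subtype.ext (AddMonoidHom.ext fun w => ?_)) hx
      exact (h ▸ Subgroup.mem_top w.toMul : w.toMul ∈ U)
  haveI : NoZeroDivisors R := ⟨fun {x y} hxy => by
    by_cases hx : x = 0
    · exact Or.inl hx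
    · exact Or.inr (Subtype.ext (AddMonoidHom.ext fun u =>
        hker x hx _ (DFunLike.congr_fun (congrArg Subtype.val hxy) u)))⟩
  haveI : IsDomain R := NoZeroDivisors.to_isDomain R
  letI : Field R := (Finite.isField_of_domain R).toField
  haveI : CharP R 2 := CharTwo.of_one_ne_zero_of_two_eq_zero one_ne_zero (by
    refine Subtype.ext (AddMonoidHom.ext fun u => ?_)
    rw [← one_add_one_eq_two]
    exact hV' u)
  letI : Algebra (ZMod 2) R := ZMod.algebra R 2
  -- adjoints
  have hadj : ∀ x : R, ∃ y : R, ∀ u v, B' ((x : AddMonoid.End (Additive V)) u) v =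
      B' u ((y : AddMonoid.End (Additive V)) v) := by
    intro x
    obtain ⟨x, hx⟩ := x
    show ∃ y : R, ∀ u v, B' (x u) v = B' u ((y : AddMonoid.End (Additive V)) v)
    induction hx using Subring.closure_induction with
    | mem x hx =>
      obtain ⟨g, rfl⟩ := hx
      refine ⟨ag g⁻¹, fun u v => ?_⟩
      show B (ρ g u.toMul) v.toMul = B u.toMul (ρ g⁻¹ v.toMul)
      have hv : ρ g (ρ g⁻¹ v.toMul) = v.toMul := by
        rw [← MulAut.mul_apply, ← map_mul, mul_inv_cancel, map_one, MulAut.one_apply]
      rw [← hinv g u.toMul (ρ g⁻¹ v.toMul), hv]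
    | zero => exact ⟨0, fun u v => (hB1l _).trans (hB1r _).symm⟩
    | one => exact ⟨1, fun u v => rfl⟩
    | add x x' _ _ h h' =>
      obtain ⟨y, hy⟩ := h
      obtain ⟨y', hy'⟩ := h'
      refine ⟨y + y', fun u v => ?_⟩
      show B ((x u).toMul * (x' u).toMul) v.toMul = B u.toMul
        (((y : AddMonoid.End (Additive V)) v).toMul * ((y' : AddMonoid.End (Additive V)) v).toMul)
      rw [hl, hr]
      exact congrArg₂ (· * ·) (hy u v) (hy' u v)
    | neg x _ h =>
      obtain ⟨y, hy⟩ := h
      refine ⟨y, fun u v => ?_⟩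
      rw [show (-x) u = x u from hneg (x u)]
      exact hy u v
    | mul x x' _ _ h h' =>
      obtain ⟨y, hy⟩ := h
      obtain ⟨y', hy'⟩ := h'
      exact ⟨y' * y, fun u v => (hy (x' u) v).trans (hy' u _)⟩
  have huniq : ∀ y y' : R, (∀ u v, B' u ((y : AddMonoid.End (Additive V)) v) =
      B' u ((y' : AddMonoid.End (Additive V)) v)) → y = y' := by
    intro y y' h
    refine Subtype.ext (AddMonoidHom.ext fun v => ?_)
    have hw := hrad (((y : AddMonoid.End (Additive V)) v).toMul *
      ((y' : AddMonoid.End (Additive V)) v).toMul) fun u => by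
      have h1 : B u ((y : AddMonoid.End (Additive V)) v).toMul =
          B u ((y' : AddMonoid.End (Additive V)) v).toMul := h (Additive.ofMul u) v
      rw [hr, h1, ← hr, hV, hB1r]
    exact Additive.toMul.injective
      ((mul_eq_one_iff_eq_inv.1 hw).trans (inv_eq_of_mul_eq_one_right (hV _)))
  choose σ hσ using hadj
  let σ' : R →ₐ[ZMod 2] R :=
    AlgHom.mk' { toFun := σ
                 map_one' := huniq _ _ fun u v => (hσ 1 u v).symm
                 map_zero' := huniq _ _ fun u v =>
                   (hσ 0 u v).symm.trans ((hB1l _).trans (hB1r _).symm)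
                 map_add' := fun x x' => huniq _ _ fun u v => by
                   rw [← hσ]
                   show B (((x : AddMonoid.End (Additive V)) u).toMul *
                     ((x' : AddMonoid.End (Additive V)) u).toMul) v.toMul = B u.toMul
                     (((σ x : AddMonoid.End (Additive V)) v).toMul *
                       ((σ x' : AddMonoid.End (Additive V)) v).toMul)
                   rw [hl, hr]
                   exact congrArg₂ (· * ·) (hσ x u v) (hσ x' u v)
                 map_mul' := fun x x' => huniq _ _ fun u v => by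
                   rw [← hσ, mul_comm (σ x)]
                   exact (hσ x _ v).trans (hσ x' u _) }
      fun c x => by
        have h : c = 0 ∨ c = 1 := by revert c; decide
        rcases h with rfl | rfl
        · rw [zero_smul, zero_smul]
          exact huniq _ _ fun u v => (hσ 0 u v).symm.trans ((hB1l _).trans (hB1r _).symm)
        · rw [one_smul, one_smul]
  obtain ⟨⟨k, hklt⟩, hk⟩ := (FiniteField.bijective_frobeniusAlgHom_pow (ZMod 2) R).2 σ'
  refine ⟨k, fun g => orderOf_dvd_of_pow_eq_one ?_⟩
  have h1 : σ (ag g) = ag g ^ 2 ^ k := by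
    have h := DFunLike.congr_fun hk (ag g)
    rw [AlgHom.coe_pow, FiniteField.coe_frobeniusAlgHom, pow_iterate, ZMod.card] at h
    exact h.symm
  have h2 : σ (ag g) = ag g⁻¹ := huniq _ _ fun u v => by
    rw [← hσ]
    show B (ρ g u.toMul) v.toMul = B u.toMul (ρ g⁻¹ v.toMul)
    have hv : ρ g (ρ g⁻¹ v.toMul) = v.toMul := by
      rw [← MulAut.mul_apply, ← map_mul, mul_inv_cancel, map_one, MulAut.one_apply]
    rw [← hinv g u.toMul (ρ g⁻¹ v.toMul), hv]
  have h3 : act (g ^ (2 ^ k + 1)) = 1 := by
    have h := congrArg (fun x : R => ((ag g * x : R) : AddMonoid.End (Additive V))) (h1.symm.trans h2)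
    rw [map_pow, pow_succ']
    refine h.trans ?_
    show act g * act g⁻¹ = 1
    rw [← map_mul, mul_inv_cancel, map_one]
  rw [← map_pow]
  exact MulEquiv.ext fun v =>
    Additive.ofMul.injective (DFunLike.congr_fun h3 (Additive.ofMul v))

/-- `2 ^ m - 1` divides no `2 ^ k + 1` for `m ≥ 3`. -/
theorem le_two_of_dvd {m k : ℕ} (h : 2 ^ m - 1 ∣ 2 ^ k + 1) : m ≤ 2 := by
  by_contra hm
  push Not at hm
  have h8 : 2 ^ 3 ≤ 2 ^ m := Nat.pow_le_pow_right (by norm_num) hm
  have hone : 2 ^ m ≡ 1 [MOD 2 ^ m - 1] :=
    ((Nat.modEq_iff_dvd' Nat.one_le_two_pow).2 dvd_rfl).symm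
  have hk : 2 ^ k ≡ 2 ^ (k % m) [MOD 2 ^ m - 1] := by
    conv_lhs => rw [← Nat.div_add_mod k m, pow_add, pow_mul]
    simpa using ((hone.pow (k / m)).mul_right (2 ^ (k % m)))
  have hdvd : 2 ^ m - 1 ∣ 2 ^ (k % m) + 1 :=
    Nat.modEq_zero_iff_dvd.1 ((hk.add_right 1).symm.trans (Nat.modEq_zero_iff_dvd.2 h))
  have hle := Nat.le_of_dvd (Nat.succ_pos _) hdvd
  have hj : 2 ^ (k % m) * 2 ≤ 2 ^ m := by
    rw [← pow_succ]
    exact Nat.pow_le_pow_right (by norm_num) (Nat.mod_lt k (by omega))
  omega

/-- `15` divides no `2 ^ k + 1`. -/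
theorem not_fifteen_dvd (k : ℕ) : ¬ 15 ∣ 2 ^ k + 1 := by
  intro h
  have h16 : 2 ^ 4 ≡ 1 [MOD 15] := by decide
  have hk : 2 ^ k ≡ 2 ^ (k % 4) [MOD 15] := by
    conv_lhs => rw [← Nat.div_add_mod k 4, pow_add, pow_mul]
    simpa using ((h16.pow (k / 4)).mul_right (2 ^ (k % 4)))
  have h' : 15 ∣ 2 ^ (k % 4) + 1 :=
    Nat.modEq_zero_iff_dvd.1 ((hk.add_right 1).symm.trans (Nat.modEq_zero_iff_dvd.2 h))
  have := Nat.mod_lt k (show 0 < 4 by norm_num)
  interval_cases hj : k % 4 <;> omega

/-- An invariant form is trivial if some element has an order dividing no `2 ^ k + 1`. -/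
theorem eq_one_of_order (hV : ∀ v : V, v * v = 1) (ρ : A →* MulAut V)
    (hirr : ∀ U : Subgroup V, (∀ g : A, ∀ x ∈ U, ρ g x ∈ U) → U = ⊥ ∨ U = ⊤)
    (B : V → V → C) (hl : ∀ u v w, B (u * v) w = B u w * B v w)
    (hr : ∀ u v w, B u (v * w) = B u v * B u w)
    (hinv : ∀ g u v, B (ρ g u) (ρ g v) = B u v) {g : A}
    (hg : ∀ k : ℕ, ¬ orderOf (ρ g) ∣ 2 ^ k + 1) (u v : V) : B u v = 1 := by
  by_contra h
  obtain ⟨k, hk⟩ := exists_twist hV ρ hirr B hl hr hinv ⟨u, v, h⟩
  exact hg k (hk g)

end CfsgLib.LocalEven.TIEndgame.InvariantForm
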