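import Cfsg.Agent.Lib.LocalEven.TIEndgame.Fusion
import Mathlib.GroupTheory.Transfer

/-!
# Transfer homomorphisms for the TI endgame

* In a finite group with abelian Sylow 2-subgroups a central 2-element other than `1` survives in
  an abelian image (transfer into the Sylow subgroup), hence is not a product of commutators.
* A homomorphism of a subgroup of odd index controlling the fusion of its 2-elements transfers to a
  homomorphism of the whole group with the same kernel on 2-elements.
* In the setting of one fixed point with `D` generating, no homomorphism of a point stabiliser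
  killing the members at that point is nontrivial on a 2-element.
-/

set_option autoImplicit false

namespace CfsgLib.LocalEven.TIEndgame

open MulAction

namespace TransferHom

variable {G : Type*} [Group G] [Finite G]

/-- The power of an element of 2-power order by an odd number is trivial only if it is. -/
theorem eq_one_of_pow_odd {G : Type*} [Monoid G] {x : G} {k n : ℕ} (hx : x ^ 2 ^ k = 1)
    (hn : Odd n) (hxn : x ^ n = 1) : x = 1 := by
  have h := Nat.dvd_gcd (orderOf_dvd_of_pow_eq_one hx) (orderOf_dvd_of_pow_eq_one hxn)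
  rw [Nat.Coprime.gcd_eq_one ((Nat.coprime_two_left.2 hn).pow_left k)] at h
  exact orderOf_eq_one_iff.1 (Nat.dvd_one.1 h)

/-- The index of a Sylow 2-subgroup is odd. -/
theorem odd_index_sylow (S : Sylow 2 G) : Odd (S : Subgroup G).index := by
  have : Fact (Nat.Prime 2) := ⟨Nat.prime_two⟩
  exact Nat.not_even_iff_odd.1 fun h => S.not_dvd_index (even_iff_two_dvd.1 h)

/-- A central 2-element lies in every Sylow 2-subgroup. -/
theorem mem_sylow_of_central (S : Sylow 2 G) {z : G} (hz : z ∈ Subgroup.center G) {k : ℕ}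
    (hzk : z ^ 2 ^ k = 1) : z ∈ (S : Subgroup G) := by
  have : Fact (Nat.Prime 2) := ⟨Nat.prime_two⟩
  have h2 : IsPGroup 2 (Subgroup.zpowers z) :=
    IsPGroup.of_card_dvd_pow (n := k) ((Nat.card_zpowers z).symm ▸ orderOf_dvd_of_pow_eq_one hzk)
  have : (Subgroup.zpowers z).Normal := ⟨fun x hx g => by
    obtain ⟨i, rfl⟩ := Subgroup.mem_zpowers_iff.1 hx
    rw [Subgroup.mem_center_iff.1 (zpow_mem hz i) g, mul_inv_cancel_right]
    exact zpow_mem (Subgroup.mem_zpowers z) i⟩
  exact h2.le_sylow_of_normal S (Subgroup.mem_zpowers z)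

/-- Transfer into an abelian Sylow 2-subgroup: a homomorphism onto a commutative group which is
injective on the central 2-elements. -/
theorem exists_hom_of_central (S : Sylow 2 G)
    (hS : ∀ x ∈ (S : Subgroup G), ∀ y ∈ (S : Subgroup G), Commute x y) :
    ∃ (A : Subgroup G) (_ : IsMulCommutative A) (V : G →* A), ∀ z ∈ Subgroup.center G, ∀ k : ℕ,
      z ^ 2 ^ k = 1 → V z = 1 → z = 1 := by
  haveI hcomm : IsMulCommutative (S : Subgroup G) := ⟨⟨fun a b => Subtype.ext (hS a a.2 b b.2)⟩⟩
  open scoped IsMulCommutative in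
  refine ⟨S, hcomm, MonoidHom.transfer (MonoidHom.id (S : Subgroup G)), fun z hz k hzk hVz => ?_⟩
  have hzS := mem_sylow_of_central S hz hzk
  rw [MonoidHom.transfer_eq_pow _ z (fun i g _ => by
    rw [mul_assoc, ← Subgroup.mem_center_iff.1 (pow_mem hz i) g, inv_mul_cancel_left])] at hVz
  have h := congrArg Subtype.val hVz
  exact eq_one_of_pow_odd hzk (odd_index_sylow S) (by simpa using h)

/-- With abelian Sylow 2-subgroups the only central 2-element in the derived subgroup is `1`. -/
theorem eq_one_of_mem_commutator (S : Sylow 2 G)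
    (hS : ∀ x ∈ (S : Subgroup G), ∀ y ∈ (S : Subgroup G), Commute x y) {z : G}
    (hz : z ∈ Subgroup.center G) {k : ℕ} (hzk : z ^ 2 ^ k = 1) (hzc : z ∈ commutator G) :
    z = 1 := by
  obtain ⟨A, hA, V, hV⟩ := exists_hom_of_central S hS
  refine hV z hz k hzk ?_
  open scoped IsMulCommutative in
  exact MonoidHom.mem_ker.1 (Abelianization.commutator_subset_ker V hzc)

/-- The transfer of a homomorphism of a subgroup controlling the fusion of its 2-elements is a
power of it on these elements. -/
theorem transfer_eq_pow {M : Subgroup G} {A : Type*} [CommGroup A] (χ : M →* A)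
    (hctrl : ∀ x ∈ M, (∃ k : ℕ, x ^ 2 ^ k = 1) → ∀ g : G, g * x * g⁻¹ ∈ M →
      ∃ m ∈ M, m * x * m⁻¹ = g * x * g⁻¹) (x : M) {k : ℕ} (hx : x ^ 2 ^ k = 1) :
    MonoidHom.transfer χ (x : G) = χ x ^ M.index := by
  classical
  cases nonempty_fintype (G ⧸ M)
  letI : Fintype (Quotient (orbitRel (Subgroup.zpowers (x : G)) (G ⧸ M))) := Fintype.ofFinite _
  have hmem : ∀ (i : ℕ) (g : G) (h : g⁻¹ * (x : G) ^ i * g ∈ M), χ ⟨_, h⟩ = χ x ^ i := by
    intro i g h
    obtain ⟨m, hm, he⟩ := hctrl ((x : G) ^ i) (pow_mem x.2 i)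
      ⟨k, by rw [← pow_mul, mul_comm, pow_mul, show (x : G) ^ 2 ^ k = 1 from
        congrArg Subtype.val hx, one_pow]⟩ g⁻¹ (by rw [inv_inv]; exact h)
    rw [inv_inv] at he
    have he' : (⟨_, h⟩ : M) = ⟨m, hm⟩ * x ^ i * (⟨m, hm⟩ : M)⁻¹ := Subtype.ext (by simp [he])
    rw [he', map_mul, map_mul, map_inv, map_pow, mul_inv_cancel_comm]
  rw [MonoidHom.transfer_eq_prod_quotient_orbitRel_zpowers_quot,
    Finset.prod_congr rfl fun q _ => hmem _ q.out.out
      (QuotientGroup.out_conj_pow_minimalPeriod_mem M (x : G) q.out),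
    Finset.prod_pow_eq_pow_sum]
  congr 1
  letI := M.fintypeQuotientOfFiniteIndex
  exact (Subgroup.index_eq_sum_minimalPeriod M (x : G)).symm

/-- A homomorphism of a subgroup of odd index controlling the fusion of its 2-elements gives a
normal subgroup containing the 2-elements of its kernel but none of the others. -/
theorem exists_normal {M : Subgroup G} (hodd : Odd M.index) {A : Type*} [CommGroup A]
    (χ : M →* A) (hctrl : ∀ x ∈ M, (∃ k : ℕ, x ^ 2 ^ k = 1) → ∀ g : G, g * x * g⁻¹ ∈ M →
      ∃ m ∈ M, m * x * m⁻¹ = g * x * g⁻¹) :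
    ∃ N : Subgroup G, N.Normal ∧
      ∀ (x : M) (k : ℕ), x ^ 2 ^ k = 1 → ((x : G) ∈ N ↔ χ x = 1) := by
  refine ⟨(MonoidHom.transfer χ).ker, inferInstance, fun x k hx => ?_⟩
  rw [MonoidHom.mem_ker, transfer_eq_pow χ hctrl x hx]
  exact ⟨fun h => eq_one_of_pow_odd (k := k) (by rw [← map_pow, hx, map_one]) hodd h,
    fun h => by rw [h, one_pow]⟩

end TransferHom

namespace OnePoint

variable {G Ω : Type*} [Group G] [MulAction G Ω] {D : Set G} (h : OnePoint D Ω) (hc : Covers D Ω)
include h hc

/-- Fusion of 2-elements is controlled by a point stabiliser. -/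
theorem control_elements [Finite G] (a : Ω) :
    ∀ x ∈ stabilizer G a, (∃ k : ℕ, x ^ 2 ^ k = 1) → ∀ g : G, g * x * g⁻¹ ∈ stabilizer G a →
      ∃ m ∈ stabilizer G a, m * x * m⁻¹ = g * x * g⁻¹ := by
  intro x hx ⟨k, hk⟩ g hg
  have : Fact (Nat.Prime 2) := ⟨Nat.prime_two⟩
  have h2 : IsPGroup 2 (Subgroup.zpowers x) :=
    IsPGroup.of_card_dvd_pow (n := k) ((Nat.card_zpowers x).symm ▸ orderOf_dvd_of_pow_eq_one hk)
  obtain ⟨m, hm, he⟩ := h.control hc h2 (Subgroup.zpowers_le.2 hx) g fun y hy => by
    obtain ⟨i, rfl⟩ := Subgroup.mem_zpowers_iff.1 hy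
    rw [← conj_zpow]
    exact zpow_mem hg i
  exact ⟨m, mem_stabilizer_iff.2 hm, he x (Subgroup.mem_zpowers x)⟩

/-- The index of a point stabiliser is odd. -/
theorem odd_index_stabilizer [Finite G] [Finite Ω] (a : Ω) : Odd (stabilizer G a).index := by
  haveI : IsPretransitive G Ω := ⟨fun x y => h.exists_move hc x y⟩
  haveI : Nonempty Ω := ⟨a⟩
  rw [index_stabilizer_of_transitive]
  exact h.odd_card_points hc

/-- A homomorphism of a point stabiliser killing the members at that point kills all 2-elements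
if the members generate. -/
theorem false_of_hom [Finite G] [Finite Ω] (hgen : Subgroup.closure D = ⊤) {a : Ω} {A : Type*}
    [CommGroup A] (χ : stabilizer G a →* A)
    (hD : ∀ d : stabilizer G a, (d : G) ∈ D → χ d = 1) (u : stabilizer G a) {k : ℕ}
    (hu : u ^ 2 ^ k = 1) (hne : χ u ≠ 1) : False := by
  obtain ⟨N, hN, hiff⟩ := TransferHom.exists_normal (h.odd_index_stabilizer hc a) χ
    (h.control_elements hc a)
  refine hne ((hiff u k hu).1 ?_)
  have hle : Subgroup.closure D ≤ N := by
    rw [Subgroup.closure_le]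
    intro d hd
    obtain ⟨b, hb⟩ := h.exists_fixed d hd
    obtain ⟨c, hc'⟩ := h.exists_move hc b a
    have hda : (c * d * c⁻¹) • a = a := by
      rw [mul_smul, mul_smul, inv_smul_eq_iff.2 hc'.symm, hb, hc']
    have hmem : c * d * c⁻¹ ∈ N := by
      refine (hiff ⟨_, mem_stabilizer_iff.2 hda⟩ 1 ?_).2 (hD _ (h.conj_mem c d hd))
      exact Subtype.ext (by simp [pow_two, h.mul_self hd])
    simpa [mul_assoc] using hN.conj_mem _ hmem c⁻¹
  exact hle (hgen ▸ Subgroup.mem_top _)

/-- The transfer lemma in quotient form: no homomorphism of a point stabiliser killing the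
members at that point sends a 2-element to a central element other than `1` of a finite group with
abelian Sylow 2-subgroups. -/
theorem false_of_central [Finite G] [Finite Ω] (hgen : Subgroup.closure D = ⊤) {a : Ω} {H : Type*}
    [Group H] [Finite H] (f : stabilizer G a →* H) (S : Sylow 2 H)
    (hS : ∀ x ∈ (S : Subgroup H), ∀ y ∈ (S : Subgroup H), Commute x y)
    (hD : ∀ d : stabilizer G a, (d : G) ∈ D → f d = 1) (u : stabilizer G a) {k : ℕ}
    (hu : u ^ 2 ^ k = 1) (hcen : f u ∈ Subgroup.center H) (hne : f u ≠ 1) : False := by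
  obtain ⟨A, hA, V, hV⟩ := TransferHom.exists_hom_of_central S hS
  open scoped IsMulCommutative in
  exact h.false_of_hom hc hgen (V.comp f) (fun d hd => by simp [hD d hd]) u hu fun e =>
    hne (hV _ hcen k (by rw [← map_pow, hu, map_one]) e)

end OnePoint

end CfsgLib.LocalEven.TIEndgame
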