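import Cfsg.Agent.Lib.LocalEven.TIEndgame.Clean
import Cfsg.Agent.Lib.LocalEven.TIEndgame.TransferHom

/-!
# Transfer inside a core

`core W H` acts on `pts W H` with its members as a one-point set.  A 2-element fixing all these
points is central, so it cannot survive in a quotient of a point stabiliser with abelian Sylow
2-subgroups killing the members at the point.
-/

set_option autoImplicit false
set_option linter.style.haveILetI false

namespace CfsgLib.LocalEven.TIEndgame

open MulAction Subgroup

universe u v w

namespace TISetting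

variable {G : Type u} {Ω : Type v} [Group G] [MulAction G Ω] {W : Ω → Subgroup G} (h : TISetting W)
include h

/-- The action of the core on its points. -/
@[reducible] def coreAction (H : Subgroup G) : MulAction (core W H) (pts W H) where
  smul g c := ⟨(g : G) • (c : Ω), h.smul_mem_pts (core_le W H g.2) c.2⟩
  one_smul c := Subtype.ext (one_smul G (c : Ω))
  mul_smul g g' c := Subtype.ext (mul_smul (g : G) g' (c : Ω))

variable [Finite G]

/-- No homomorphism of a point stabiliser of the core killing the members at the point sends a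
2-element fixing all points of the core to a nontrivial element of a finite group with abelian
Sylow 2-subgroups in which its image is central. -/
theorem false_of_core_central [Finite Ω] {H : Subgroup G} {a : Ω} (ha : a ∈ pts W H) {K : Type w} [Group K] [Finite K]
    (f : (core W H ⊓ stabilizer G a : Subgroup G) →* K) (S : Sylow 2 K)
    (hS : ∀ x ∈ (S : Subgroup K), ∀ y ∈ (S : Subgroup K), Commute x y)
    (hD : ∀ d : (core W H ⊓ stabilizer G a : Subgroup G), (d : G) ∈ W a → f d = 1)
    (n : (core W H ⊓ stabilizer G a : Subgroup G)) {k : ℕ} (hn : n ^ 2 ^ k = 1)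
    (hcen : f n ∈ Subgroup.center K) (hne : f n ≠ 1) : False := by
  letI := h.coreAction H
  haveI : Finite (pts W H) := inferInstance
  let D : Set (core W H) := {d | (d : G) ∈ members W}
  have h1 : OnePoint D (pts W H) :=
    { orderOf_eq := fun d hd => (orderOf_submonoid d).symm.trans (h.orderOf_member hd)
      conj_mem := fun g d hd => h.onePoint.conj_mem (g : G) _ hd
      exists_fixed := fun d hd => by
        obtain ⟨hd1, c, hc⟩ := hd
        exact ⟨⟨c, (Subgroup.ne_bot_iff_exists_ne_one).2 ⟨⟨(d : G), ⟨hc, core_le W H d.2⟩⟩,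
          fun e => hd1 (congrArg Subtype.val e)⟩⟩, Subtype.ext (mem_stabilizer_iff.1 (h.fix c hc))⟩
      fixed_unique := fun d hd c c' hc hc' => Subtype.ext
        (h.onePoint.fixed_unique _ hd _ _ (congrArg Subtype.val hc) (congrArg Subtype.val hc'))
      pair_unique := fun d hd e he hde hne c c' hc hc' => Subtype.ext
        (h.onePoint.pair_unique _ hd _ he (congrArg Subtype.val hde) (fun e' => hne (Subtype.ext e'))
          _ _ (congrArg Subtype.val hc) (congrArg Subtype.val hc')) }
  have h2 : Covers D (pts W H) := by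
    have : Fact (Nat.Prime 2) := ⟨Nat.prime_two⟩
    intro c P hP hPc
    have hfix : ∀ p : P, ((p : core W H) : G) • (c : Ω) = c := fun p =>
      congrArg Subtype.val (mem_stabilizer_iff.1 (hPc p.2))
    letI : MulAction P ↥(W (c : Ω) ⊓ H) :=
      { smul := fun p y => ⟨((p : core W H) : G) * y * ((p : core W H) : G)⁻¹, by
          have h1 := h.conj ((p : core W H) : G) c y y.2.1
          rw [hfix p] at h1
          exact ⟨h1, H.mul_mem (H.mul_mem (core_le W H (p : core W H).2) y.2.2)
            (H.inv_mem (core_le W H (p : core W H).2))⟩⟩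
        one_smul := fun y => Subtype.ext (by
          show ((((1 : P) : core W H) : G)) * y * ((((1 : P) : core W H) : G))⁻¹ = y
          simp)
        mul_smul := fun p q y => Subtype.ext (by
          show ((((p * q : P) : core W H) : G)) * y * ((((p * q : P) : core W H) : G))⁻¹ =
            ((p : core W H) : G) * (((q : core W H) : G) * y * ((q : core W H) : G)⁻¹) *
              ((p : core W H) : G)⁻¹
          simp [mul_assoc]) }
    obtain ⟨y, hy, hy1⟩ := exists_mem_pts c.2
    have hdvd : 2 ∣ Nat.card ↥(W (c : Ω) ⊓ H) := by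
      have ho : orderOf y = 2 := orderOf_eq_prime (by rw [pow_two, h.sq _ y hy.1]) hy1
      rw [← ho]
      exact Subgroup.orderOf_dvd_natCard _ hy
    have h1' : (1 : ↥(W (c : Ω) ⊓ H)) ∈ fixedPoints P ↥(W (c : Ω) ⊓ H) := fun p =>
      Subtype.ext (show ((p : core W H) : G) * (1 : G) * ((p : core W H) : G)⁻¹ = 1 by simp)
    obtain ⟨d, hd, hd1⟩ := hP.exists_fixed_point_of_prime_dvd_card_of_fixed_point _ hdvd h1'
    refine ⟨⟨(d : G), mem_core_of_mem d.2⟩, ⟨⟨fun e => hd1 (Subtype.ext e.symm), c, d.2.1⟩,
      Subtype.ext (mem_stabilizer_iff.1 (h.fix _ d.2.1))⟩, fun p hp => ?_⟩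
    exact Subtype.ext (mul_inv_eq_iff_eq_mul.1 (congrArg Subtype.val (hd ⟨p, hp⟩)))
  have hgen : Subgroup.closure D = ⊤ := by
    have hset : D = (Subtype.val : core W H → G) ⁻¹' (members W ∩ (H : Set G)) := by
      ext d
      exact ⟨fun hd => ⟨hd, core_le W H d.2⟩, fun hd => hd.1⟩
    rw [hset]
    exact Subgroup.closure_closure_coe_preimage
  let a' : pts W H := ⟨a, ha⟩
  let ι : stabilizer (core W H) a' →* (core W H ⊓ stabilizer G a : Subgroup G) :=
    MonoidHom.mk' (fun g => ⟨((g : core W H) : G),
      ⟨(g : core W H).2, congrArg Subtype.val (mem_stabilizer_iff.1 g.2)⟩⟩) fun _ _ => rfl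
  have hn' : (⟨(n : G), n.2.1⟩ : core W H) ∈ stabilizer (core W H) a' :=
    mem_stabilizer_iff.2 (Subtype.ext n.2.2)
  refine h1.false_of_central h2 hgen (a := a') (f.comp ι) S hS (fun d hd => hD _ ?_)
    ⟨⟨(n : G), n.2.1⟩, hn'⟩ (k := k) ?_ ?_ ?_
  · exact h.mem_of_fixed hd (congrArg Subtype.val (mem_stabilizer_iff.1 d.2))
  · refine Subtype.ext (Subtype.ext ?_)
    simpa using congrArg Subtype.val hn
  · simpa [ι] using hcen
  · simpa [ι] using hne

end TISetting

end CfsgLib.LocalEven.TIEndgame
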