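import Cfsg.Agent.Lib.RankOne.Split.Coord0

/-!
# Rotations in the rank-one set-up with `W ≠ 1`

The powers of the rotation of the unitary coordinates act on `Q / Ω₁(Q)` fixed point freely and,
together with the inverted elements, irreducibly; the elements centralising all involutions at `a`
commute with one another.
-/

set_option autoImplicit false
set_option linter.style.haveILetI false

open Cfsg

namespace CfsgLib.RankOne.RotationTools

open MulAction CfsgLib.Classical CfsgLib.RankOne.UnitaryUnique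

universe u v

variable {G : Type u} {Ω : Type v} [Group G] [Finite G] [MulAction G Ω] [FaithfulSMul G Ω] {a : Ω}
  {t : G} {Q : Subgroup G} (hS : IsRankOneSetup G Ω a t Q)
  {F : Type} [Field F] [Fintype F] [CharP F 2] {σ : F →+* F} {q : ℕ} (U : UCoord₀ a t Q F σ q)

theorem π_one : U.π 1 = 0 := by
  have h1 := U.π_mul 1 (one_mem _) 1 (one_mem _)
  rw [one_mul, CharTwo.add_self_eq_zero] at h1
  exact h1

theorem π_inv {x : G} (hx : x ∈ Q) : U.π x⁻¹ = U.π x := by
  have h1 := U.π_mul x hx x⁻¹ (inv_mem hx)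
  rw [mul_inv_cancel, π_one U] at h1
  exact (CharTwo.add_eq_zero.1 h1.symm).symm

theorem sq_eq_one_of_π {x : G} (hx : x ∈ Q) (h : U.π x = 0) : x * x = 1 := by
  obtain ⟨z, rfl⟩ := (U.π_eq_zero x hx).1 h
  have h0 : U.ι 0 = 1 := by
    have h1 := U.ι_add 0 0
    rw [add_zero] at h1
    exact mul_eq_left.1 h1.symm
  rw [← U.ι_add, add_self_fix, h0]

include hS

theorem conj_mem_Q {d x : G} (hd : d ∈ two G a t) (hx : x ∈ Q) : d * x * d⁻¹ ∈ Q :=
  hS.conj_mem d (two_le hS hd) x hx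

/-- An element of `W` acting trivially on the coordinate is trivial. -/
theorem eq_one_of_trivial {d : G} (hd : d ∈ kernelW G a t)
    (hπ : ∀ x ∈ Q, U.π (d * x * d⁻¹) = U.π x) : d = 1 := by
  have hdD := (mem_kernelW.mp hd).1
  refine faithful_on_Q hS hdD fun x hx => ?_
  have hy : d * x * d⁻¹ * x⁻¹ ∈ Q := mul_mem (conj_mem_Q hS hdD hx) (inv_mem hx)
  have h0 : U.π (d * x * d⁻¹ * x⁻¹) = 0 := by
    rw [U.π_mul _ (conj_mem_Q hS hdD hx) _ (inv_mem hx), hπ x hx, π_inv U hx,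
      CharTwo.add_self_eq_zero]
  have hyy := sq_eq_one_of_π U hy h0
  have hdy : d * (d * x * d⁻¹ * x⁻¹) = d * x * d⁻¹ * x⁻¹ * d := by
    by_cases h1 : d * x * d⁻¹ * x⁻¹ = 1
    · rw [h1, mul_one, one_mul]
    · exact kernelW_commute hS hd ⟨hS.le hy, h1, hyy⟩
  have hn : Odd (orderOf d) := hS.odd_card.of_dvd_nat (Subgroup.orderOf_dvd_natCard _ hdD)
  exact commute_of_conj_eq_mul hdy hyy (by group) hn (pow_orderOf_eq_one d)

omit hS in
theorem exists_lift_φ {l : Fix σ} (hl : l ≠ 0) : ∃ l' : Fix σ, l' ≠ 0 ∧ U.φ l' = l := by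
  obtain ⟨l', h⟩ := Finite.surjective_of_injective U.φ_inj l
  exact ⟨l', fun e => hl (by rw [← h, e, map_zero]), h⟩

omit hS [Finite G] [FaithfulSMul G Ω] in
include U in
/-- The fixed field and any element outside it span. -/
theorem exists_decomp {e : F} (he : σ e ≠ e) (y : F) :
    ∃ l m : Fix σ, y = (l : F) + (m : F) * e := by
  haveI : Fact (IsConjugation σ) := ⟨U.conj⟩
  haveI : Fact (Fintype.card F = q ^ 2 ∧ ∀ x, σ x = x ^ q) := ⟨U.card_field⟩
  let f : Fix σ × Fix σ → F := fun p => (p.1 : F) + (p.2 : F) * e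
  have hinj : Function.Injective f := by
    rintro ⟨l, m⟩ ⟨l', m'⟩ h
    change (l : F) + (m : F) * e = (l' : F) + (m' : F) * e at h
    have hm : m = m' := by
      by_contra hne
      have hne' : (m : F) - m' ≠ 0 := sub_ne_zero.2 fun e' => hne (Subtype.ext e')
      refine he ?_
      have h1 : ((m : F) - m') * e = (l' : F) - l := by linear_combination h
      have h2 := congrArg σ h1
      rw [map_mul, map_sub, map_sub, fix_apply, fix_apply, fix_apply, fix_apply] at h2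
      exact mul_left_cancel₀ hne' (h2.trans h1.symm)
    subst hm
    exact Prod.ext (Subtype.ext (add_right_cancel h)) rfl
  have hcard : Nat.card F ≤ Nat.card (Fix σ × Fix σ) := by
    have hq : Nat.card ↥(Fix σ) = q :=
      (Nat.card_congr (Equiv.subtypeEquivRight fun x => Iff.rfl)).trans
        (UnitarySylow.card_fix (σ := σ) (q := q))
    rw [Nat.card_prod, hq, Nat.card_eq_fintype_card, U.card_field.1, pow_two]
  obtain ⟨⟨l, m⟩, h⟩ := (hinj.bijective_of_nat_card_le hcard).2 y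
  exact ⟨l, m, h.symm⟩

/-- An element of `W` acts on the coordinate by multiplication. -/
theorem exists_scalar {d : G} (hd : d ∈ kernelW G a t) :
    ∃ u : F, ∀ x ∈ Q, U.π (d * x * d⁻¹) = u * U.π x := by
  obtain ⟨hdD, -, hdK⟩ := mem_kernelW.mp hd
  obtain ⟨u, τ, -, -, hu, hτodd, hπ, -⟩ := U.semilinear d hdD
  have hfix : ∀ l : Fix σ, τ (l : F) = l := by
    intro l
    rcases eq_or_ne l 0 with rfl | hl
    · simp
    obtain ⟨l', hl', rfl⟩ := exists_lift_φ U hl
    obtain ⟨k, hk, hkπ, -⟩ := U.scalar l' hl'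
    obtain ⟨x, hx, hx1⟩ := U.π_surj 1
    have hkD : k ∈ two G a t := hk.1
    have h1 : U.π (d * (k * x * k⁻¹) * d⁻¹) = u * τ (U.φ l' : F) := by
      rw [hπ _ (conj_mem_Q hS hkD hx), hkπ x hx, hx1, mul_one]
    have h2 : U.π (k * (d * x * d⁻¹) * k⁻¹) = (U.φ l' : F) * u := by
      rw [hkπ _ (conj_mem_Q hS hdD hx), hπ x hx, hx1, map_one, mul_one]
    have hc : d * (k * x * k⁻¹) * d⁻¹ = k * (d * x * d⁻¹) * k⁻¹ := by
      have hdk : d * k = k * d := (hdK k hk).symm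
      calc d * (k * x * k⁻¹) * d⁻¹ = (d * k) * x * (d * k)⁻¹ := by group
        _ = _ := by rw [hdk]; group
    rw [hc, h2, mul_comm] at h1
    exact (mul_left_cancel₀ hu h1).symm
  set ε := U.ε
  have hσε : σ ε ≠ ε := fun e => U.ε_ne (by
    have h := U.ε_norm
    rw [e] at h
    have h2 : (ε + 1) * (ε + 1) = 0 := by
      linear_combination h + (ε + 1) * (CharTwo.two_eq_zero (R := F))
    exact CharTwo.add_eq_zero.1 (mul_self_eq_zero.1 h2))
  have htr : τ (ε + σ ε) = ε + σ ε :=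
    hfix ⟨ε + σ ε, by show σ (ε + σ ε) = ε + σ ε; rw [map_add, U.conj.invol, add_comm]⟩
  have hnorm : τ ε * τ (σ ε) = 1 := by rw [← map_mul, U.ε_norm, map_one]
  have hcases : τ ε = ε ∨ τ ε = σ ε := by
    have h2 : (τ ε - ε) * (τ ε - σ ε) = 0 := by
      rw [map_add] at htr
      linear_combination (τ ε) * htr - hnorm + U.ε_norm
    rcases mul_eq_zero.1 h2 with h | h
    exacts [Or.inl (sub_eq_zero.1 h), Or.inr (sub_eq_zero.1 h)]
  have hτε : τ ε = ε := by
    refine hcases.resolve_right fun h => hσε ?_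
    have h3 : τ (σ ε) = ε := by
      rw [map_add, h] at htr
      linear_combination htr
    obtain ⟨m, hm⟩ := hτodd
    have heven : ∀ i : ℕ, (τ ^ (2 * i)) ε = ε := by
      intro i
      induction i with
      | zero => simp
      | succ i ih =>
        rw [show 2 * (i + 1) = 2 * i + 2 by ring, pow_add, pow_two]
        show (τ ^ (2 * i)) (τ (τ ε)) = ε
        rw [h, h3, ih]
    have h1 : (τ ^ orderOf τ) ε = ε := by rw [pow_orderOf_eq_one]; rfl
    rw [hm, pow_succ'] at h1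
    change τ ((τ ^ (2 * m)) ε) = ε at h1
    rw [heven, h] at h1
    exact h1
  refine ⟨u, fun x hx => ?_⟩
  rw [hπ x hx]
  obtain ⟨l, m, e⟩ := exists_decomp U hσε (U.π x)
  rw [e, map_add, map_mul, hfix, hfix, hτε]

include U in
/-- `W` is abelian. -/
theorem commute_kernelW {d d' : G} (hd : d ∈ kernelW G a t) (hd' : d' ∈ kernelW G a t) :
    Commute d d' := by
  obtain ⟨u, hu⟩ := exists_scalar hS U hd
  obtain ⟨u', hu'⟩ := exists_scalar hS U hd'
  obtain ⟨ui, hui⟩ := exists_scalar hS U (inv_mem hd)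
  obtain ⟨ui', hui'⟩ := exists_scalar hS U (inv_mem hd')
  have hdD := (mem_kernelW.mp hd).1
  have hd'D := (mem_kernelW.mp hd').1
  have hmul : ∀ x ∈ Q, U.π x = u * ui * U.π x := fun x hx => by
    have := hu _ (conj_mem_Q hS (inv_mem hdD) hx)
    rw [show d * (d⁻¹ * x * d⁻¹⁻¹) * d⁻¹ = x by group, hui x hx] at this
    linear_combination this
  have hmul' : ∀ x ∈ Q, U.π x = u' * ui' * U.π x := fun x hx => by
    have := hu' _ (conj_mem_Q hS (inv_mem hd'D) hx)
    rw [show d' * (d'⁻¹ * x * d'⁻¹⁻¹) * d'⁻¹ = x by group, hui' x hx] at this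
    linear_combination this
  have h1 : d * d' * d⁻¹ * d'⁻¹ = 1 := by
    refine eq_one_of_trivial hS U (mul_mem (mul_mem (mul_mem hd hd') (inv_mem hd)) (inv_mem hd'))
      fun x hx => ?_
    have hx1 := conj_mem_Q hS (inv_mem hd'D) hx
    have hx2 := conj_mem_Q hS (inv_mem hdD) hx1
    have hx3 := conj_mem_Q hS hd'D hx2
    rw [show d * d' * d⁻¹ * d'⁻¹ * x * (d * d' * d⁻¹ * d'⁻¹)⁻¹ =
      d * (d' * (d⁻¹ * (d'⁻¹ * x * d'⁻¹⁻¹) * d⁻¹⁻¹) * d'⁻¹) * d⁻¹ by group,
      hu _ hx3, hu' _ hx2, hui _ hx1, hui' x hx]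
    linear_combination (-(u' * ui')) * hmul x hx - hmul' x hx
  exact mul_inv_eq_iff_eq_mul.1 (mul_inv_eq_one.1 h1)

include U in
/-- The rotation: nontrivial in `W`, and each nontrivial power is fixed point free and irreducible. -/
theorem exists_rotation :
    ∃ w ∈ kernelW G a t, w ≠ 1 ∧ ∀ m : ℕ, w ^ m ≠ 1 →
      (∀ x ∈ Q, (w ^ m * x * (w ^ m)⁻¹ * x⁻¹) * (w ^ m * x * (w ^ m)⁻¹ * x⁻¹) = 1 → x * x = 1) ∧
      ∀ V : Subgroup G, V ≤ Q → (∀ x ∈ Q, x * x = 1 → x ∈ V) →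
        (∀ x ∈ V, w ^ m * x * (w ^ m)⁻¹ ∈ V) →
        (∀ k ∈ invertedBy (two G a t) t, ∀ x ∈ V, k * x * k⁻¹ ∈ V) →
        (∀ x ∈ V, x * x = 1) ∨ V = Q := by
  obtain ⟨w, hwD, hwt, hwπ, hwι⟩ := U.rotation
  haveI : Fact (IsConjugation σ) := ⟨U.conj⟩
  have hti : t⁻¹ = t := t_inv hS
  have hwW : w ∈ kernelW G a t := by
    have htw : t * w = w * t := mul_inv_eq_iff_eq_mul.1 hwt
    rw [show kernelW G a t = _ from (Cfsg.Agent.S1127.result hS).2]
    refine ⟨hwD, Subgroup.mem_centralizer_iff.mpr fun s hs => ?_⟩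
    have hsQ : s ∈ Q := odd_mem_q hS hs.1 hs.2.2
    obtain ⟨z, rfl⟩ := (U.π_eq_zero s hsQ).1 (U.π_invol s hsQ hs.2.2)
    exact (mul_inv_eq_iff_eq_mul.1 (hwι z)).symm
  have hpow : ∀ m : ℕ, ∀ x ∈ Q, U.π (w ^ m * x * (w ^ m)⁻¹) = U.ε ^ m * U.π x := by
    intro m
    induction m with
    | zero => intro x _; simp
    | succ m ih =>
      intro x hx
      rw [pow_succ', show w * w ^ m * x * (w * w ^ m)⁻¹ = w * (w ^ m * x * (w ^ m)⁻¹) * w⁻¹ by group,
        hwπ _ (conj_mem_Q hS (pow_mem hwD m) hx), ih x hx]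
      ring
  refine ⟨w, hwW, fun e => U.ε_ne ?_, fun m hm => ?_⟩
  · obtain ⟨x, hx, hx1⟩ := U.π_surj 1
    have := hwπ x hx
    rw [e, one_mul, inv_one, mul_one, hx1, mul_one] at this
    exact this.symm
  have hεm : U.ε ^ m ≠ 1 := fun e => hm (eq_one_of_trivial hS U (pow_mem hwW m) fun x hx => by
    rw [hpow m x hx, e, one_mul])
  refine ⟨fun x hx hxx => ?_, fun V hV hVinv hVw hVk => ?_⟩
  · refine sq_eq_one_of_π U hx ?_
    have hc := conj_mem_Q hS (pow_mem hwD m) hx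
    have h0 := U.π_invol _ (mul_mem hc (inv_mem hx)) hxx
    rw [U.π_mul _ hc _ (inv_mem hx), hpow m x hx, π_inv U hx] at h0
    have h1 : (U.ε ^ m + 1) * U.π x = 0 := by linear_combination h0
    exact (mul_eq_zero.1 h1).resolve_left fun e => hεm (CharTwo.add_eq_zero.1 e)
  by_cases hex : ∃ x ∈ V, U.π x ≠ 0
  swap
  · push Not at hex
    exact Or.inl fun x hx => sq_eq_one_of_π U (hV hx) (hex x hx)
  right
  obtain ⟨x0, hx0, hs⟩ := hex
  refine le_antisymm hV fun y hy => ?_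
  have hσe : σ (U.ε ^ m) ≠ U.ε ^ m := fun e => hεm (by
    have h2 : U.ε ^ m * σ (U.ε ^ m) = 1 := by rw [map_pow, ← mul_pow, U.ε_norm, one_pow]
    rw [e] at h2
    have h3 : (U.ε ^ m + 1) * (U.ε ^ m + 1) = 0 := by
      linear_combination h2 + (U.ε ^ m + 1) * (CharTwo.two_eq_zero (R := F))
    exact CharTwo.add_eq_zero.1 (mul_self_eq_zero.1 h3))
  obtain ⟨l, n, e⟩ := exists_decomp U hσe (U.π y / U.π x0)
  have hmult : ∀ l : Fix σ, ∃ v ∈ V, U.π v = (l : F) * U.π x0 := by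
    intro l
    rcases eq_or_ne l 0 with rfl | hl
    · exact ⟨1, one_mem _, by simp [π_one U]⟩
    obtain ⟨l', hl', rfl⟩ := exists_lift_φ U hl
    obtain ⟨k, hk, hkπ, -⟩ := U.scalar l' hl'
    exact ⟨k * x0 * k⁻¹, hVk k hk x0 hx0, hkπ x0 (hV hx0)⟩
  obtain ⟨v1, hv1, e1⟩ := hmult l
  obtain ⟨v2, hv2, e2⟩ := hmult n
  set v := v1 * (w ^ m * v2 * (w ^ m)⁻¹) with hv
  have hvV : v ∈ V := mul_mem hv1 (hVw v2 hv2)
  have hvπ : U.π v = U.π y := by
    rw [hv, U.π_mul _ (hV hv1) _ (hV (hVw v2 hv2)), hpow m v2 (hV hv2), e1, e2]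
    have := (div_eq_iff hs).1 e
    linear_combination -this
  have hz : U.π (v⁻¹ * y) = 0 := by
    rw [U.π_mul _ (inv_mem (hV hvV)) _ hy, π_inv U (hV hvV), hvπ, CharTwo.add_self_eq_zero]
  have hmem := hVinv _ (mul_mem (inv_mem (hV hvV)) hy)
    (sq_eq_one_of_π U (mul_mem (inv_mem (hV hvV)) hy) hz)
  simpa using mul_mem hvV hmem

end CfsgLib.RankOne.RotationTools
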