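import Cfsg.Agent.Lib.LocalEven.TIEndgame.Torus
import Cfsg.Agent.Lib.LocalEven.TIEndgame.Rotation
import Cfsg.Agent.Lib.RankOne.Small.Cubic

/-!
# The rotation of a local configuration with `|Q| = q³`
-/

set_option autoImplicit false
set_option linter.style.haveILetI false

open Cfsg

namespace CfsgLib.LocalEven.TIEndgame

open MulAction CfsgLib.Involution CfsgLib.RankOne

open scoped commutatorElement

universe u v

variable {G : Type u} {Ω : Type v} [Group G] [MulAction G Ω] {W : Ω → Subgroup G} {H : Subgroup G}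

namespace TISetting

variable (h : TISetting W) {a b : Ω} {Q : Subgroup G} (hL : Loc W H a Q) (ha : a ∈ pts W H)
  (hb : b ∈ pts W H) (hab : b ≠ a)
include h hL ha hb hab

theorem card_Q_img [Finite G] :
    Nat.card ↥((Q.subgroupOf (core W H)).map (h.rho H)) = Nat.card Q := by
  refine (Nat.card_eq_of_bijective (fun q : Q => (⟨h.rho H ⟨q, (hL.le q.2).1⟩,
    ⟨⟨q, (hL.le q.2).1⟩, q.2, rfl⟩⟩ : ↥((Q.subgroupOf (core W H)).map (h.rho H)))) ⟨?_, ?_⟩).symm
  · intro q q' e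
    have e' : h.rho H ⟨q, (hL.le q.2).1⟩ = h.rho H ⟨q', (hL.le q'.2).1⟩ := congrArg Subtype.val e
    have h0 : h.rho H (⟨q', (hL.le q'.2).1⟩⁻¹ * ⟨q, (hL.le q.2).1⟩) = 1 := by
      rw [map_mul, map_inv, e', inv_mul_cancel]
    refine Subtype.ext (inv_mul_eq_one.1 ?_).symm
    exact loc_eq_one hL hb hab (mul_mem (inv_mem q'.2) q.2) (h.rho_eq_one.1 h0 b hb)
  · rintro ⟨_, q, hq, rfl⟩
    exact ⟨⟨q, hq⟩, rfl⟩

/-- The torus at `a`, `b` and, when `|Q| = q³`, a rotation. -/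
theorem exists_torus_rot [Finite G] [Finite Ω] (four : 4 ≤ Nat.card ↥(W a ⊓ H)) :
    ∃ J, Torus W H a b Q J ∧
      (Nat.card Q = Nat.card ↥(W a ⊓ H) ^ 3 → ∃ w, Rot W H a b Q J w) := by
  classical
  obtain ⟨J, f, hJ, hfD, hfab, hlift⟩ := h.exists_torus_lift hL ha hb hab four
  refine ⟨J, hJ, fun hcube => ?_⟩
  have hS := h.setup_img hL ha hb hab (f := f) hfD hfab
  have h2 := h.hasFour_img hL ha hb hab four
  have hfa : h.rho H f • (⟨a, ha⟩ : ↥(h.coreAct H)) = ⟨b, hb⟩ := Subtype.ext hfab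
  obtain ⟨Z, K, A⟩ := Small.exists_data hS h2
  have hcQ := h.card_Q_img hL ha hb hab
  have hcardZ : Nat.card ↥(W a ⊓ H) = Nat.card Z := by
    refine Nat.card_eq_of_bijective (fun d => (⟨h.rho H ⟨d, mem_core_of_mem d.2⟩,
      (A.mem_Z _).2 ⟨Subtype.ext (mem_stabilizer_iff.1 (h.fix a d.2.1)), by
        rw [← map_mul]
        exact (congrArg (h.rho H) (Subtype.ext (h.sq a d d.2.1))).trans (map_one _)⟩⟩ : Z))
      ⟨fun d d' e => ?_, fun k => ?_⟩
    · exact Subtype.ext (congrArg Subtype.val (h.member_rho_inj hL ha hb hab d.2.1 d'.2.1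
        (congrArg Subtype.val e)) :)
    · obtain ⟨hka, hkk⟩ := (A.mem_Z k).1 k.2
      obtain ⟨d, hd, e⟩ := h.exists_member_lift hL ha hb hab hka hkk
      exact ⟨⟨d, hd, core_le W H d.2⟩, Subtype.ext e⟩
  have hW : kernelW ↥(h.CoreImg H) (⟨a, ha⟩ : ↥(h.coreAct H)) (h.rho H f) ≠ ⊥ := by
    intro hW
    rw [← hcQ] at hcube
    rw [hcardZ] at hcube four
    rcases A.card_cases hW h2 with e | e | ⟨hs, e⟩
    · rw [hcube] at e
      nlinarith [Nat.mul_le_mul four four]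
    · rw [hcube] at e
      have := Nat.pow_right_injective (show 2 ≤ Nat.card Z by omega) e
      omega
    · exact A.not_cubic hW hs e
  obtain ⟨F, _, _, _, σ, q, -, ⟨U⟩⟩ := exists_ucoord₀ hS h2 hW
  obtain ⟨wb, hwb, hwb1, hrot⟩ := RotationTools.exists_rotation hS U
  have hwbD := (mem_kernelW.mp hwb).1
  set p := (orderOf wb).minFac with hp
  have hpp : p.Prime := Nat.minFac_prime fun e => hwb1 (orderOf_eq_one_iff.1 e)
  have hpdvd : p ∣ orderOf wb := Nat.minFac_dvd _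
  have hp2 : p ≠ 2 := fun e => by
    have hodd : Odd (orderOf wb) := hS.odd_card.of_dvd_nat (Subgroup.orderOf_dvd_natCard _ hwbD)
    exact Nat.not_even_iff_odd.2 hodd (even_iff_two_dvd.2 (e ▸ hpdvd))
  set m0 := orderOf wb / p with hm0
  have hord : orderOf (wb ^ m0) = p := orderOf_pow_orderOf_div (orderOf_pos wb).ne' hpdvd
  obtain ⟨x0, hx0⟩ := h.rho_surjective H (wb ^ m0)
  have hx0D : wb ^ m0 ∈ two ↥(h.CoreImg H) (⟨a, ha⟩ : ↥(h.coreAct H)) (h.rho H f) := pow_mem hwbD m0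
  rw [← hx0] at hx0D
  obtain ⟨h0a, h0b⟩ := hx0D
  rw [hfa] at h0b
  obtain ⟨k, r, hr, hxo⟩ :=
    Nat.exists_eq_pow_mul_and_not_dvd (orderOf_pos (x0 : G)).ne' p hpp.ne_one
  set x := x0 ^ r with hxdef
  have hxord : orderOf (x : G) = p ^ k := by
    have hr0 : r ≠ 0 := fun e => hr (e ▸ dvd_zero p)
    rw [hxdef, SubgroupClass.coe_pow, orderOf_pow' _ hr0, hxo, Nat.gcd_mul_left_left,
      Nat.mul_div_cancel _ (Nat.pos_of_ne_zero hr0)]
  have hxa : (x : G) • a = a := by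
    rw [hxdef, SubgroupClass.coe_pow]
    exact pow_mem (show (x0 : G) ∈ stabilizer G a from congrArg Subtype.val h0a) r
  have hxb : (x : G) • b = b := by
    rw [hxdef, SubgroupClass.coe_pow]
    exact pow_mem (show (x0 : G) ∈ stabilizer G b from congrArg Subtype.val h0b) r
  have hρx : h.rho H x = wb ^ (m0 * r) := by rw [hxdef, map_pow, hx0, ← pow_mul]
  have hne : wb ^ (m0 * r) ≠ 1 := by
    intro e
    rw [pow_mul] at e
    exact hr (hord ▸ orderOf_dvd_of_pow_eq_one e)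
  obtain ⟨hfpf, hirred⟩ := hrot _ hne
  have hQimg : ∀ {y : G} (hy : y ∈ Q), h.rho H ⟨y, (hL.le hy).1⟩ ∈
      (Q.subgroupOf (core W H)).map (h.rho H) := fun {y} hy => ⟨⟨y, (hL.le hy).1⟩, hy, rfl⟩
  have hsqW : ∀ {y : G} (hy : y ∈ Q),
      h.rho H ⟨y, (hL.le hy).1⟩ * h.rho H ⟨y, (hL.le hy).1⟩ = 1 → y ∈ W a := by
    intro y hy e
    rw [← map_mul] at e
    exact hL.invol y hy (loc_eq_one hL hb hab (mul_mem hy hy) (h.rho_eq_one.1 e b hb))
  have hinvker : ∀ {y : G}, y ∈ core W H → y • a = a → y • b = b →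
      (∀ d ∈ W a ⊓ H, Commute y d) → ∀ hy : y ∈ core W H, h.rho H ⟨y, hy⟩ ∈
        kernelW ↥(h.CoreImg H) (⟨a, ha⟩ : ↥(h.coreAct H)) (h.rho H f) := by
    intro y _ hya hyb hyd hy
    rw [show kernelW ↥(h.CoreImg H) (⟨a, ha⟩ : ↥(h.coreAct H)) (h.rho H f) = _ from
      (Cfsg.Agent.S1127.result hS).2]
    refine ⟨⟨Subtype.ext hya, ?_⟩, Subgroup.mem_centralizer_iff.mpr fun s hs => ?_⟩
    · rw [hfa]; exact Subtype.ext hyb
    · obtain ⟨d, hd, rfl⟩ := h.exists_member_lift hL ha hb hab hs.1 hs.2.2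
      rw [← map_mul, ← map_mul]
      exact congrArg (h.rho H) (Subtype.ext (hyd d ⟨hd, core_le W H d.2⟩).eq.symm)
  have hk0 : 0 < k := by
    rcases Nat.eq_zero_or_pos k with rfl | hk
    · rw [pow_zero, orderOf_eq_one_iff] at hxord
      refine absurd ?_ hne
      rw [← hρx, show x = 1 from Subtype.ext hxord, map_one]
    · exact hk
  refine ⟨x, ⟨x.2, hxa, hxb, ⟨p, k, hpp, hp2, hk0, hxord⟩, ?_, ?_, ?_, ?_, ?_⟩⟩
  · -- odd
    rw [hxord]
    exact (hpp.odd_of_ne_two hp2).pow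
  · -- central
    intro d hd
    have hdc := mem_core_of_mem hd
    have hmem : (x : G) * d * (x : G)⁻¹ ∈ W a := by simpa [hxa] using h.conj x a d hd.1
    have heq : x * ⟨d, hdc⟩ * x⁻¹ = ⟨d, hdc⟩ := by
      refine h.member_rho_inj hL ha hb hab hmem hd.1 ?_
      rw [map_mul, map_mul, map_inv, hρx]
      rcases eq_or_ne (h.rho H ⟨d, hdc⟩) 1 with e | e
      · rw [e, mul_one, mul_inv_cancel]
      · rw [kernelW_commute hS (pow_mem hwb _) ⟨Subtype.ext (mem_stabilizer_iff.1 (h.fix a hd.1)), e, by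
          rw [← map_mul]
          exact (congrArg (h.rho H) (Subtype.ext (h.sq a d hd.1))).trans (map_one _)⟩,
          mul_inv_cancel_right]
    exact mul_inv_eq_iff_eq_mul.1 (congrArg Subtype.val heq)
  · -- fpf
    intro y hy hxy
    refine hsqW hy (hfpf _ (hQimg hy) ?_)
    rw [← hρx, ← map_inv, ← map_inv, ← map_mul, ← map_mul, ← map_mul, ← map_mul]
    exact (congrArg (h.rho H) (Subtype.ext (h.sq a _ hxy))).trans (map_one _)
  · -- irred
    intro V hWV hVQ hVx hVJ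
    have hVc : ∀ {y : G}, y ∈ V → y ∈ core W H := fun hy => (hL.le (hVQ hy)).1
    rcases hirred ((V.subgroupOf (core W H)).map (h.rho H)) (Subgroup.map_mono fun y hy => hVQ hy)
      (fun z hz hzz => by
        obtain ⟨y, hy, rfl⟩ := hz
        exact ⟨y, hWV ⟨hsqW hy hzz, core_le W H y.2⟩, rfl⟩)
      (fun z hz => by
        obtain ⟨y, hy, rfl⟩ := hz
        refine ⟨x * y * x⁻¹, hVx _ hy, ?_⟩
        rw [map_mul, map_mul, map_inv, hρx])
      (fun k' hk' z hz => by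
        obtain ⟨y, hy, rfl⟩ := hz
        obtain ⟨j, hj, rfl⟩ := hlift k' hk'
        exact ⟨j * y * j⁻¹, hVJ _ hj _ hy, by rw [map_mul, map_mul, map_inv]⟩) with hsq | htop
    · left
      refine le_antisymm (fun y hy => ?_) hWV
      exact ⟨hsqW (hVQ hy) (hsq _ ⟨⟨y, hVc hy⟩, hy, rfl⟩), core_le W H (hVc hy)⟩
    · right
      refine le_antisymm hVQ fun y hy => ?_
      obtain ⟨v, hv, e⟩ := htop ▸ hQimg hy
      have h0 : h.rho H (v⁻¹ * ⟨y, (hL.le hy).1⟩) = 1 := by rw [map_mul, map_inv, e, inv_mul_cancel]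
      have h1 : (v : G)⁻¹ * y = 1 :=
        loc_eq_one hL hb hab (mul_mem (inv_mem (hVQ hv)) hy) (h.rho_eq_one.1 h0 b hb)
      exact (inv_mul_eq_one.1 h1) ▸ hv
  · -- abelian
    intro y hy hya hyb hyd y' hy' hy'a hy'b hy'd z hz
    have hc := RotationTools.commute_kernelW hS U (hinvker hy hya hyb hyd hy)
      (hinvker hy' hy'a hy'b hy'd hy')
    have h0 : h.rho H ⁅(⟨y, hy⟩ : ↥(core W H)), ⟨y', hy'⟩⁆ = 1 := by
      rw [map_commutatorElement, commutatorElement_eq_one_iff_commute]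
      exact hc
    exact congrArg Subtype.val (h.commute_of_rho_one ha hb hab.symm h0 ⟨z, (hL.le hz).1⟩).eq

end TISetting

end CfsgLib.LocalEven.TIEndgame
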