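import Cfsg.Agent.Lib.LocalEven.TIEndgame.Glue
import Cfsg.Agent.Lib.LocalEven.TIEndgame.Line.CoreLoc
import Cfsg.Agent.Lib.LocalEven.TIEndgame.Central.Main
import Cfsg.Agent.Lib.LocalEven.TIEndgame.Central.Cube
import Cfsg.Agent.Lib.LocalEven.TIEndgame.Central.Shift
import Cfsg.Agent.Lib.LocalEven.TIEndgame.Central.SquareStab
import Cfsg.Agent.Lib.LocalEven.TIEndgame.Central.Linear

/-!
# Theorem T
-/

set_option autoImplicit false

namespace CfsgLib.LocalEven.TIEndgame

open MulAction Subgroup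

universe u v

variable {G Ω : Type u} [Group G] [Finite G] [Finite Ω] [MulAction G Ω] [FaithfulSMul G Ω]
  {W : Ω → Subgroup G}

/-- The centred case. -/
theorem TIMin.false_of_centred (h : TIMin G Ω W) {w i : ℕ}
    (hc : CentredConfig W w i) {x₀ : G} (hx₀ : IsBad Ω x₀) : False := by
  have hcore := h.coreLocHyp
  have hloc := h.locHyp hcore
  have hLT := hloc.locTorus h.toTISetting
  have hφ : ∀ (z : G), IsBad Ω z → ∀ x : G, IsBad Ω x →
      Nat.card (fixedBy Ω x) = Nat.card (fixedBy Ω z) :=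
    fun z hz x hx => (hc.card_fixed x hx).trans (hc.card_fixed z hz).symm
  refine h.false_of_centred_of hloc hc hx₀ (fun a b z Q N J hF => ?_)
    (fun _ hc' hx => h.false_of_cube hcore hc' hx) (fun _ _ _ _ _ _ C => C.false_linear)
    (fun a b z Q N J hF hQ hN hsh _ _ => hF.square_stab hLT (hφ z hF.bad) hc.bad_mul hQ hN hsh)
  refine hF.shift hLT (hφ z hF.bad) hc.bad_mul ?_
  rw [hc.card_fixed z hF.bad, hc.card_W a, Nat.add_sub_cancel]
  exact hc.card_points

/-- The induction step. -/
theorem tiStep : TIStep.{u} :=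
  tiStep_of (fun _ _ _ _ _ _ _ _ h => ⟨h.locHyp h.coreLocHyp, h.lineHyp⟩)
    (fun _ _ _ _ _ _ _ _ h _ _ _ hc _ hx => h.false_of_centred hc hx)

/-- Theorem T: with a TI setting generating the group no involution fixes two points. -/
theorem theorem_T {G : Type u} {Ω : Type v} [Group G] [Finite G] [Finite Ω] [MulAction G Ω]
    [FaithfulSMul G Ω] {W : Ω → Subgroup G} (hW : TISetting W)
    (hgen : Subgroup.closure (members W) = ⊤) : NoBad G Ω :=
  noBad_of_step' tiStep hW hgen

end CfsgLib.LocalEven.TIEndgame
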