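import Cfsg.Agent.Lib.LocalEven.TIEndgame.Setup
import Cfsg.Agent.Lib.Involution.ZStar.Main
import Cfsg.Agent.Lib.Solvable.Cores

/-!
# The swappers of a pair of points

Two members exchanging the same pair commute only if they are equal. So each is isolated in the
setwise stabiliser of the pair, and by the `Z*` theorem the products of two of them lie in the odd
core `swapCore` of that stabiliser, which fixes both points.
-/

set_option autoImplicit false
set_option linter.style.haveILetI false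

namespace CfsgLib.LocalEven.TIEndgame

open MulAction CfsgLib.Involution

universe u v

variable {G : Type u} {Ω : Type v} [Group G] [MulAction G Ω]

/-- The setwise stabiliser of a pair of points. -/
def pairStab (G : Type u) [Group G] [MulAction G Ω] (a b : Ω) : Subgroup G where
  carrier := {g | (g • a = a ∧ g • b = b) ∨ (g • a = b ∧ g • b = a)}
  one_mem' := Or.inl ⟨one_smul _ _, one_smul _ _⟩
  mul_mem' := by
    rintro g g' (⟨h1, h2⟩ | ⟨h1, h2⟩) (⟨h3, h4⟩ | ⟨h3, h4⟩) <;> simp [mul_smul, h1, h2, h3, h4]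
  inv_mem' := by
    rintro g (⟨h1, h2⟩ | ⟨h1, h2⟩) <;> simp [inv_smul_eq_iff, h1, h2]

theorem mem_pairStab {a b : Ω} {g : G} :
    g ∈ pairStab G a b ↔ (g • a = a ∧ g • b = b) ∨ (g • a = b ∧ g • b = a) := Iff.rfl

/-- The odd core of the stabiliser of a pair, as a subgroup of the group. -/
def swapCore (G : Type u) [Group G] [MulAction G Ω] (a b : Ω) : Subgroup G :=
  (Cfsg.oddCore ↥(pairStab G a b)).map (pairStab G a b).subtype

theorem conj_mem_swapCore {a b : Ω} {g k : G} (hg : g ∈ pairStab G a b)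
    (hk : k ∈ swapCore G a b) : g * k * g⁻¹ ∈ swapCore G a b := by
  obtain ⟨k, hk', rfl⟩ := hk
  haveI : (Cfsg.oddCore ↥(pairStab G a b)).Normal := Subgroup.sSup_normal _ fun _ h => h.1
  exact ⟨⟨g, hg⟩ * k * ⟨g, hg⟩⁻¹, this.conj_mem k hk' ⟨g, hg⟩, rfl⟩

theorem odd_card_swapCore [Finite G] (a b : Ω) : Odd (Nat.card (swapCore G a b)) := by
  rw [swapCore, Subgroup.card_subtype]
  exact Nat.coprime_two_left.1 (CfsgLib.Solvable.Cores.coprime_card_pPrimeCore 2).symm

theorem swapCore_le [Finite G] (a b : Ω) : swapCore G a b ≤ stabilizer G a ⊓ stabilizer G b := by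
  intro k hk
  have hodd : Odd (orderOf k) :=
    (odd_card_swapCore a b).of_dvd_nat (Subgroup.orderOf_dvd_natCard _ hk)
  have hmem : k ∈ pairStab G a b := by
    obtain ⟨y, -, rfl⟩ := hk; exact y.2
  obtain ⟨m, hm⟩ := hodd
  have hsq : (k ^ 2) • a = a ∧ (k ^ 2) • b = b := by
    rcases hmem with ⟨h1, h2⟩ | ⟨h1, h2⟩ <;> simp [pow_two, mul_smul, h1, h2]
  have h2 : k ^ 2 ∈ stabilizer G a ⊓ stabilizer G b := ⟨hsq.1, hsq.2⟩
  have hk' : (k ^ 2) ^ (m + 1) = k := by
    rw [← pow_mul, show 2 * (m + 1) = orderOf k + 1 by omega, pow_succ, pow_orderOf_eq_one, one_mul]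
  exact hk' ▸ pow_mem h2 (m + 1)

theorem swapCore_le_pPrimeCore [Finite G] (a b : Ω) :
    (swapCore G a b).subgroupOf (stabilizer G a ⊓ stabilizer G b) ≤
      Cfsg.pPrimeCore 2 ↥(stabilizer G a ⊓ stabilizer G b) := by
  haveI : ((swapCore G a b).subgroupOf (stabilizer G a ⊓ stabilizer G b)).Normal :=
    ⟨fun k hk g => conj_mem_swapCore (Or.inl ⟨g.2.1, g.2.2⟩) hk⟩
  refine CfsgLib.Solvable.Cores.le_pPrimeCore ?_
  rw [Nat.card_congr (Subgroup.subgroupOfEquivOfLe (swapCore_le a b)).toEquiv]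
  exact (Nat.coprime_two_left.2 (odd_card_swapCore a b)).symm

namespace OnePoint

variable {D : Set G} (h : OnePoint D Ω)
include h

theorem swap_smul {a b : Ω} {f : G} (hf : f ∈ swappers D a b) : f • b = a := by
  rw [← hf.2, h.smul_smul_self hf.1]

theorem swapper_mem_pairStab {a b : Ω} {f : G} (hf : f ∈ swappers D a b) : f ∈ pairStab G a b :=
  Or.inr ⟨hf.2, h.swap_smul hf⟩

theorem mul_smul_pair {a b : Ω} {f f' : G} (hf : f ∈ swappers D a b) (hf' : f' ∈ swappers D a b) :
    (f * f') • a = a ∧ (f * f') • b = b := by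
  rw [mul_smul, mul_smul, hf'.2, h.swap_smul hf, h.swap_smul hf', hf.2]
  exact ⟨rfl, rfl⟩

/-- Two commuting swappers of a pair are equal. -/
theorem swapper_eq_of_commute {a b : Ω} (hab : a ≠ b) {f f' : G} (hf : f ∈ swappers D a b)
    (hf' : f' ∈ swappers D a b) (hc : Commute f f') : f = f' := by
  by_contra hne
  exact hab (h.pair_unique f hf.1 f' hf'.1 hc hne a b (h.mul_smul_pair hf hf').1
    (h.mul_smul_pair hf hf').2)

variable [Finite G]

/-- Two swappers of a pair have a product of odd order. -/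
theorem odd_mul_swappers {a b : Ω} (hab : a ≠ b) {f f' : G} (hf : f ∈ swappers D a b)
    (hf' : f' ∈ swappers D a b) : Odd (orderOf (f * f')) := by
  by_contra hodd
  rw [Nat.not_odd_iff_even] at hodd
  have hf2 := h.orderOf_eq f hf.1
  have hl := Dihedral.half_commute_left hf2 (h.orderOf_eq f' hf'.1) hodd
  have hv2 := Dihedral.half_orderOf hodd
  set v := (f * f') ^ (orderOf (f * f') / 2) with hv
  have hw : f * v ∈ D := by
    rw [hv, ← zpow_natCast]; exact h.reflection_mem hf.1 hf'.1 _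
  have hva : v ∈ stabilizer G a ⊓ stabilizer G b := by
    rw [hv]
    refine pow_mem ?_ _
    exact ⟨(h.mul_smul_pair hf hf').1, (h.mul_smul_pair hf hf').2⟩
  have hsw : f * v ∈ swappers D a b :=
    ⟨hw, by rw [mul_smul, mem_stabilizer_iff.1 hva.1, hf.2]⟩
  have := h.swapper_eq_of_commute hab hf hsw ((Commute.refl f).mul_right hl.symm)
  exact Dihedral.ne_one hv2 (by simpa using this)

omit [Finite G] in
/-- A swapper is isolated in the stabiliser of the pair. -/
theorem isolated_swapper {a b : Ω} (hab : a ≠ b) {f : G} (hf : f ∈ swappers D a b) :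
    Cfsg.IsIsolatedInvolution (⟨f, h.swapper_mem_pairStab hf⟩ : ↥(pairStab G a b)) := by
  refine ⟨(Subgroup.orderOf_mk f _).trans (h.orderOf_eq f hf.1), fun g hg => Subtype.ext ?_⟩
  have hgf : (g : G) * f * (g : G)⁻¹ ∈ swappers D a b := by
    refine ⟨h.conj_mem g f hf.1, ?_⟩
    rcases g.2 with ⟨h1, h2⟩ | ⟨h1, h2⟩
    · rw [mul_smul, mul_smul, inv_smul_eq_iff.2 h1.symm, hf.2, h2]
    · rw [mul_smul, mul_smul, inv_smul_eq_iff.2 h2.symm, h.swap_smul hf, h1]
  exact (h.swapper_eq_of_commute hab hf hgf (congrArg Subtype.val hg.eq)).symm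

/-- The product of two swappers lies in the odd core of the pair stabiliser. -/
theorem mul_mem_swapCore {a b : Ω} (hab : a ≠ b) {f f' : G} (hf : f ∈ swappers D a b)
    (hf' : f' ∈ swappers D a b) : f * f' ∈ swapCore G a b := by
  obtain ⟨k, hk, hkf⟩ := Dihedral.exists_conj_of_odd (h.orderOf_eq f hf.1) (h.orderOf_eq f' hf'.1)
    (h.odd_mul_swappers hab hf hf')
  have hmem : ∀ {x}, x ∈ swappers D a b → x ∈ pairStab G a b := fun hx => h.swapper_mem_pairStab hx
  have hkK : k ∈ pairStab G a b :=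
    Subgroup.zpowers_le.2 (mul_mem (hmem hf) (hmem hf')) hk
  refine ⟨⟨f, hmem hf⟩ * ⟨f', hmem hf'⟩, ?_, rfl⟩
  have := CfsgLib.Involution.ZStar.comm_mem_oddCore (h.isolated_swapper hab hf) ⟨k, hkK⟩
  have he : (⟨f, hmem hf⟩ * ⟨f', hmem hf'⟩ : ↥(pairStab G a b)) =
      ⟨f, hmem hf⟩ * ⟨k, hkK⟩ * ⟨f, hmem hf⟩⁻¹ * ⟨k, hkK⟩⁻¹ := Subtype.ext <| by
    show f * f' = f * k * f⁻¹ * k⁻¹
    rw [← hkf, h.inv_eq hf.1]; group
  exact he ▸ this

/-- The odd core is transitive on the members at one of the points. -/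
theorem exists_conj_swapCore {a b : Ω} (hab : a ≠ b) {d d' : G} (hd : d ∈ dat D a)
    (hd' : d' ∈ dat D a) (hb : (dat D b).Nonempty) :
    ∃ g ∈ swapCore G a b, g * d * g⁻¹ = d' := by
  obtain ⟨e, he⟩ := hb
  obtain ⟨f, ⟨hf, hfe⟩, -⟩ := h.existsUnique_swapper hd he hab
  obtain ⟨f', ⟨hf', hf'e⟩, -⟩ := h.existsUnique_swapper hd' he hab
  refine ⟨f' * f, h.mul_mem_swapCore hab hf' hf, ?_⟩
  rw [show f' * f * d * (f' * f)⁻¹ = f' * (f * d * f⁻¹) * f'⁻¹ by group, hfe, ← hf'e,
    h.inv_eq hf'.1]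
  calc f' * (f' * d' * f') * f' = f' * f' * d' * (f' * f') := by group
    _ = d' := by rw [h.mul_self hf'.1, one_mul, mul_one]

end OnePoint

namespace TISetting

variable {W : Ω → Subgroup G} (h : TISetting W)
include h

/-- The odd part of a two-point stabiliser is transitive on the members at the first point. -/
theorem exists_conj_swapCore [Finite G] {a b : Ω} (hab : a ≠ b) {d d' : G} (hd : d ∈ W a)
    (hd' : d' ∈ W a) (hd1 : d ≠ 1) (hd'1 : d' ≠ 1) :
    ∃ g ∈ swapCore G a b, g * d * g⁻¹ = d' :=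
  h.onePoint.exists_conj_swapCore hab (by rw [h.dat_eq]; exact ⟨hd, hd1⟩)
    (by rw [h.dat_eq]; exact ⟨hd', hd'1⟩) (OnePoint.dat_nonempty h.covers b)

end TISetting

end CfsgLib.LocalEven.TIEndgame
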