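import Cfsg.Agent.Lib.LocalEven.TIEndgame.Small
import Mathlib.Tactic.LinearCombination
import Mathlib.Tactic.Linarith
import Mathlib.Tactic.Ring

/-!
# Theorem T: the count and the possible configurations

Given the data of the lines of bad involutions, either all bad involutions centralise the members
at their fixed points (`CentredConfig`) or all move them (`MovedConfig`); in both cases the number
of points is determined by `q` and by the type of the lines.
-/

set_option autoImplicit false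
set_option linter.style.haveILetI false

namespace CfsgLib.LocalEven.TIEndgame

open MulAction
open CfsgLib.Involution

universe u

variable {G Ω : Type u} [Group G] [MulAction G Ω]

/-- The data of the line of every bad involution at every point it fixes. -/
abbrev LineHyp (W : Ω → Subgroup G) : Prop :=
  ∀ (x : G) (a : Ω), IsBad Ω x → x • a = a → LineData W x a

/-- All bad involutions centralise the members at their points. -/
structure CentredConfig (W : Ω → Subgroup G) (w i : ℕ) : Prop where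
  four : 4 ≤ w
  index : i = 1 ∨ i = 2 ∨ i = 3
  card_W : ∀ a, Nat.card (W a) = w
  comm : ∀ (x : G) (a : Ω), IsBad Ω x → x • a = a → ∀ y ∈ W a, Commute x y
  card_fixed : ∀ x : G, IsBad Ω x → Nat.card (fixedBy Ω x) = w ^ i + 1
  card_points : Nat.card Ω = (w ^ i + 1) * (1 + w ^ i * (w - 1))
  bad_mul : ∀ (x : G) (a : Ω), IsBad Ω x → x • a = a → ∀ r ∈ W a, IsBad Ω (x * r)

/-- All bad involutions move members at their points. -/
structure MovedConfig (W : Ω → Subgroup G) (q i : ℕ) : Prop where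
  four : 4 ≤ q
  index : i = 1 ∨ i = 3
  card_W : ∀ a, Nat.card (W a) = q ^ 2
  card_centred : ∀ (x : G) (a : Ω), IsBad Ω x → x • a = a → Nat.card (centredAt W x a) = q
  conj : ∀ (x : G) (a : Ω), IsBad Ω x → x • a = a → ∀ r ∈ centredAt W x a,
    ∃ y ∈ W a, y * x * y⁻¹ = x * r
  range_eq : ∀ (x : G) (a : Ω), IsBad Ω x → x • a = a → ∀ y ∈ W a, y * (x * y * x⁻¹) ∈ centredAt W x a
  card_fixed : ∀ x : G, IsBad Ω x → Nat.card (fixedBy Ω x) = q ^ i + 1
  card_linear : i = 1 → Nat.card Ω = q ^ 2 + 1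
  card_unitary : i = 3 → Nat.card Ω = q ^ 4 * (q ^ 2 - 2 * q + 2) + 1
  bad_mul : ∀ (x : G) (a : Ω), IsBad Ω x → x • a = a → ∀ r ∈ centredAt W x a, IsBad Ω (x * r)

theorem isBad_conj {x : G} (g : G) (hx : IsBad Ω x) : IsBad Ω (g * x * g⁻¹) := by
  obtain ⟨hx2, a, b, hab, ha, hb⟩ := hx
  refine ⟨?_, g • a, g • b, fun e => hab (smul_left_cancel g e), ?_, ?_⟩
  · rw [← hx2]
    exact orderOf_injective (MulAut.conj g).toMonoidHom (MulAut.conj g).injective x
  · rw [mul_smul, mul_smul, inv_smul_smul, ha]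
  · rw [mul_smul, mul_smul, inv_smul_smul, hb]

theorem card_fixedBy_conj (g x : G) :
    Nat.card (fixedBy Ω (g * x * g⁻¹)) = Nat.card (fixedBy Ω x) :=
  (Nat.card_congr
    { toFun := fun b : fixedBy Ω x => (⟨g • (b : Ω), by
        show (g * x * g⁻¹) • g • (b : Ω) = g • (b : Ω)
        rw [mul_smul, mul_smul, inv_smul_smul, show x • (b : Ω) = b from b.2]⟩ :
          fixedBy Ω (g * x * g⁻¹))
      invFun := fun b => ⟨g⁻¹ • (b : Ω), by
        have h1 : (g * x * g⁻¹) • (b : Ω) = b := b.2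
        rw [mul_smul, mul_smul] at h1
        show x • g⁻¹ • (b : Ω) = g⁻¹ • (b : Ω)
        exact eq_inv_smul_iff.2 h1⟩
      left_inv := fun b => Subtype.ext (inv_smul_smul g _)
      right_inv := fun b => Subtype.ext (smul_inv_smul g _) }).symm

namespace TISetting

variable {W : Ω → Subgroup G} (h : TISetting W)
include h

theorem card_W_smul (g : G) (a : Ω) : Nat.card (W (g • a)) = Nat.card (W a) :=
  (Nat.card_eq_of_bijective
    (fun y : W a => (⟨g * y * g⁻¹, h.conj g a y y.2⟩ : W (g • a)))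
    ⟨fun y z e => Subtype.ext (mul_left_cancel (mul_right_cancel (congrArg Subtype.val e))),
      fun z => ⟨⟨g⁻¹ * z * g, (h.conj_mem_iff (g := g)).1 (by
        rw [show g * (g⁻¹ * (z : G) * g) * g⁻¹ = z by group]; exact z.2)⟩,
        Subtype.ext (by group)⟩⟩).symm

theorem conj_mem_centredAt_iff {g x y : G} {a : Ω} :
    g * y * g⁻¹ ∈ centredAt W (g * x * g⁻¹) (g • a) ↔ y ∈ centredAt W x a := by
  simp only [centredAt, Subgroup.mem_inf, Subgroup.mem_centralizer_singleton_iff]
  refine and_congr h.conj_mem_iff ?_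
  rw [show g * y * g⁻¹ * (g * x * g⁻¹) = g * (y * x) * g⁻¹ by group,
    show g * x * g⁻¹ * (g * y * g⁻¹) = g * (x * y) * g⁻¹ by group, mul_left_inj, mul_right_inj]

theorem card_centredAt_conj (g x : G) (a : Ω) :
    Nat.card (centredAt W (g * x * g⁻¹) (g • a)) = Nat.card (centredAt W x a) :=
  (Nat.card_eq_of_bijective
    (fun y : centredAt W x a => (⟨g * y * g⁻¹, h.conj_mem_centredAt_iff.2 y.2⟩ :
      centredAt W (g * x * g⁻¹) (g • a)))
    ⟨fun y z e => Subtype.ext (mul_left_cancel (mul_right_cancel (congrArg Subtype.val e))),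
      fun z => ⟨⟨g⁻¹ * z * g, (h.conj_mem_centredAt_iff (g := g)).1 (by
        rw [show g * (g⁻¹ * (z : G) * g) * g⁻¹ = z by group]; exact z.2)⟩,
        Subtype.ext (by group)⟩⟩).symm

variable [Finite G]

theorem card_centredAt_eq {x : G} (hx : orderOf x = 2) {a b : Ω} (ha : x • a = a)
    (hb : x • b = b) : Nat.card (centredAt W x b) = Nat.card (centredAt W x a) := by
  obtain ⟨c, hxc, rfl⟩ := h.onePoint.exists_commute_move h.covers hx ha hb
  have := h.card_centredAt_conj c x a
  rwa [show c * x * c⁻¹ = x from mul_inv_eq_iff_eq_mul.2 hxc.symm.eq] at this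

omit [Finite G] in
theorem card_dat_centred (v : G) (b : Ω) :
    Nat.card {d : G // d ∈ dat (members W) b ∧ Commute v d} =
      Nat.card (centredAt W v b) - 1 := by
  have hs : {d : G | d ∈ dat (members W) b ∧ Commute v d} = (centredAt W v b : Set G) \ {1} := by
    ext d
    rw [h.dat_eq]
    simp only [Set.mem_ofPred_eq, Set.mem_sdiff, SetLike.mem_coe, centredAt, Subgroup.mem_inf,
      Subgroup.mem_centralizer_singleton_iff, Set.mem_singleton_iff]
    exact ⟨fun hd => ⟨⟨hd.1.1, hd.2.symm.eq⟩, hd.1.2⟩,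
      fun hd => ⟨⟨hd.1.1, hd.2⟩, hd.1.2.symm⟩⟩
  show Nat.card ↥{d : G | d ∈ dat (members W) b ∧ Commute v d} = _
  rw [Nat.card_coe_set_eq, hs, Set.ncard_sdiff_singleton_of_mem (one_mem _), ← Nat.card_coe_set_eq]
  rfl

theorem card_members_on [Finite Ω] (v : G) (s : Set Ω) {k : ℕ}
    (hk : ∀ b ∈ s, Nat.card (centredAt W v b) = k + 1) :
    Nat.card {d : G // d ∈ members W ∧ Commute v d ∧ ∃ b ∈ s, d • b = b} = Nat.card s * k := by
  classical
  haveI : Fintype ↥s := Fintype.ofFinite _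
  let e : {d : G // d ∈ members W ∧ Commute v d ∧ ∃ b ∈ s, d • b = b} ≃
      Σ b : ↥s, {d : G // d ∈ dat (members W) (b : Ω) ∧ Commute v d} :=
    { toFun := fun d => ⟨⟨d.2.2.2.choose, d.2.2.2.choose_spec.1⟩, d.1,
        ⟨d.2.1, d.2.2.2.choose_spec.2⟩, d.2.2.1⟩
      invFun := fun p => ⟨p.2.1, p.2.2.1.1, p.2.2.2, p.1, p.1.2, p.2.2.1.2⟩
      left_inv := fun _ => rfl
      right_inv := by
        rintro ⟨⟨b, hbs⟩, d, ⟨hd, hdb⟩, hvd⟩
        have hx : ∃ b ∈ s, d • b = b := ⟨b, hbs, hdb⟩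
        have h1 : hx.choose = b := h.onePoint.fixed_unique d hd _ _ hx.choose_spec.2 hdb
        subst h1
        rfl }
  rw [Nat.card_congr e, Nat.card_sigma, Finset.sum_congr rfl fun b _ => ?_, Finset.sum_const,
    Finset.card_univ, smul_eq_mul, Nat.card_eq_fintype_card]
  rw [h.card_dat_centred, hk b b.2, Nat.add_sub_cancel]

omit [Finite G] in
theorem mul_right_involution {x r : G} (hx : IsBad Ω x) {a : Ω} (hxa : x • a = a)
    (hr : r ∈ centredAt W x a) : orderOf (x * r) = 2 ∧ (x * r) • a = a := by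
  obtain ⟨hrW, hrx⟩ := hr
  have hc : Commute x r := (Subgroup.mem_centralizer_singleton_iff.1 hrx).symm
  obtain ⟨hx2, p, q, hpq, hp, hq⟩ := hx
  refine ⟨orderOf_eq_prime ?_ fun e => ?_, ?_⟩
  · rw [pow_two]
    calc x * r * (x * r) = x * (r * x) * r := by group
      _ = (x * x) * (r * r) := by rw [← hc.eq]; group
      _ = 1 := by rw [Dihedral.mul_self hx2, h.sq a r hrW, mul_one]
  · have hxr : x = r := (mul_eq_one_iff_eq_inv.1 e).trans (h.inv_of_mem hrW)
    refine hpq (h.onePoint.fixed_unique x ⟨Dihedral.ne_one hx2, a, hxr ▸ hrW⟩ p q hp hq)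
  · rw [mul_smul, mem_stabilizer_iff.1 (h.fix a hrW), hxa]

end TISetting

theorem commute_of_mem_lineGroup {W : Ω → Subgroup G} {x g : G} (hg : g ∈ lineGroup W x) :
    Commute x g := by
  have hle : lineGroup W x ≤ Subgroup.centralizer {x} :=
    (Subgroup.closure_le _).2 fun f hf => Subgroup.mem_centralizer_singleton_iff.2 hf.2.symm.eq
  exact (Subgroup.mem_centralizer_singleton_iff.1 (hle hg)).symm

variable [Finite G] [Finite Ω] [FaithfulSMul G Ω] {W : Ω → Subgroup G}

omit [Finite G] in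
theorem fixed_lt_card {x : G} (hx : x ≠ 1) : Nat.card (fixedBy Ω x) < Nat.card Ω := by
  rw [Nat.card_coe_set_eq, ← Set.ncard_univ]
  exact Set.ncard_lt_ncard ((Set.ssubset_univ_iff).2 fun e => hx (FaithfulSMul.eq_of_smul_eq_smul
    fun b : Ω => by rw [one_smul]; exact (e.symm ▸ Set.mem_univ b : b ∈ fixedBy Ω x)))

omit [Finite G] [FaithfulSMul G Ω] in
theorem two_le_card_fixed {x : G} (hx : IsBad Ω x) : 2 ≤ Nat.card (fixedBy Ω x) := by
  obtain ⟨-, a, b, hab, ha, hb⟩ := hx
  rw [Nat.card_coe_set_eq, ← Set.ncard_pair hab]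
  exact Set.ncard_le_ncard (Set.insert_subset ha (Set.singleton_subset_iff.2 hb))

omit [Finite G] [FaithfulSMul G Ω] in
theorem isBad_of_card {x : G} (hx : orderOf x = 2) (h2 : 2 ≤ Nat.card (fixedBy Ω x)) :
    IsBad Ω x := by
  rw [Nat.card_coe_set_eq] at h2
  obtain ⟨a, ha, b, hb, hab⟩ := (Set.one_lt_ncard (Set.toFinite _)).1 h2
  exact ⟨hx, a, b, hab, ha, hb⟩

namespace TISetting

variable (h : TISetting W) (hline : LineHyp W)
include h

omit [FaithfulSMul G Ω] in
/-- Middle elements count the members moved by a bad involution. -/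
theorem count {x : G} (hx : IsBad Ω x) {a : Ω} (hxa : x • a = a) (hl : LineData W x a) {r : G}
    (hr : r ∈ centredAt W x a) (hr1 : r ≠ 1) :
    (Nat.card Ω - Nat.card (fixedBy Ω x)) * (Nat.card (W a) - 1) =
      Nat.card (fixedBy Ω x) * (Nat.card (centredAt W x a) - 1) *
        ((Nat.card (fixedBy Ω (x * r)) - 1) * (Nat.card (centredAt W (x * r) a) - 1)) := by
  classical
  have : Fintype ↥(centred (members W) x) := Fintype.ofFinite _
  have hop := h.onePoint
  haveI : IsPretransitive G Ω := ⟨fun p q => hop.exists_move h.covers p q⟩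
  obtain ⟨hx2, p, p', hpp, hp, hp'⟩ := hx
  have hxbad : IsBad Ω x := ⟨hx2, p, p', hpp, hp, hp'⟩
  obtain ⟨b₀, hb₀, hb₀a⟩ : ∃ b : Ω, x • b = b ∧ b ≠ a := by
    by_cases e : p = a
    · exact ⟨p', hp', fun e' => hpp (e.trans e'.symm)⟩
    · exact ⟨p, hp, e⟩
  have hterm : ∀ f : ↥(centred (members W) x),
      Nat.card {d : G // d ∈ moved (members W) Ω x ∧ Commute (x * (f : G)) d} =
        (Nat.card (fixedBy Ω (x * r)) - 1) * (Nat.card (centredAt W (x * r) a) - 1) := by
    rintro ⟨f, hf⟩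
    show Nat.card {d : G // d ∈ moved (members W) Ω x ∧ Commute (x * f) d} = _
    obtain ⟨b, hfb⟩ := hop.exists_fixed f hf.1
    have hxb : x • b = b := hop.centred_fixed hf hfb
    obtain ⟨c, hxc, hcb⟩ := hop.exists_commute_move h.covers hx2 hxb hxa
    have hxcx : c * x * c⁻¹ = x := mul_inv_eq_iff_eq_mul.2 hxc.symm.eq
    have hfW : f ∈ centredAt W x b :=
      ⟨h.mem_of_fixed hf.1 hfb, Subgroup.mem_centralizer_singleton_iff.2 hf.2.symm.eq⟩
    have hf' : c * f * c⁻¹ ∈ centredAt W x a := by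
      have := (h.conj_mem_centredAt_iff (g := c)).2 hfW
      rwa [hxcx, hcb] at this
    obtain ⟨g, hg, hga, -, -, hgr⟩ := hl.torus b₀ hb₀ hb₀a _ hf' r hr
      (fun e => hf.1.1 (conj_eq_one_iff.1 e)) hr1
    have hxg := commute_of_mem_lineGroup hg
    have hxr : (g * c) * (x * f) * (g * c)⁻¹ = x * r := by
      calc (g * c) * (x * f) * (g * c)⁻¹
          = (g * (c * x * c⁻¹) * g⁻¹) * (g * (c * f * c⁻¹) * g⁻¹) := by group
        _ = x * r := by rw [hxcx, hgr, mul_inv_eq_iff_eq_mul.2 hxg.symm.eq]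
    have hgcb : (g * c) • b = a := by rw [mul_smul, hcb, hga]
    obtain ⟨hxf2, hxfb⟩ := h.mul_right_involution hxbad hxb hfW
    have hφ : Nat.card (fixedBy Ω (x * r)) = Nat.card (fixedBy Ω (x * f)) := by
      rw [← hxr, card_fixedBy_conj]
    have hq : Nat.card (centredAt W (x * r) a) = Nat.card (centredAt W (x * f) b) := by
      rw [← hxr, ← hgcb, h.card_centredAt_conj]
    rw [hφ, hq]
    have hset : Nat.card {d : G // d ∈ moved (members W) Ω x ∧ Commute (x * f) d} =
        Nat.card {d : G // d ∈ members W ∧ Commute (x * f) d ∧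
          ∃ c ∈ fixedBy Ω (x * f) \ {b}, d • c = c} := by
      refine Nat.card_congr (Equiv.subtypeEquivRight fun d => ⟨?_, ?_⟩)
      · rintro ⟨⟨hdD, hdmv⟩, hdc⟩
        obtain ⟨e, hde⟩ := hop.exists_fixed d hdD
        refine ⟨hdD, hdc, e, ⟨hop.fix_of_commute hdD hde hdc.symm, fun he => ?_⟩, hde⟩
        exact hdmv e hde ((Set.mem_singleton_iff.1 he).symm ▸ hxb)
      · rintro ⟨hdD, hdc, e, ⟨hxfe, hne⟩, hde⟩
        refine ⟨⟨hdD, fun e' hde' hxe => ?_⟩, hdc⟩
        obtain rfl : e' = e := hop.fixed_unique d hdD _ _ hde' hde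
        refine hne (Set.mem_singleton_iff.2 (hop.fixed_unique f hf.1 e' b ?_ hfb))
        have h1 : (x * f) • e' = e' := hxfe
        rw [mul_smul] at h1
        calc f • e' = x • (x • f • e') := by rw [smul_smul, Dihedral.mul_self hx2, one_smul]
          _ = e' := by rw [h1, hxe]
    rw [hset, h.card_members_on (x * f) _ (k := Nat.card (centredAt W (x * f) b) - 1)
      (fun e he => ?_)]
    · rw [Nat.card_coe_set_eq, Set.ncard_sdiff_singleton_of_mem (by exact hxfb),
        ← Nat.card_coe_set_eq]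
    · rw [h.card_centredAt_eq hxf2 hxfb he.1]
      have := h.two_le_centredAt hxf2 hxfb
      omega
  have hcount := hop.card_moved (Dihedral.mul_self hx2)
  rw [hop.card_moved_eq x a, Finset.sum_congr rfl fun f _ => hterm f, Finset.sum_const,
    Finset.card_univ, smul_eq_mul] at hcount
  have hcompl : Nat.card {b : Ω // x • b ≠ b} = Nat.card Ω - Nat.card (fixedBy Ω x) := by
    show Nat.card ↥(fixedBy Ω x)ᶜ = _
    rw [Nat.card_coe_set_eq, Set.ncard_compl, Nat.card_coe_set_eq]
  have hdat : Nat.card (dat (members W) a) = Nat.card (W a) - 1 := by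
    have hs : {d : G | d ∈ W a ∧ d ≠ 1} = (W a : Set G) \ {1} := by ext; simp
    rw [h.dat_eq, Nat.card_coe_set_eq, hs, Set.ncard_sdiff_singleton_of_mem (one_mem _),
      ← Nat.card_coe_set_eq]
    rfl
  have hcen : Fintype.card ↥(centred (members W) x) =
      Nat.card (fixedBy Ω x) * (Nat.card (centredAt W x a) - 1) := by
    rw [← Nat.card_eq_fintype_card, ← h.card_members_on x (fixedBy Ω x) (fun e he => ?_)]
    · refine Nat.card_congr (Equiv.subtypeEquivRight fun d =>
        ⟨fun hd => ?_, fun hd => ⟨hd.1, hd.2.1⟩⟩)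
      obtain ⟨e, he⟩ := hop.exists_fixed d hd.1
      exact ⟨hd.1, hd.2, e, hop.centred_fixed hd he, he⟩
    · rw [h.card_centredAt_eq hx2 hxa he]
      have := h.two_le_centredAt hx2 hxa
      omega
  rwa [hcompl, hdat, hcen] at hcount

include hline

omit [Finite G] [Finite Ω] [FaithfulSMul G Ω] in
/-- An involution fixing a point centralises the members there or has all products with centred
members as conjugates. -/
theorem centred_or_moved {x : G} (hx : IsBad Ω x) {a : Ω} (hxa : x • a = a) :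
    (∀ y ∈ W a, Commute x y) ∨
      (Nat.card (W a) = Nat.card (centredAt W x a) ^ 2 ∧
        (h.commHom hxa).range = (h.commHom hxa).ker) := by
  classical
  have hxx : x * x = 1 := Dihedral.mul_self hx.1
  rcases eq_or_ne (h.commHom hxa).range ⊥ with hbot | hne
  · left
    intro y hy
    have h1 : h.commHom hxa ⟨y, hy⟩ ∈ (⊥ : Subgroup (W a)) := hbot ▸ ⟨_, rfl⟩
    have hker : (⟨y, hy⟩ : W a) ∈ (h.commHom hxa).ker :=
      MonoidHom.mem_ker.2 (Subgroup.mem_bot.1 h1)
    have hmem : y ∈ centredAt W x a := by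
      rw [← h.commHom_ker_map hxa]
      exact ⟨_, hker, rfl⟩
    exact (Subgroup.mem_centralizer_singleton_iff.1 hmem.2).symm
  · right
    obtain ⟨b₀, hb₀, hb₀a⟩ : ∃ b : Ω, x • b = b ∧ b ≠ a := by
      obtain ⟨-, p, p', hpp, hp, hp'⟩ := hx
      by_cases e : p = a
      · exact ⟨p', hp', fun e' => hpp (e.trans e'.symm)⟩
      · exact ⟨p, hp, e⟩
    obtain ⟨t, htne⟩ := (Subgroup.ne_bot_iff_exists_ne_one).1 hne
    obtain ⟨z, hz⟩ := t.2
    have heq : (h.commHom hxa).range = (h.commHom hxa).ker := by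
      refine le_antisymm (h.range_le_ker hxx hxa) fun s hs => ?_
      rcases eq_or_ne s 1 with rfl | hs1
      · exact one_mem _
      have ht : ((t : W a) : G) ∈ centredAt W x a := by
        rw [← h.commHom_ker_map hxa]
        exact ⟨_, h.range_le_ker hxx hxa t.2, rfl⟩
      have hs' : (s : G) ∈ centredAt W x a := by
        rw [← h.commHom_ker_map hxa]
        exact ⟨_, hs, rfl⟩
      obtain ⟨g, hg, hga, -, -, hgts⟩ := (hline x a hx hxa).torus b₀ hb₀ hb₀a _ ht _ hs'
        (fun e => htne (Subtype.ext (Subtype.ext e))) (fun e => hs1 (Subtype.ext e))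
      have hxg := commute_of_mem_lineGroup hg
      refine ⟨⟨g * z * g⁻¹, h.conj_mem_W hga z.2⟩, Subtype.ext ?_⟩
      have hzv : (z : G) * (x * z * x⁻¹) = ((t : W a) : G) := congrArg Subtype.val hz
      show g * (z : G) * g⁻¹ * (x * (g * z * g⁻¹) * x⁻¹) = s
      calc g * (z : G) * g⁻¹ * (x * (g * z * g⁻¹) * x⁻¹)
          = g * (z : G) * g⁻¹ * ((x * g) * z * (x * g)⁻¹) := by group
        _ = g * (z * (x * z * x⁻¹)) * g⁻¹ := by rw [hxg.eq]; group
        _ = s := by rw [hzv, hgts]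
    refine ⟨?_, heq⟩
    rw [h.card_W_eq_mul hxa, heq, h.card_commHom_ker hxa, pow_two]

omit [Finite G] [Finite Ω] [FaithfulSMul G Ω] hline in
theorem conj_of_range {x : G} (hx : x * x = 1) {a : Ω} (hxa : x • a = a)
    (heq : (h.commHom hxa).range = (h.commHom hxa).ker) {r : G} (hr : r ∈ centredAt W x a) :
    ∃ y ∈ W a, y * x * y⁻¹ = x * r := by
  rw [← h.commHom_ker_map hxa, ← heq] at hr
  obtain ⟨r', ⟨z, rfl⟩, rfl⟩ := hr
  refine ⟨z, z.2, ?_⟩
  show (z : G) * x * (z : G)⁻¹ = x * ((z : G) * (x * z * x⁻¹))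
  have hxi : x⁻¹ = x := inv_eq_of_mul_eq_one_right hx
  have hc : Commute (z : G) (x * z * x⁻¹) := h.mul_comm_of_mem z.2 (h.conj_mem_W hxa z.2)
  rw [h.inv_of_mem z.2, hc.eq, hxi]
  calc (z : G) * x * z = x * x * (z * x * z) := by rw [hx, one_mul]
    _ = x * (x * z * x * z) := by group

end TISetting

omit [Finite G] [Finite Ω] [FaithfulSMul G Ω] in
theorem linear_count {q m : ℕ} (hq : 2 ≤ q)
    (he : m * (q ^ 2 - 1) = (q + 1) * (q - 1) * (q * (q - 1))) : m = q * (q - 1) := by
  obtain ⟨k, rfl⟩ : ∃ k, q = k + 2 := ⟨q - 2, by omega⟩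
  rw [show (k + 2) ^ 2 - 1 = (k + 3) * (k + 1) from Nat.sub_eq_of_eq_add (by ring),
    show k + 2 - 1 = k + 1 by omega, show k + 2 + 1 = k + 3 from rfl] at he
  rw [show k + 2 - 1 = k + 1 by omega]
  exact Nat.eq_of_mul_eq_mul_right (by positivity : 0 < (k + 3) * (k + 1)) (by rw [he]; ring)

omit [Finite G] [Finite Ω] [FaithfulSMul G Ω] in
theorem not_suzuki_count {q m : ℕ} (hq : 4 ≤ q)
    (he : m * (q ^ 2 - 1) = (q ^ 2 + 1) * (q - 1) * (q ^ 2 * (q - 1))) : False := by
  have h1 : (m : ℤ) * ((q : ℤ) + 1) * ((q : ℤ) - 1) =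
      ((q : ℤ) ^ 2 + 1) * ((q : ℤ) ^ 2 * ((q : ℤ) - 1)) * ((q : ℤ) - 1) := by
    have h2 := congrArg (Nat.cast : ℕ → ℤ) he
    have hq1 : 1 ≤ q ^ 2 := Nat.one_le_pow _ _ (by omega)
    push_cast [Nat.cast_sub hq1, Nat.cast_sub (show 1 ≤ q by omega)] at h2
    linear_combination h2
  have hq' : (q : ℤ) - 1 ≠ 0 := by omega
  have h2 := mul_right_cancel₀ hq' h1
  have h4 : ((q : ℤ) + 1) ∣ 4 :=
    ⟨(q : ℤ) ^ 4 - 2 * q ^ 3 + 3 * q ^ 2 - 4 * q + 4 - m, by linear_combination h2⟩
  have := Int.le_of_dvd (by norm_num) h4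
  omega

omit [Finite G] [Finite Ω] [FaithfulSMul G Ω] in
theorem unitary_count {q m : ℕ} (hq : 2 ≤ q)
    (he : m * (q ^ 2 - 1) = (q ^ 3 + 1) * (q - 1) * (q ^ 3 * (q - 1))) :
    q ^ 3 + 1 + m = q ^ 4 * (q ^ 2 - 2 * q + 2) + 1 := by
  have hq1 : 1 ≤ q ^ 2 := Nat.one_le_pow _ _ (by omega)
  have hq2 : 2 * q ≤ q ^ 2 := by rw [pow_two]; exact Nat.mul_le_mul_right q hq
  have h2 := congrArg (Nat.cast : ℕ → ℤ) he
  push_cast [Nat.cast_sub hq1, Nat.cast_sub (show 1 ≤ q by omega)] at h2
  have hne : ((q : ℤ) + 1) * ((q : ℤ) - 1) ≠ 0 :=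
    mul_ne_zero (by omega) (by omega)
  have h3 : (m : ℤ) = ((q : ℤ) ^ 2 - q + 1) * ((q : ℤ) ^ 3 * ((q : ℤ) - 1)) :=
    mul_right_cancel₀ hne (by linear_combination h2)
  zify [hq2]
  rw [h3]
  ring

namespace TISetting

variable (h : TISetting W) (hline : LineHyp W)
include h hline

/-- One bad involution at one point: centred or moved, and the number of points. -/
theorem local_type {x : G} (hx : IsBad Ω x) {a : Ω} (hxa : x • a = a) :
    ((∀ y ∈ W a, Commute x y) ∧ ∃ i : ℕ, (i = 1 ∨ i = 2 ∨ i = 3) ∧ 4 ≤ Nat.card (W a) ∧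
      Nat.card (fixedBy Ω x) = Nat.card (W a) ^ i + 1 ∧
      Nat.card Ω = (Nat.card (W a) ^ i + 1) *
        (1 + Nat.card (W a) ^ i * (Nat.card (W a) - 1)) ∧
      ∀ r ∈ W a, IsBad Ω (x * r)) ∨
    ∃ q i : ℕ, 4 ≤ q ∧ (i = 1 ∨ i = 3) ∧ Nat.card (centredAt W x a) = q ∧
      Nat.card (W a) = q ^ 2 ∧
      (h.commHom hxa).range = (h.commHom hxa).ker ∧ Nat.card (fixedBy Ω x) = q ^ i + 1 ∧
      (i = 1 → Nat.card Ω = q ^ 2 + 1) ∧
      (i = 3 → Nat.card Ω = q ^ 4 * (q ^ 2 - 2 * q + 2) + 1) := by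
  have hl := hline x a hx hxa
  obtain ⟨i, hi, hφ⟩ := hl.size
  have hq4 := hl.four
  have hlt := fixed_lt_card (Ω := Ω) (Dihedral.ne_one hx.1)
  obtain ⟨r₀, hr₀, hr₀1⟩ : ∃ r ∈ centredAt W x a, r ≠ 1 := by
    have : Nontrivial (centredAt W x a) := Finite.one_lt_card_iff_nontrivial.1 (by omega)
    obtain ⟨r, hr⟩ := exists_ne (1 : centredAt W x a)
    exact ⟨r, r.2, fun e => hr (Subtype.ext e)⟩
  rcases h.centred_or_moved hline hx hxa with hc | ⟨hw, heq⟩
  · left
    have hW : centredAt W x a = W a :=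
      inf_eq_left.2 fun y hy => Subgroup.mem_centralizer_singleton_iff.2 (hc y hy).symm.eq
    have hW' : ∀ r ∈ W a, centredAt W (x * r) a = W a := fun r hr =>
      inf_eq_left.2 fun y hy => Subgroup.mem_centralizer_singleton_iff.2
        ((hc y hy).mul_left (h.mul_comm_of_mem hr hy)).symm.eq
    rw [hW] at hφ hq4
    have hbad : ∀ r ∈ W a, r ≠ 1 → IsBad Ω (x * r) ∧
        Nat.card (fixedBy Ω (x * r)) = Nat.card (fixedBy Ω x) := by
      intro r hr hr1
      have hr' : r ∈ centredAt W x a := hW.symm ▸ hr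
      have h1 := h.count hx hxa hl hr' hr1
      rw [hW, hW' r hr] at h1
      obtain ⟨hv2, hva⟩ := h.mul_right_involution hx hxa hr'
      have hbad : IsBad Ω (x * r) := by
        refine isBad_of_card hv2 ?_
        by_contra hle
        rw [show Nat.card (fixedBy Ω (x * r)) - 1 = 0 by omega, Nat.zero_mul, Nat.mul_zero,
          Nat.mul_eq_zero] at h1
        omega
      refine ⟨hbad, ?_⟩
      have hr'' : r ∈ centredAt W (x * r) a := (hW' r hr).symm ▸ hr
      have h2 := h.count hbad hva (hline _ _ hbad hva) hr'' hr1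
      rw [show x * r * r = x by rw [mul_assoc, h.sq a r hr, mul_one], hW, hW' r hr] at h2
      have := two_le_card_fixed hbad
      have := two_le_card_fixed hx
      have hlt' := fixed_lt_card (Ω := Ω) (Dihedral.ne_one hv2)
      obtain ⟨k, hk⟩ : ∃ k, Nat.card (W a) = k + 4 := ⟨_, (Nat.sub_add_cancel hq4).symm⟩
      generalize Nat.card (fixedBy Ω (x * r)) = φ' at *
      generalize Nat.card (fixedBy Ω x) = φ at *
      generalize Nat.card Ω = n at *
      obtain ⟨j, rfl⟩ : ∃ j, φ = j + 2 := ⟨φ - 2, by omega⟩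
      obtain ⟨j', rfl⟩ : ∃ j', φ' = j' + 2 := ⟨φ' - 2, by omega⟩
      rw [hk] at h1 h2
      have e1 : ((n : ℤ) - (j + 2)) * (k + 3) = (j + 2) * (k + 3) * ((j' + 1) * (k + 3)) := by
        have := congrArg (Nat.cast : ℕ → ℤ) h1
        push_cast [Nat.cast_sub hlt.le, show k + 4 - 1 = k + 3 by omega,
          show j' + 2 - 1 = j' + 1 by omega] at this
        linear_combination this
      have e2 : ((n : ℤ) - (j' + 2)) * (k + 3) = (j' + 2) * (k + 3) * ((j + 1) * (k + 3)) := by
        have := congrArg (Nat.cast : ℕ → ℤ) h2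
        push_cast [Nat.cast_sub hlt'.le, show k + 4 - 1 = k + 3 by omega,
          show j + 2 - 1 = j + 1 by omega] at this
        linear_combination this
      have e3 : ((j' : ℤ) - j) * ((k + 3) * (k + 2)) = 0 := by linear_combination e2 - e1
      rcases mul_eq_zero.1 e3 with e | e
      · omega
      · rcases mul_eq_zero.1 e with e | e <;> omega
    refine ⟨hc, i, hi, hq4, hφ, ?_, fun r hr => ?_⟩
    · have hr₀W : r₀ ∈ W a := hr₀.1
      have h1 := h.count hx hxa hl hr₀ hr₀1
      rw [hW, hW' _ hr₀W, (hbad _ hr₀W hr₀1).2, hφ, Nat.add_sub_cancel] at h1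
      rw [hφ] at hlt
      generalize Nat.card (W a) = w at *
      have e : Nat.card Ω - (w ^ i + 1) = (w ^ i + 1) * (w ^ i * (w - 1)) :=
        Nat.eq_of_mul_eq_mul_right (show 0 < w - 1 by omega) (by rw [h1]; ring)
      rw [Nat.mul_add, mul_one, ← e]
      omega
    · rcases eq_or_ne r 1 with rfl | hr1
      · rwa [mul_one]
      · exact (hbad r hr hr1).1
  · right
    have hconj := h.conj_of_range (Dihedral.mul_self hx.1) hxa heq hr₀
    obtain ⟨y, hy, hyx⟩ := hconj
    have hya : y • a = a := mem_stabilizer_iff.1 (h.fix a hy)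
    have h1 := h.count hx hxa hl hr₀ hr₀1
    have e1 : Nat.card (fixedBy Ω (x * r₀)) = Nat.card (fixedBy Ω x) := by
      rw [← hyx, card_fixedBy_conj]
    have e2 : Nat.card (centredAt W (x * r₀) a) = Nat.card (centredAt W x a) := by
      have := h.card_centredAt_conj y x a
      rwa [hyx, hya] at this
    rw [e1, e2, hw, hφ, Nat.add_sub_cancel] at h1
    rw [hφ] at hlt
    generalize hq : Nat.card (centredAt W x a) = q at *
    obtain rfl | rfl | rfl := hi
    · rw [pow_one] at h1 hlt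
      have hm := linear_count (by omega) h1
      refine ⟨q, 1, hq4, Or.inl rfl, rfl, hw, heq, hφ, fun _ => ?_, fun e => absurd e (by omega)⟩
      have : q * (q - 1) + q = q ^ 2 := by
        rw [pow_two, Nat.mul_sub, mul_one,
          Nat.sub_add_cancel (Nat.le_mul_of_pos_left q (by omega))]
      omega
    · exact (not_suzuki_count hq4 h1).elim
    · have hm := unitary_count (by omega) h1
      refine ⟨q, 3, hq4, Or.inr rfl, rfl, hw, heq, hφ, fun e => absurd e (by omega), fun _ => ?_⟩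
      omega

omit h hline in
theorem moved_lt_centred {q i j : ℕ} (hq : 4 ≤ q) (hi : i = 1 ∨ i = 2 ∨ i = 3)
    (hj : j = 1 ∨ j = 3) {n : ℕ} (hn : n = ((q ^ 2) ^ i + 1) * (1 + (q ^ 2) ^ i * (q ^ 2 - 1)))
    (h1 : j = 1 → n = q ^ 2 + 1) (h3 : j = 3 → n = q ^ 4 * (q ^ 2 - 2 * q + 2) + 1) : False := by
  have hw : 16 ≤ q ^ 2 := by nlinarith
  have hpow : q ^ 2 ≤ (q ^ 2) ^ i := by
    exact Nat.le_self_pow (by omega) _
  have hbig : (q ^ 2 + 1) * (1 + q ^ 2 * (q ^ 2 - 1)) ≤ n := by
    rw [hn]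
    exact Nat.mul_le_mul (by omega) (by
      have := Nat.mul_le_mul_right (q ^ 2 - 1) hpow
      omega)
  have hge : 2 * q ≤ q ^ 2 := by nlinarith
  rcases hj with rfl | rfl
  · rw [h1 rfl] at hbig
    have : 1 * 2 ≤ (1 + q ^ 2 * (q ^ 2 - 1)) := by
      have : 0 < q ^ 2 * (q ^ 2 - 1) := Nat.mul_pos (by omega) (by omega)
      omega
    nlinarith
  · rw [h3 rfl] at hbig
    zify [hge, show 1 ≤ q ^ 2 by omega] at hbig
    nlinarith [sq_nonneg ((q : ℤ) ^ 2), pow_pos (show (0 : ℤ) < q by omega) 4,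
      pow_pos (show (0 : ℤ) < q by omega) 5, show (4 : ℤ) ≤ q by omega]

omit h hline in
theorem centred_index_eq {w i j : ℕ} (hw : 4 ≤ w) (he : (w ^ i + 1) * (1 + w ^ i * (w - 1)) =
    (w ^ j + 1) * (1 + w ^ j * (w - 1))) : i = j := by
  have key : ∀ {i j : ℕ}, i < j →
      (w ^ i + 1) * (1 + w ^ i * (w - 1)) < (w ^ j + 1) * (1 + w ^ j * (w - 1)) := by
    intro i j hij
    have hp : w ^ i < w ^ j := Nat.pow_lt_pow_right (by omega) hij
    exact Nat.mul_lt_mul'' (by omega) (by
      have := Nat.mul_lt_mul_of_pos_right hp (show 0 < w - 1 by omega)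
      omega)
  rcases lt_trichotomy i j with hlt | heq | hgt
  · exact absurd he (key hlt).ne
  · exact heq
  · exact absurd he.symm (key hgt).ne

/-- **The possible configurations**: all bad involutions centred, or all moved. -/
theorem classify {x₀ : G} (hx₀ : IsBad Ω x₀) :
    (∃ w i, CentredConfig W w i) ∨ ∃ q i, MovedConfig W q i := by
  have htrans : ∀ a b : Ω, Nat.card (W b) = Nat.card (W a) := fun a b => by
    obtain ⟨g, rfl⟩ := h.onePoint.exists_move h.covers a b
    exact h.card_W_smul g a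
  have hx₀' := hx₀
  obtain ⟨-, a₀, -, -, ha₀, -⟩ := hx₀'
  rcases h.local_type hline hx₀ ha₀ with
    ⟨-, i, hi, h4, hφ, hn, -⟩ | ⟨q, i, h4, hi, hq, hw, -, hφ, hn1, hn3⟩
  · left
    have key : ∀ x a, IsBad Ω x → x • a = a → (∀ y ∈ W a, Commute x y) ∧
        Nat.card (fixedBy Ω x) = Nat.card (W a₀) ^ i + 1 ∧ ∀ r ∈ W a, IsBad Ω (x * r) := by
      intro x a hx hxa
      rcases h.local_type hline hx hxa with
        ⟨hc, j, hj, -, hφ', hn', hb⟩ | ⟨q, j, hq4, hj, -, hw', -, -, h1, h3⟩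
      · rw [htrans a₀ a] at hφ' hn'
        obtain rfl := centred_index_eq h4 (hn.symm.trans hn')
        exact ⟨hc, hφ', hb⟩
      · exact (moved_lt_centred hq4 hi hj (by rw [hn, ← htrans a₀ a, hw']) h1 h3).elim
    exact ⟨Nat.card (W a₀), i,
      { four := h4
        index := hi
        card_W := htrans a₀
        comm := fun x a hx hxa => (key x a hx hxa).1
        card_fixed := fun x hx => by
          have hx' := hx
          obtain ⟨-, a, -, -, ha, -⟩ := hx'
          exact (key x a hx ha).2.1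
        card_points := hn
        bad_mul := fun x a hx hxa => (key x a hx hxa).2.2 }⟩
  · right
    have key : ∀ x a, IsBad Ω x → ∀ hxa : x • a = a, Nat.card (centredAt W x a) = q ∧
        (h.commHom hxa).range = (h.commHom hxa).ker ∧
        Nat.card (fixedBy Ω x) = q ^ i + 1 := by
      intro x a hx hxa
      rcases h.local_type hline hx hxa with
        ⟨-, j, hj, -, -, hn', -⟩ | ⟨q', j, hq4', hj, hq', hw', heq, hφ', h1, h3⟩
      · exact (moved_lt_centred h4 hj hi (by rw [hn', htrans a₀ a, hw]) hn1 hn3).elim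
      · rw [htrans a₀ a, hw] at hw'
        obtain rfl : q = q' := Nat.pow_left_injective (by norm_num) hw'
        refine ⟨hq', heq, ?_⟩
        obtain rfl : i = j := by
          rcases hi with rfl | rfl <;> rcases hj with rfl | rfl <;> try rfl
          all_goals
            exfalso
            have : q ^ 4 * 2 ≤ q ^ 4 * (q ^ 2 - 2 * q + 2) := Nat.mul_le_mul_left _ (by omega)
            have : q ^ 2 ≤ q ^ 4 := Nat.pow_le_pow_right (by omega) (by norm_num)
            have : 0 < q ^ 2 := by positivity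
            first
              | have := (hn1 rfl).symm.trans (h3 rfl); omega
              | have := (h1 rfl).symm.trans (hn3 rfl); omega
        exact hφ'
    exact ⟨q, i,
      { four := h4
        index := hi
        card_W := fun a => (htrans a₀ a).trans hw
        card_centred := fun x a hx hxa => (key x a hx hxa).1
        conj := fun x a hx hxa r hr =>
          h.conj_of_range (Dihedral.mul_self hx.1) hxa (key x a hx hxa).2.1 hr
        range_eq := fun x a hx hxa y hy => by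
          rw [← h.commHom_ker_map hxa]
          exact ⟨_, h.range_le_ker (Dihedral.mul_self hx.1) hxa ⟨⟨y, hy⟩, rfl⟩, rfl⟩
        card_fixed := fun x hx => by
          have hx' := hx
          obtain ⟨-, a, -, -, ha, -⟩ := hx'
          exact (key x a hx ha).2.2
        card_linear := hn1
        card_unitary := hn3
        bad_mul := fun x a hx hxa r hr => by
          obtain ⟨y, -, hyx⟩ :=
            h.conj_of_range (Dihedral.mul_self hx.1) hxa (key x a hx hxa).2.1 hr
          exact hyx ▸ isBad_conj y hx }⟩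

end TISetting

end CfsgLib.LocalEven.TIEndgame
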