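import Cfsg.Agent.Lib.LocalEven.TIEndgame.Fusion
import Cfsg.Agent.Lib.Involution.StronglyEmbedded
import Cfsg.Agent.Lib.Coprime.Generation
import Cfsg.Prelude.Def_TwoFusion
import Mathlib.GroupTheory.Sylow
import Mathlib.GroupTheory.Subgroup.Centralizer

/-!
# Reductions of the Aschbacher type criteria to the one-point setting

* restriction of the setting to the subgroup generated by the members;
* if no involution is bad, a point stabiliser is strongly embedded;
* the settings of the criteria for strong embedding produce `OnePoint` and `Covers`.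
-/

set_option autoImplicit false

namespace CfsgLib.LocalEven.TIEndgame

open MulAction Subgroup CfsgLib.Involution

section Restrict

variable {G Ω : Type*} [Group G] [MulAction G Ω] {D : Set G}

/-- The members, inside the subgroup they generate. -/
def membersIn (D : Set G) : Set ↥(Subgroup.closure D) := {x | (x : G) ∈ D}

theorem closure_membersIn (D : Set G) : Subgroup.closure (membersIn D) = ⊤ :=
  Subgroup.closure_closure_coe_preimage

theorem OnePoint.restrict (h : OnePoint D Ω) : OnePoint (membersIn D) Ω where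
  orderOf_eq d hd := (orderOf_submonoid d).symm.trans (h.orderOf_eq _ hd)
  conj_mem g d hd := h.conj_mem (g : G) _ hd
  exists_fixed d hd := h.exists_fixed _ hd
  fixed_unique d hd := h.fixed_unique _ hd
  pair_unique d hd e he hde hne :=
    h.pair_unique _ hd _ he (congrArg Subtype.val hde) (fun h' => hne (Subtype.ext h'))

theorem Covers.restrict (hc : Covers D Ω) : Covers (membersIn D) Ω := by
  intro a P hP hPa
  obtain ⟨d, ⟨hd, hda⟩, hcd⟩ := hc a (P.map (Subgroup.closure D).subtype) (hP.map _) (by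
    rintro _ ⟨x, hx, rfl⟩
    exact hPa hx)
  exact ⟨⟨d, Subgroup.subset_closure hd⟩, ⟨hd, hda⟩,
    fun x hx => Subtype.ext (hcd x ⟨x, hx, rfl⟩).eq⟩

variable [Finite G]

/-- If no involution is bad, the point stabilisers are strongly embedded. -/
theorem OnePoint.isStronglyEmbedded (h : OnePoint D Ω) (hc : Covers D Ω)
    (hno : ∀ u : G, ¬ IsBad Ω u) (a : Ω) (hb : ∃ b : Ω, b ≠ a) :
    Cfsg.IsStronglyEmbedded (stabilizer G a) := by
  refine ⟨fun htop => ?_, ?_, fun g hg => ?_⟩
  · obtain ⟨b, hba⟩ := hb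
    obtain ⟨c, hca⟩ := h.exists_move hc a b
    have hc' : c ∈ stabilizer G a := htop ▸ mem_top c
    exact hba (hca.symm.trans (mem_stabilizer_iff.1 hc'))
  · obtain ⟨d, hd, hda⟩ := OnePoint.dat_nonempty hc a
    exact Basic.even_of_involution_mem _ (mem_stabilizer_iff.2 hda) (h.orderOf_eq d hd)
  · rw [← Nat.not_even_iff_odd]
    intro he
    obtain ⟨t, ⟨hta, s, hs, hst⟩, ht⟩ := Basic.exists_involution_of_even _ he
    refine hno t ⟨ht, a, g • a, fun e => hg (mem_stabilizer_iff.2 e.symm), mem_stabilizer_iff.1 hta, ?_⟩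
    rw [← hst]
    simp [mul_smul, mem_stabilizer_iff.1 hs]

end Restrict

section Cosets

variable {G : Type*} [Group G] {M : Subgroup G}

theorem fixes_one_iff {t : G} : t • ((1 : G) : G ⧸ M) = (1 : G) ↔ t ∈ M := by
  rw [SE.fixes_mk_iff]; simp

/-- A 2-subgroup of `M` is conjugate in `M` into a Sylow 2-subgroup of `G` contained in `M`. -/
theorem exists_conj_into [Finite G] (S : Sylow 2 G) (hSM : (S : Subgroup G) ≤ M) {P : Subgroup G}
    (hP : IsPGroup 2 P) (hPM : P ≤ M) :
    ∃ m ∈ M, ∀ x ∈ P, m⁻¹ * x * m ∈ (S : Subgroup G) := by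
  haveI : Fact (Nat.Prime 2) := ⟨Nat.prime_two⟩
  let SM : Sylow 2 M := S.subtype hSM
  obtain ⟨R, hR⟩ := (hP.comap_subtype (K := M)).exists_le_sylow
  obtain ⟨m, rfl⟩ := exists_smul_eq M SM R
  refine ⟨m, m.2, fun x hx => ?_⟩
  have h1 : (⟨x, hPM hx⟩ : M) ∈ (m • SM : Sylow 2 M) := hR hx
  rw [Sylow.smul_def] at h1
  obtain ⟨y, hy, hyx⟩ := h1
  have h2 : (m : G) * (y : G) * (m : G)⁻¹ = x := congrArg Subtype.val hyx
  rw [← h2]
  have hyS : (y : G) ∈ (S : Subgroup G) := hy
  convert hyS using 1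
  group

/-- The setting from a union of classes whose members in `M` are only moved inside `M`. -/
theorem onePoint_cosets [Finite G] (D₀ : Set G) (hord : ∀ d ∈ D₀, orderOf d = 2)
    (hM₀ : ∀ d ∈ D₀, d ∈ M)
    (hctrl : ∀ d ∈ D₀, ∀ g : G, g * d * g⁻¹ ∈ M → g ∈ M)
    (hcov : ∀ P : Subgroup G, IsPGroup 2 P → P ≤ M → ∃ d ∈ D₀, ∃ m ∈ M, ∀ x ∈ P, Commute x (m * d * m⁻¹))
    (hpair : ∀ d ∈ D₀, ∀ d' ∈ D₀, ∀ m ∈ M, Commute d (m * d' * m⁻¹) → d ≠ m * d' * m⁻¹ →
      ∀ b : G, b⁻¹ * (d * (m * d' * m⁻¹)) * b ∈ M → b ∈ M) :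
    OnePoint {x | ∃ d ∈ D₀, IsConj d x} (G ⧸ M) ∧ Covers {x | ∃ d ∈ D₀, IsConj d x} (G ⧸ M) := by
  -- a conjugate `c d c⁻¹` fixes exactly the coset of `c`
  have hfix : ∀ d ∈ D₀, ∀ c g : G, (c * d * c⁻¹) • (g : G ⧸ M) = g ↔ (g : G ⧸ M) = c := by
    intro d hd c g
    rw [SE.fixes_mk_iff, QuotientGroup.eq]
    constructor
    · intro h
      exact hctrl d hd (g⁻¹ * c) (by convert h using 1; group)
    · intro h
      have := mul_mem (mul_mem h (hM₀ d hd)) (inv_mem h)
      convert this using 1; group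
  constructor
  · constructor
    · rintro x ⟨d, hd, hdx⟩
      obtain ⟨c, rfl⟩ := isConj_iff.1 hdx
      exact (Dihedral.orderOf_conj c d).trans (hord d hd)
    · rintro g x ⟨d, hd, hdx⟩
      exact ⟨d, hd, hdx.trans (isConj_iff.2 ⟨g, rfl⟩)⟩
    · rintro x ⟨d, hd, hdx⟩
      obtain ⟨c, rfl⟩ := isConj_iff.1 hdx
      exact ⟨c, (hfix d hd c c).2 rfl⟩
    · rintro x ⟨d, hd, hdx⟩ a b ha hb
      obtain ⟨c, rfl⟩ := isConj_iff.1 hdx
      induction a using QuotientGroup.induction_on with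
      | H a =>
        induction b using QuotientGroup.induction_on with
        | H b => exact ((hfix d hd c a).1 ha).trans ((hfix d hd c b).1 hb).symm
    · rintro x ⟨d, hd, hdx⟩ y ⟨d', hd', hdy⟩ hxy hne
      obtain ⟨c, rfl⟩ := isConj_iff.1 hdx
      obtain ⟨c', rfl⟩ := isConj_iff.1 hdy
      have hcc : (c : G ⧸ M) = c' := by
        refine (hfix d' hd' c' c).1 ?_
        have h1 := (hfix d hd c c).2 rfl
        have h2 : (c * d * c⁻¹) • ((c' * d' * c'⁻¹) • (c : G ⧸ M)) =
            (c' * d' * c'⁻¹) • (c : G ⧸ M) := by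
          rw [← mul_smul, hxy.eq, mul_smul, h1]
        induction hq : (c' * d' * c'⁻¹) • (c : G ⧸ M) using QuotientGroup.induction_on with
        | H q =>
          rw [hq] at h2
          exact (hfix d hd c q).1 h2
      rw [QuotientGroup.eq] at hcc
      obtain ⟨m, hm, rfl⟩ : ∃ m ∈ M, c * m = c' := ⟨c⁻¹ * c', hcc, by group⟩
      have hkey : ∀ b : G,
          ((c * d * c⁻¹) * (c * m * d' * (c * m)⁻¹)) • (b : G ⧸ M) = b → (b : G ⧸ M) = c := by
        intro b hb
        rw [SE.fixes_mk_iff] at hb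
        have h3 := hpair d hd d' hd' m hm ?_ ?_ (c⁻¹ * b) (by convert hb using 1; group)
        · rw [QuotientGroup.eq]
          have := inv_mem h3
          rwa [mul_inv_rev, inv_inv] at this
        · have h4 := hxy.eq
          apply mul_left_cancel (a := c)
          apply mul_right_cancel (b := c⁻¹)
          calc c * (d * (m * d' * m⁻¹)) * c⁻¹ = c * d * c⁻¹ * (c * m * d' * (c * m)⁻¹) := by group
            _ = c * m * d' * (c * m)⁻¹ * (c * d * c⁻¹) := h4
            _ = c * (m * d' * m⁻¹ * d) * c⁻¹ := by group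
        · intro e
          apply hne
          rw [e]; group
      intro a b ha hb
      induction a using QuotientGroup.induction_on with
      | H a =>
        induction b using QuotientGroup.induction_on with
        | H b => exact (hkey a ha).trans (hkey b hb).symm
  · intro a P hP hPa
    induction a using QuotientGroup.induction_on with
    | H g =>
      obtain ⟨d, hd, m, hm, hcd⟩ := hcov (P.map (MulAut.conj g⁻¹).toMonoidHom) (hP.map _) (by
        rintro _ ⟨x, hx, rfl⟩
        simpa using SE.fixes_mk_iff.1 (mem_stabilizer_iff.1 (hPa hx)))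
      refine ⟨g * m * d * (g * m)⁻¹, ⟨⟨d, hd, isConj_iff.2 ⟨g * m, rfl⟩⟩, ?_⟩, fun x hx => ?_⟩
      · refine (hfix d hd (g * m) g).2 (QuotientGroup.eq.2 ?_)
        rwa [inv_mul_cancel_left]
      · have h := (hcd (g⁻¹ * x * g) ⟨x, hx, by simp⟩).eq
        show x * _ = _ * x
        calc x * (g * m * d * (g * m)⁻¹) = g * (g⁻¹ * x * g * (m * d * m⁻¹)) * g⁻¹ := by group
          _ = g * (m * d * m⁻¹ * (g⁻¹ * x * g)) * g⁻¹ := by rw [h]
          _ = g * m * d * (g * m)⁻¹ * x := by group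

/-- The setting of Aschbacher's criterion for strong embedding. -/
theorem criterion_setting [Finite G] {z : G} (hz : orderOf z = 2) (hzM : z ∈ M)
    (h1 : ∃ S : Sylow 2 G, z ∈ S ∧ ∀ s ∈ S, Commute s z)
    (h2 : ∀ g : G, g * z * g⁻¹ ∈ M → g ∈ M)
    (h3 : ∀ g : G, Commute z (g * z * g⁻¹) → g * z * g⁻¹ ≠ z →
      Subgroup.centralizer ({z * (g * z * g⁻¹)} : Set G) ≤ M) :
    OnePoint {x | ∃ d ∈ ({z} : Set G), IsConj d x} (G ⧸ M) ∧
      Covers {x | ∃ d ∈ ({z} : Set G), IsConj d x} (G ⧸ M) := by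
  obtain ⟨S, hzS, hS⟩ := h1
  have hSM : (S : Subgroup G) ≤ M := fun s hs => h2 s (by
    rw [(hS s hs).eq, mul_inv_cancel_right]; exact hzM)
  refine onePoint_cosets ({z} : Set G) (by simpa using hz) (by simpa using hzM) (by simpa using h2)
    (fun P hP hPM => ?_) ?_
  · obtain ⟨m, hm, hmS⟩ := exists_conj_into S hSM hP hPM
    refine ⟨z, rfl, m, hm, fun x hx => ?_⟩
    have h := (hS _ (hmS x hx)).eq
    show x * _ = _ * x
    calc x * (m * z * m⁻¹) = m * (m⁻¹ * x * m * z) * m⁻¹ := by group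
      _ = m * (z * (m⁻¹ * x * m)) * m⁻¹ := by rw [h]
      _ = m * z * m⁻¹ * x := by group
  · intro d hd d' hd' m hm hcomm hne b hb
    rw [Set.mem_singleton_iff] at hd hd'
    subst d d'
    have hC := h3 m hcomm (Ne.symm hne)
    have hd'M : m * z * m⁻¹ ∈ M := mul_mem (mul_mem hm hzM) (inv_mem hm)
    set w := z * (m * z * m⁻¹) with hw
    have hwM : w ∈ M := mul_mem hzM hd'M
    -- the involution `b⁻¹ w b` of `M` is centralised by a conjugate of `z` under `M`
    have hw2 : orderOf (b⁻¹ * w * b) = 2 := by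
      have h4 : b⁻¹ * w * b = b⁻¹ * w * b⁻¹⁻¹ := by group
      rw [h4, Dihedral.orderOf_conj]
      have hz' := (Dihedral.orderOf_conj m z).trans hz
      refine orderOf_eq_prime ?_ fun e => hne (Eq.trans (Dihedral.inv_eq hz).symm
        (inv_eq_of_mul_eq_one_right e))
      rw [pow_two, hw, hcomm.symm.mul_mul_mul_comm, Dihedral.mul_self hz, Dihedral.mul_self hz', one_mul]
    obtain ⟨k, hk, hkS⟩ := exists_conj_into S hSM (Basic.isPGroup_zpowers_of_two hw2)
      (Subgroup.zpowers_le.2 hb)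
    have h := hS _ (hkS _ (Subgroup.mem_zpowers _))
    have hmem : b * k * z * (b * k)⁻¹ ∈ Subgroup.centralizer ({w} : Set G) := by
      rw [Subgroup.mem_centralizer_iff]
      rintro _ rfl
      calc w * (b * k * z * (b * k)⁻¹) = b * k * (k⁻¹ * (b⁻¹ * w * b) * k * z) * (b * k)⁻¹ := by group
        _ = b * k * (z * (k⁻¹ * (b⁻¹ * w * b) * k)) * (b * k)⁻¹ := by rw [h.eq]
        _ = b * k * z * (b * k)⁻¹ * w := by group
    have := h2 (b * k) (hC hmem)
    have hb' := mul_mem this (inv_mem hk)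
    rwa [mul_inv_cancel_right] at hb'

/-- Two commuting involutions generate a 2-group. -/
theorem isPGroup_closure_pair {d e : G} (hd : d * d = 1) (he : e * e = 1) (hde : Commute d e) :
    IsPGroup 2 (Subgroup.closure ({d, e} : Set G)) := by
  have key : ∀ x ∈ Subgroup.closure ({d, e} : Set G), x * x = 1 ∧ Commute x d ∧ Commute x e := by
    intro x hx
    induction hx using Subgroup.closure_induction with
    | mem x hx =>
      rcases hx with rfl | rfl
      · exact ⟨hd, Commute.refl _, hde⟩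
      · exact ⟨he, hde.symm, Commute.refl _⟩
    | one => exact ⟨mul_one 1, Commute.one_left d, Commute.one_left e⟩
    | mul x y _ hy hx1 hy1 =>
      have hxy : Commute x y := by
        have hle : Subgroup.closure ({d, e} : Set G) ≤ Subgroup.centralizer ({x} : Set G) := by
          refine (Subgroup.closure_le _).2 ?_
          rintro w (rfl | rfl)
          · exact Subgroup.mem_centralizer_singleton_iff.2 hx1.2.1.symm.eq
          · exact Subgroup.mem_centralizer_singleton_iff.2 hx1.2.2.symm.eq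
        exact (Subgroup.mem_centralizer_singleton_iff.1 (hle hy)).symm
      refine ⟨?_, hx1.2.1.mul_left hy1.2.1, hx1.2.2.mul_left hy1.2.2⟩
      rw [hxy.symm.mul_mul_mul_comm, hx1.1, hy1.1, one_mul]
    | inv x _ hx1 => exact ⟨by rw [← mul_inv_rev, hx1.1, inv_one], hx1.2.1.inv_left, hx1.2.2.inv_left⟩
  exact fun x => ⟨1, Subtype.ext (by simpa [pow_two] using (key _ x.2).1)⟩

/-- The setting of a strongly closed subgroup `T` with the centralisers of its involutions and its
normaliser inside `M`. -/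
theorem stronglyClosed_setting [Finite G] {S : Sylow 2 G} {T : Subgroup G}
    (hT : Cfsg.IsStronglyClosed T (S : Subgroup G)) {z : G} (hz : orderOf z = 2) (hzT : z ∈ T)
    (hzS : ∀ s ∈ S, Commute s z)
    (hC : ∀ t ∈ T, orderOf t = 2 → Subgroup.centralizer ({t} : Set G) ≤ M)
    (hN : Subgroup.normalizer (T : Set G) ≤ M) :
    OnePoint {x | ∃ d ∈ {t | t ∈ T ∧ orderOf t = 2}, IsConj d x} (G ⧸ M) ∧
      Covers {x | ∃ d ∈ {t | t ∈ T ∧ orderOf t = 2}, IsConj d x} (G ⧸ M) := by
  have hSM : (S : Subgroup G) ≤ M := fun s hs =>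
    hC z hzT hz (Subgroup.mem_centralizer_singleton_iff.2 (hzS s hs).eq)
  -- involutions of `M` conjugate into `T` have their centraliser in `M`
  have hA : ∀ t ∈ T, orderOf t = 2 → ∀ g : G, g * t * g⁻¹ ∈ M →
      Subgroup.centralizer ({g * t * g⁻¹} : Set G) ≤ M := by
    intro t ht ht2 g hgM c hc
    have hd2 : orderOf (g * t * g⁻¹) = 2 := (Dihedral.orderOf_conj g t).trans ht2
    obtain ⟨m, hm, hmS⟩ := exists_conj_into S hSM (Basic.isPGroup_zpowers_of_two hd2)
      (Subgroup.zpowers_le.2 hgM)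
    have hS' := hmS _ (Subgroup.mem_zpowers _)
    have hT' : (m⁻¹ * g) * t * (m⁻¹ * g)⁻¹ ∈ T := by
      refine hT.2 t ht _ ?_
      convert hS' using 1; group
    have hcm : m⁻¹ * c * m ∈ Subgroup.centralizer ({(m⁻¹ * g) * t * (m⁻¹ * g)⁻¹} : Set G) := by
      have h := Subgroup.mem_centralizer_singleton_iff.1 hc
      rw [Subgroup.mem_centralizer_singleton_iff]
      calc m⁻¹ * c * m * (m⁻¹ * g * t * (m⁻¹ * g)⁻¹) = m⁻¹ * (c * (g * t * g⁻¹)) * m := by group
        _ = m⁻¹ * (g * t * g⁻¹ * c) * m := by rw [h]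
        _ = m⁻¹ * g * t * (m⁻¹ * g)⁻¹ * (m⁻¹ * c * m) := by group
    have := hC _ hT' ((Dihedral.orderOf_conj _ t).trans ht2) hcm
    have h2 := mul_mem (mul_mem hm this) (inv_mem hm)
    convert h2 using 1; group
  have hctrl : ∀ t ∈ T, orderOf t = 2 → ∀ g : G, g * t * g⁻¹ ∈ M → g ∈ M := by
    intro t ht ht2 g hgM
    have hz' : g * z * g⁻¹ ∈ M := hA t ht ht2 g hgM (Subgroup.mem_centralizer_singleton_iff.2 (by
      have h := (hzS t (hT.1 ht)).eq
      calc g * z * g⁻¹ * (g * t * g⁻¹) = g * (z * t) * g⁻¹ := by group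
        _ = g * (t * z) * g⁻¹ := by rw [h]
        _ = g * t * g⁻¹ * (g * z * g⁻¹) := by group))
    have hS' : (S : Subgroup G).map (MulAut.conj g).toMonoidHom ≤ M := by
      rintro _ ⟨s, hs, rfl⟩
      refine hA z hzT hz g hz' (Subgroup.mem_centralizer_singleton_iff.2 ?_)
      have h := (hzS s hs).eq
      show g * s * g⁻¹ * (g * z * g⁻¹) = g * z * g⁻¹ * (g * s * g⁻¹)
      calc g * s * g⁻¹ * (g * z * g⁻¹) = g * (s * z) * g⁻¹ := by group
        _ = g * (z * s) * g⁻¹ := by rw [h]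
        _ = g * z * g⁻¹ * (g * s * g⁻¹) := by group
    obtain ⟨m, hm, hmS⟩ := exists_conj_into S hSM (S.isPGroup'.map (MulAut.conj g).toMonoidHom) hS'
    have hk : m⁻¹ * g ∈ Subgroup.normalizer (T : Set G) := by
      refine CfsgLib.Coprime.mem_normalizer_of_conj_map_le fun x hx => hT.2 x hx _ ?_
      convert hmS (g * x * g⁻¹) ⟨x, hT.1 hx, rfl⟩ using 1
      group
    have := mul_mem hm (hN hk)
    rwa [mul_inv_cancel_left] at this
  refine onePoint_cosets _ (fun d hd => hd.2) (fun d hd => hSM (hT.1 hd.1))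
    (fun d hd => hctrl d hd.1 hd.2) (fun P hP hPM => ?_) ?_
  · obtain ⟨m, hm, hmS⟩ := exists_conj_into S hSM hP hPM
    refine ⟨z, ⟨hzT, hz⟩, m, hm, fun x hx => ?_⟩
    have h := (hzS _ (hmS x hx)).eq
    show x * _ = _ * x
    calc x * (m * z * m⁻¹) = m * (m⁻¹ * x * m * z) * m⁻¹ := by group
      _ = m * (z * (m⁻¹ * x * m)) * m⁻¹ := by rw [h]
      _ = m * z * m⁻¹ * x := by group
  · rintro d ⟨hd, hd2⟩ d' ⟨hd', hd'2⟩ m hm hcomm hne b hb
    have he2 : orderOf (m * d' * m⁻¹) = 2 := (Dihedral.orderOf_conj m d').trans hd'2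
    have hdM : d ∈ M := hSM (hT.1 hd)
    have heM : m * d' * m⁻¹ ∈ M := mul_mem (mul_mem hm (hSM (hT.1 hd'))) (inv_mem hm)
    obtain ⟨k, hk, hkS⟩ := exists_conj_into S hSM
      (isPGroup_closure_pair (Dihedral.mul_self hd2) (Dihedral.mul_self he2) hcomm)
      ((Subgroup.closure_le _).2 (Set.insert_subset hdM (Set.singleton_subset_iff.2 heM)))
    have h1 : k⁻¹ * d * k ∈ T := by
      have := hT.2 d hd k⁻¹ (by simpa using hkS _ (Subgroup.subset_closure (Set.mem_insert _ _)))
      simpa using this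
    have h2 : k⁻¹ * (m * d' * m⁻¹) * k ∈ T := by
      have := hT.2 d' hd' (k⁻¹ * m) (by
        convert hkS _ (Subgroup.subset_closure (Set.mem_insert_of_mem _ rfl)) using 1; group)
      convert this using 1; group
    have hw : k⁻¹ * (d * (m * d' * m⁻¹)) * k ∈ T := by
      convert mul_mem h1 h2 using 1; group
    have hw2 : orderOf (k⁻¹ * (d * (m * d' * m⁻¹)) * k) = 2 := by
      rw [show k⁻¹ * (d * (m * d' * m⁻¹)) * k = k⁻¹ * (d * (m * d' * m⁻¹)) * k⁻¹⁻¹ by group,
        Dihedral.orderOf_conj]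
      refine orderOf_eq_prime ?_ fun e => hne ((Dihedral.inv_eq hd2).symm.trans
        (inv_eq_of_mul_eq_one_right e))
      rw [pow_two, hcomm.symm.mul_mul_mul_comm, Dihedral.mul_self hd2, Dihedral.mul_self he2, one_mul]
    have hgM := hctrl _ hw hw2 (b⁻¹ * k) (by convert hb using 1; group)
    have := mul_mem hk (inv_mem hgM)
    convert this using 1; group

end Cosets

end CfsgLib.LocalEven.TIEndgame
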