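import Cfsg.Agent.Lib.LocalEven.TIEndgame.OddTransitiveGamma
import Mathlib.GroupTheory.Sylow
import Mathlib.GroupTheory.Subgroup.Centralizer

/-!
# An elementary group central in a Sylow 2-subgroup, all of whose involutions are conjugate

By Burnside the normaliser of the Sylow subgroup induces an odd transitive group on it, so the
2-groups normalising all the data induce cyclic groups.
-/

set_option autoImplicit false
set_option linter.style.haveILetI false

namespace CfsgLib.LocalEven.TIEndgame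

open Subgroup

variable {G : Type*} [Group G] [Finite G]

/-- The image in `MulAut U` of a subgroup of the normaliser of `U`. -/
noncomputable def autImage (P U : Subgroup G) : Subgroup (MulAut U) :=
  (P.subgroupOf (normalizer (U : Set G))).map U.normalizerMonoidHom

/-- The 2-groups normalising the data induce cyclic groups on `U`. -/
theorem isCyclic_autImage {H S U P : Subgroup G} (hS : IsPGroup 2 S) (hSH : S ≤ H)
    (hodd : Odd (S.relIndex H)) (hU2 : ∀ x ∈ U, x * x = 1) (hU : U ≠ ⊥) (hUS : U ≤ S)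
    (hcent : ∀ x ∈ U, ∀ s ∈ S, Commute x s)
    (hnorm : H ⊓ normalizer (S : Set G) ≤ normalizer (U : Set G))
    (htrans : ∀ x ∈ U, ∀ y ∈ U, x ≠ 1 → y ≠ 1 → ∃ h ∈ H, h * x * h⁻¹ = y)
    (hP : IsPGroup 2 P) (hPU : P ≤ normalizer (U : Set G))
    (hPH : P ≤ normalizer ((H ⊓ normalizer (S : Set G) : Subgroup G) : Set G)) :
    IsCyclic (autImage P U) := by
  classical
  haveI : Fact (Nat.Prime 2) := ⟨Nat.prime_two⟩
  set N := H ⊓ normalizer (S : Set G) with hN
  set f := U.normalizerMonoidHom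
  set D : Subgroup (MulAut U) := autImage N U with hD
  have hSsyl : ∃ T : Sylow 2 H, (T : Subgroup H) = S.subgroupOf H := by
    refine ⟨(hS.of_equiv (subgroupOfEquivOfLe hSH).symm).toSylow ?_, rfl⟩
    rw [show (S.subgroupOf H).index = S.relIndex H from rfl]
    exact fun h => (Nat.not_even_iff_odd.2 hodd) (even_iff_two_dvd.2 h)
  obtain ⟨T, hT⟩ := hSsyl
  -- the image of the normaliser has odd order
  have hDodd : Odd (Nat.card D) := by
    have hSN : S ≤ N := le_inf hSH le_normalizer
    have hrel : Odd (S.relIndex N) := by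
      have h1 : S.relIndex N * N.relIndex H = S.relIndex H := relIndex_mul_relIndex S N H hSN inf_le_left
      exact Odd.of_dvd_nat hodd ⟨_, h1.symm⟩
    let S₁ := S.subgroupOf (normalizer (U : Set G))
    let N₁ := N.subgroupOf (normalizer (U : Set G))
    have hker : S₁ ≤ f.ker := by
      intro s hs
      rw [normalizerMonoidHom_ker, mem_subgroupOf, mem_centralizer_iff]
      exact fun x hx => (hcent x hx _ hs).eq
    have h2 : S₁.relIndex N₁ = S.relIndex N := relIndex_subgroupOf hnorm
    refine hrel.of_dvd_nat ?_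
    rw [← h2, hD, autImage, ← relIndex_ker (f := f) N₁]
    exact relIndex_dvd_of_le_left _ hker
  -- and is transitive
  have hDtr : ∀ v w : U, v ≠ 1 → w ≠ 1 → ∃ d ∈ D, d v = w := by
    intro v w hv hw
    obtain ⟨h, hh, hhv⟩ := htrans v v.2 w w.2 (fun e => hv (Subtype.ext e)) (fun e => hw (Subtype.ext e))
    have hmem : ∀ x ∈ U, ∀ hx : x ∈ H, (⟨x, hx⟩ : H) ∈ centralizer ((T : Subgroup H) : Set H) :=
      fun x hxU hx => mem_centralizer_iff.2 fun s hs => Subtype.ext (by
        have hs' : (s : H) ∈ S.subgroupOf H := hT ▸ hs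
        exact ((hcent x hxU _ hs').eq).symm)
    obtain ⟨n, hn, hne⟩ := T.conj_eq_normalizer_conj_of_mem_centralizer ⟨v, hSH (hUS v.2)⟩ ⟨h, hh⟩⁻¹
      (hmem _ v.2 _) (by
        rw [show (⟨h, hh⟩⁻¹ : H)⁻¹ * ⟨v, hSH (hUS v.2)⟩ * ⟨h, hh⟩⁻¹ = ⟨w, hSH (hUS w.2)⟩ from
          Subtype.ext (by simpa using hhv)]
        exact hmem _ w.2 _)
    have hn' : ((n⁻¹ : H) : G) ∈ N := by
      refine ⟨(n⁻¹).2, (normalizer (S : Set G)).inv_mem (mem_normalizer_iff.2 fun x => ?_)⟩
      replace hn : n ∈ normalizer (((T : Subgroup H) : Subgroup H) : Set H) := hn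
      rw [hT] at hn
      constructor
      · intro hx
        exact (mem_normalizer_iff.1 hn ⟨x, hSH hx⟩).1 hx
      · intro hx
        have hxH : x ∈ H := by
          have := H.mul_mem (H.mul_mem (H.inv_mem n.2) (hSH hx)) n.2
          simpa [mul_assoc] using this
        exact (mem_normalizer_iff.1 hn ⟨x, hxH⟩).2 hx
    refine ⟨f ⟨_, hnorm hn'⟩, mem_map_of_mem _ hn', Subtype.ext ?_⟩
    have := congrArg Subtype.val hne
    simp only [Subgroup.coe_mul, Subgroup.coe_inv, inv_inv, hhv] at this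
    rw [normalizerMonoidHom_apply_apply_coe]
    simpa using this.symm
  obtain ⟨r, hr⟩ : ∃ r, Nat.card U = 2 ^ r := IsPGroup.iff_card.1 (hS.to_le hUS)
  have hr0 : r ≠ 0 := fun e => hU (Subgroup.card_eq_one.1 (by rw [hr, e, pow_zero]))
  refine OddTransitiveGamma.isCyclic (fun v => Subtype.ext (hU2 v v.2)) hr0 hr D hDodd hDtr _
    ((hP.of_equiv (subgroupOfEquivOfLe hPU).symm).map f) ?_
  rintro _ ⟨p, hp, rfl⟩ _ ⟨n, hn, rfl⟩
  refine ⟨p * n * p⁻¹, ?_, by rw [map_mul, map_mul, map_inv]⟩
  exact (mem_normalizer_iff.1 (hPH hp) (n : G)).1 hn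

end CfsgLib.LocalEven.TIEndgame
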