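import Mathlib

/-!
# Linear maps compatible with the squaring map of a Suzuki 2-group

An additive bijection `h` of a finite field of characteristic `2` such that
`h (x * θ x) = A x * θ (A x)` for some additive `A` is semilinear: a constant times a field
automorphism. So the automorphisms of a Suzuki 2-group act on the centre inside `ΓL₁`.
-/

set_option autoImplicit false

namespace CfsgLib.LocalEven.TIEndgame.SuzukiSquare

variable {F : Type*} [Field F] [CharP F 2]

/-- Hua: if `h` and `x ↦ (h x⁻¹)⁻¹` are additive and `h 1 = 1`, then `h` is multiplicative. -/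
theorem map_mul_of_inv_additive [Finite F] (h : F →+ F) (hinj : Function.Injective h) (h1 : h 1 = 1)
    (hadd : ∀ a b : F, (h (a + b)⁻¹)⁻¹ = (h a⁻¹)⁻¹ + (h b⁻¹)⁻¹) (a b : F) :
    h (a * b) = h a * h b := by
  have hne : ∀ {x : F}, x ≠ 0 → h x ≠ 0 := fun {x} hx e => hx (hinj (by rw [e, map_zero]))
  set g : F → F := fun x => (h x⁻¹)⁻¹ with hg
  have key : ∀ a b : F, h (a * a * b) = h a * h a * g b := by
    intro a b
    by_cases ha : a = 0
    · simp [ha]
    by_cases hb : b = 0
    · simp [hb, hg]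
    by_cases hab : a = b⁻¹
    · have hb1 : a * a * b = a := by rw [hab]; field_simp
      have := hne ha
      rw [hb1, hg]
      simp only
      rw [← hab]
      field_simp
    have he : b⁻¹ + a ≠ 0 := fun e => hab (CharTwo.add_eq_zero.1 e).symm
    have hA : a + a * a * b ≠ 0 := by
      intro e
      apply he
      have : a * (b * (b⁻¹ + a)) = 0 := by rw [← e]; field_simp
      simpa [ha, hb] using this
    have hid : (a + a * a * b)⁻¹ = a⁻¹ + (b⁻¹ + a)⁻¹ := by
      have hbe : a + a * a * b = a * (b * (b⁻¹ + a)) := by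
        rw [mul_add b, mul_inv_cancel₀ hb]; ring
      refine inv_eq_of_mul_eq_one_right ?_
      rw [hbe]
      calc a * (b * (b⁻¹ + a)) * (a⁻¹ + (b⁻¹ + a)⁻¹)
          = (a * a⁻¹) * (b * (b⁻¹ + a)) + ((b⁻¹ + a) * (b⁻¹ + a)⁻¹) * (a * b) := by ring
        _ = b * (b⁻¹ + a) + a * b := by
          rw [mul_inv_cancel₀ ha, mul_inv_cancel₀ he, one_mul, one_mul]
        _ = 1 := by
          rw [mul_add, mul_inv_cancel₀ hb, mul_comm b a, add_assoc, CharTwo.add_self_eq_zero,
            add_zero]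
    have := hadd a⁻¹ (b⁻¹ + a)⁻¹
    rw [← hid, inv_inv, inv_inv, inv_inv, map_add h b⁻¹ a] at this
    have hha := hne ha
    have hhb := hne (inv_ne_zero hb)
    have hhe : h b⁻¹ + h a ≠ 0 := by rw [← map_add]; exact hne he
    have hhA : h (a + a * a * b) = h a + h a * h a * g b := by
      rw [← inv_inv (h (a + a * a * b)), this, hg]
      refine inv_eq_of_mul_eq_one_right ?_
      simp only
      have hbe : h a + h a * h a * (h b⁻¹)⁻¹ = h a * (h b⁻¹)⁻¹ * (h b⁻¹ + h a) := by
        rw [mul_add, mul_assoc (h a) (h b⁻¹)⁻¹, inv_mul_cancel₀ hhb]; ring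
      rw [hbe]
      calc ((h a)⁻¹ + (h b⁻¹ + h a)⁻¹) * (h a * (h b⁻¹)⁻¹ * (h b⁻¹ + h a))
          = ((h a)⁻¹ * h a) * ((h b⁻¹)⁻¹ * (h b⁻¹ + h a))
            + ((h b⁻¹ + h a)⁻¹ * (h b⁻¹ + h a)) * (h a * (h b⁻¹)⁻¹) := by ring
        _ = (h b⁻¹)⁻¹ * (h b⁻¹ + h a) + h a * (h b⁻¹)⁻¹ := by
          rw [inv_mul_cancel₀ hha, inv_mul_cancel₀ hhe, one_mul, one_mul]
        _ = 1 := by
          rw [mul_add, inv_mul_cancel₀ hhb, mul_comm (h b⁻¹)⁻¹ (h a), add_assoc,
            CharTwo.add_self_eq_zero, add_zero]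
    rw [map_add] at hhA
    exact add_left_cancel hhA
  have hgh : ∀ x, g x = h x := fun x => by
    have := key 1 x
    rw [h1, one_mul, one_mul, one_mul] at this
    exact this.symm
  have hg1 : g 1 = 1 := by simp [hg, h1]
  have hsq : ∀ x, h (x * x) = h x * h x := fun x => by simpa [hg1] using key x 1
  obtain ⟨c, rfl⟩ : ∃ c, c * c = a := by
    obtain ⟨c, hc⟩ := Finite.injective_iff_surjective.1
      (fun x y e => frobenius_inj F 2 (by simpa [frobenius_def, sq] using e) :
        Function.Injective fun x : F => x * x) a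
    exact ⟨c, hc⟩
  rw [key, hgh, hsq]

variable (θ : F ≃+* F)

/-- The image of `r ↦ θ r + r`. -/
def polarRange : AddSubgroup F := ((θ : F →+* F).toAddMonoidHom + AddMonoidHom.id F).range

omit [CharP F 2] in
theorem mem_polarRange {z : F} : z ∈ polarRange θ ↔ ∃ r, θ r + r = z := Iff.rfl

/-- If the fixed field of `θ` is `{0, 1}` then `r ↦ θ r + r` has an image of index `2`. -/
theorem index_polarRange [Finite F] (hfix : ∀ r, θ r = r → r = 0 ∨ r = 1) :
    (polarRange θ).index = 2 := by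
  set f : F →+ F := (θ : F →+* F).toAddMonoidHom + AddMonoidHom.id F with hf
  have hk : Nat.card f.ker = 2 := by
    rw [show (Nat.card f.ker) = Nat.card ({0, 1} : Set F) from Nat.card_congr (Equiv.setCongr ?_),
      Nat.card_coe_set_eq, Set.ncard_pair zero_ne_one]
    ext r
    simp only [SetLike.mem_coe, AddMonoidHom.mem_ker, hf, AddMonoidHom.add_apply,
      AddMonoidHom.id_apply, Set.mem_insert_iff, Set.mem_singleton_iff]
    constructor
    · intro e
      exact hfix r (CharTwo.add_eq_zero.1 e)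
    · rintro (rfl | rfl) <;> simp [CharTwo.add_self_eq_zero]
  have hc := f.ker.card_mul_index
  rw [AddSubgroup.index_ker, hk] at hc
  have hr := f.range.card_mul_index
  rw [← hc, mul_comm 2] at hr
  exact Nat.eq_of_mul_eq_mul_left Nat.card_pos hr

/-- An additive bijection compatible with `x ↦ x θ x` is a constant times a field automorphism. -/
theorem exists_semilinear [Finite F] (hfix : ∀ r, θ r = r → r = 0 ∨ r = 1)
    (hsurj : ∀ w : F, ∃ x, x * θ x = w) (h A : F →+ F) (hh : Function.Bijective h)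
    (hA : ∀ x, h (x * θ x) = A x * θ (A x)) :
    ∃ c : F, c ≠ 0 ∧ ∃ ψ : F →+* F, ∀ x, h x = c * ψ x := by
  set K := polarRange θ with hK
  have hidx : K.index = 2 := index_polarRange θ hfix
  have hne : ∀ {x : F}, x ≠ 0 → h x ≠ 0 := fun {x} hx e => hx (hh.1 (by rw [e, map_zero]))
  have hfwd : ∀ w : F, w ≠ 0 → ∀ k ∈ K, h (w * k) * (h w)⁻¹ ∈ K := by
    intro w hw k hk
    obtain ⟨x, rfl⟩ := hsurj w
    obtain ⟨r, rfl⟩ := (mem_polarRange θ).1 hk
    have hAx : A x ≠ 0 := fun e => hne hw (by rw [hA, e, zero_mul])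
    have e1 : x * θ x * (θ r + r) = (x + x * r) * θ (x + x * r) + x * θ x + (x * r) * θ (x * r) := by
      have h2 : (2 : F) = 0 := CharTwo.two_eq_zero
      rw [map_add θ x (x * r), map_mul θ x r]
      linear_combination (-(x * θ x) - x * θ x * r * θ r) * h2
    rw [e1, map_add, map_add, hA, hA, hA, map_add, hK, mem_polarRange θ]
    refine ⟨A (x * r) / A x, ?_⟩
    have hθAx : θ (A x) ≠ 0 := by simpa using hAx
    have h2 : (2 : F) = 0 := CharTwo.two_eq_zero
    rw [map_div₀ θ, map_add θ (A x)]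
    field_simp
    linear_combination (-(A x * θ (A x)) - A (x * r) * θ (A (x * r))) * h2
  have hiff : ∀ w : F, w ≠ 0 → ∀ z : F, z * w⁻¹ ∈ K ↔ h z * (h w)⁻¹ ∈ K := by
    intro w hw
    have hf : ∀ z, z * w⁻¹ ∈ K → h z * (h w)⁻¹ ∈ K := fun z hz => by
      have := hfwd w hw _ hz
      rwa [mul_left_comm, mul_inv_cancel₀ hw, mul_one] at this
    intro z
    refine ⟨hf z, fun hz => by_contra fun hzK => ?_⟩
    have hall : ∀ z' : F, h z' * (h w)⁻¹ ∈ K := by
      intro z'
      by_cases hz' : z' * w⁻¹ ∈ K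
      · exact hf z' hz'
      · have h12 : (z' + z) * w⁻¹ ∈ K := by
          rw [add_mul, AddSubgroup.add_mem_iff_of_index_two hidx]
          exact iff_of_false hz' hzK
        have := hf _ h12
        rw [map_add, add_mul] at this
        exact (K.add_mem_cancel_right hz).1 this
    have htop : K = ⊤ := (AddSubgroup.eq_top_iff' K).2 fun y => by
      obtain ⟨z', hz'⟩ := hh.2 (y * h w)
      have := hall z'
      rwa [hz', mul_inv_cancel_right₀ (hne hw)] at this
    rw [htop, AddSubgroup.index_top] at hidx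
    exact absurd hidx (by decide)
  -- the functionals `z ↦ [z c ∈ K]` separate the scalars
  have hsep : ∀ c : F, (∀ z, z * c ∈ K) → c = 0 := fun c hc => by_contra fun hc0 => by
    have htop : K = ⊤ := (AddSubgroup.eq_top_iff' K).2 fun y => by
      have := hc (y * c⁻¹)
      rwa [inv_mul_cancel_right₀ hc0] at this
    rw [htop, AddSubgroup.index_top] at hidx
    exact absurd hidx (by decide)
  have hiff' : ∀ a z : F, z * a ∈ K ↔ h z * (h a⁻¹)⁻¹ ∈ K := by
    intro a z
    by_cases ha : a = 0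
    · simp [ha]
    · simpa using hiff a⁻¹ (inv_ne_zero ha) z
  have hadd : ∀ a b : F, (h (a + b)⁻¹)⁻¹ = (h a⁻¹)⁻¹ + (h b⁻¹)⁻¹ := by
    intro a b
    refine CharTwo.add_eq_zero.1 (hsep _ fun y => ?_)
    obtain ⟨z, rfl⟩ := hh.2 y
    rw [mul_add, mul_add, AddSubgroup.add_mem_iff_of_index_two hidx,
      AddSubgroup.add_mem_iff_of_index_two hidx, ← hiff', ← hiff', ← hiff', mul_add,
      AddSubgroup.add_mem_iff_of_index_two hidx]
  have h10 : h 1 ≠ 0 := hne one_ne_zero
  set h' : F →+ F := (AddMonoidHom.mulLeft (h 1)⁻¹).comp h with hh'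
  have h'app : ∀ x, h' x = (h 1)⁻¹ * h x := fun x => rfl
  have h'1 : h' 1 = 1 := by rw [h'app, inv_mul_cancel₀ h10]
  have h'mul := map_mul_of_inv_additive h'
    (fun x y e => hh.1 (mul_left_cancel₀ (inv_ne_zero h10) e)) h'1 (fun a b => by
      simp only [h'app, mul_inv, inv_inv]
      rw [hadd, mul_add])
  refine ⟨h 1, h10, { h' with map_one' := h'1, map_mul' := h'mul }, fun x => ?_⟩
  change h x = h 1 * h' x
  rw [h'app, mul_inv_cancel_left₀ h10]

end CfsgLib.LocalEven.TIEndgame.SuzukiSquare
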