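import Cfsg.Agent.Lib.LocalEven.TIEndgame.OddIndexTransfer
import Mathlib.GroupTheory.Sylow
import Mathlib.GroupTheory.SpecificGroups.Cyclic

/-!
# Transfer into a cyclic quotient of a Sylow 2-subgroup

A cyclic group has at most one involution, so an involution all of whose conjugates in `H` avoid the
kernel takes one value there: no set of involutions falling into the kernel generates the group.
-/

set_option autoImplicit false
set_option linter.style.haveILetI false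

namespace CfsgLib.LocalEven.TIEndgame

open Subgroup

variable {G : Type*} [Group G] [Finite G] {H : Subgroup G}

/-- Transfer through a homomorphism onto a finite cyclic group. -/
theorem closure_ne_top_of_hom_cyclic {A : Type*} [CommGroup A] [Finite A] [IsCyclic A] (φ : H →* A)
    (D : Set G) (hD : ∀ d ∈ D, d * d = 1) {u : G} (hu : u * u = 1) (hodd : Odd H.index) (huH : u ∈ H)
    (hout : ∀ (g : G) (hg : g⁻¹ * u * g ∈ H), φ ⟨g⁻¹ * u * g, hg⟩ ≠ 1)
    (hin : ∀ d ∈ D, ∀ (g : G) (hg : g⁻¹ * d * g ∈ H), φ ⟨g⁻¹ * d * g, hg⟩ = 1) :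
    Subgroup.closure D ≠ ⊤ := by
  classical
  have hu1 : φ ⟨u, huH⟩ ≠ 1 := by
    simpa using hout 1 (by simpa using huH)
  refine closure_ne_top_of_odd_index φ D hD hu hodd hu1 (fun g hg => ?_) hin
  by_contra hne
  have hsq : ∀ (x : G) (hx : x ∈ H), x * x = 1 → φ ⟨x, hx⟩ ^ 2 = 1 := fun x hx h => by
    rw [pow_two, ← map_mul, ← map_one φ]
    exact congrArg φ (Subtype.ext h)
  have h2 : (g⁻¹ * u * g) * (g⁻¹ * u * g) = 1 := by
    rw [show (g⁻¹ * u * g) * (g⁻¹ * u * g) = g⁻¹ * (u * u) * g by group, hu]; group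
  have := Fintype.ofFinite A
  have hle := IsCyclic.card_pow_eq_one_le (α := A) (n := 2) two_pos
  have hsub : ({1, φ ⟨u, huH⟩, φ ⟨g⁻¹ * u * g, hg⟩} : Finset A) ⊆
      Finset.univ.filter (fun a => a ^ 2 = 1) := by
    intro x hx
    simp only [Finset.mem_insert, Finset.mem_singleton] at hx
    rcases hx with rfl | rfl | rfl <;> simp [hsq, hu, h2]
  have h3 : ({1, φ ⟨u, huH⟩, φ ⟨g⁻¹ * u * g, hg⟩} : Finset A).card = 3 :=
    Finset.card_eq_three.2 ⟨_, _, _, Ne.symm hu1, Ne.symm (hout g hg), Ne.symm hne, rfl⟩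
  have h4 := Finset.card_le_card hsub
  rw [h3] at h4
  exact absurd (h4.trans (le_of_eq_of_le (by congr 1) hle)) (by norm_num)

/-- Transfer into a cyclic quotient `S / S₀` of a Sylow 2-subgroup. -/
theorem closure_ne_top_of_cyclic_quotient (S : Sylow 2 G) (S₀ : Subgroup ↥(S : Subgroup G)) [S₀.Normal]
    [hc : IsCyclic (↥(S : Subgroup G) ⧸ S₀)] (D : Set G) (hD : ∀ d ∈ D, d * d = 1) {u : G}
    (hu : u * u = 1) (huS : u ∈ (S : Subgroup G))
    (hout : ∀ (g : G) (hg : g⁻¹ * u * g ∈ (S : Subgroup G)), ⟨g⁻¹ * u * g, hg⟩ ∉ S₀)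
    (hin : ∀ d ∈ D, ∀ (g : G) (hg : g⁻¹ * d * g ∈ (S : Subgroup G)), ⟨g⁻¹ * d * g, hg⟩ ∈ S₀) :
    Subgroup.closure D ≠ ⊤ := by
  have : Fact (Nat.Prime 2) := ⟨Nat.prime_two⟩
  letI : CommGroup (↥(S : Subgroup G) ⧸ S₀) := IsCyclic.commGroup
  refine closure_ne_top_of_hom_cyclic (QuotientGroup.mk' S₀) D hD hu ?_ huS
    (fun g hg e => hout g hg ((QuotientGroup.eq_one_iff _).1 e))
    (fun d hd g hg => (QuotientGroup.eq_one_iff _).2 (hin d hd g hg))
  exact Nat.odd_iff.2 (Nat.two_dvd_ne_zero.1 S.not_dvd_index)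

end CfsgLib.LocalEven.TIEndgame
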