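import Cfsg.Agent.Lib.LocalEven.TIEndgame.Middle
import Mathlib.Algebra.BigOperators.Group.Finset.Basic

/-!
# Counting the moved members through their middle elements
-/

set_option autoImplicit false

namespace CfsgLib.LocalEven.TIEndgame

open Subgroup CfsgLib.Involution

variable {G Ω : Type*} [Group G] [MulAction G Ω]

/-- The members of `D` whose point is moved by `u`. -/
def moved (D : Set G) (Ω : Type*) [MulAction G Ω] (u : G) : Set G :=
  {d | d ∈ D ∧ ∀ a : Ω, d • a = a → u • a ≠ a}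

/-- The members of `D` commuting with `u`. -/
def centred (D : Set G) (u : G) : Set G := {f | f ∈ D ∧ Commute u f}

namespace OnePoint

variable [Finite G] {D : Set G} (h : OnePoint D Ω)
include h

omit [Finite G] in
/-- A member commuting with an involution `u` lies at a point fixed by `u`. -/
theorem centred_fixed {u f : G} {a : Ω} (hf : f ∈ centred D u) (hfa : f • a = a) : u • a = a :=
  h.fix_of_commute hf.1 hfa hf.2.symm

theorem exists_middle_centred {u d : G} (hu : u * u = 1) (hd : d ∈ moved D Ω u) :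
    ∃! f, f ∈ centred D u ∧ Commute (u * f) d := by
  have hui : u⁻¹ = u := inv_eq_of_mul_eq_one_left hu
  obtain ⟨a, hda⟩ := h.exists_fixed d hd.1
  have hdd : d ∈ dat D a := ⟨hd.1, hda⟩
  obtain ⟨f, ⟨hf, hfe⟩, huniq⟩ := h.existsUnique_middle hdd (h.conj_mem_dat u hdd)
    (Ne.symm (hd.2 a hda))
  have hfe' : f * (u * d * u⁻¹) * f⁻¹ = d := by
    rw [← hfe, h.inv_eq hf]
    calc f * (f * d * f) * f = f * f * d * (f * f) := by group
      _ = d := by rw [h.mul_self hf, one_mul, mul_one]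
  have huf : Commute u f := by
    refine mul_inv_eq_iff_eq_mul.1 (huniq (u * f * u⁻¹) ⟨h.conj_mem u f hf, ?_⟩)
    calc u * f * u⁻¹ * d * (u * f * u⁻¹)⁻¹ = u * (f * (u⁻¹ * d * u) * f⁻¹) * u⁻¹ := by group
      _ = u * d * u⁻¹ := by
        rw [show u⁻¹ * d * u = u * d * u⁻¹ by rw [hui], hfe']
  refine ⟨f, ⟨⟨hf, huf⟩, mul_inv_eq_iff_eq_mul.1 ?_⟩, ?_⟩
  · calc u * f * d * (u * f)⁻¹ = u * (f * d * f⁻¹) * u⁻¹ := by group
      _ = u * u * d * (u⁻¹ * u⁻¹) := by rw [hfe]; group
      _ = d := by rw [hui, hu, one_mul, mul_one]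
  · rintro g ⟨⟨hg, -⟩, hgd⟩
    refine huniq g ⟨hg, ?_⟩
    have h1 : u * g * d * (u * g)⁻¹ = d := mul_inv_eq_iff_eq_mul.2 hgd.eq
    calc g * d * g⁻¹ = u⁻¹ * (u * g * d * (u * g)⁻¹) * u := by group
      _ = u * d * u⁻¹ := by rw [h1, hui]

/-- The moved members are counted by the middle elements. -/
noncomputable def movedEquiv {u : G} (hu : u * u = 1) :
    ↥(moved D Ω u) ≃ Σ f : ↥(centred D u), {d : G // d ∈ moved D Ω u ∧ Commute (u * f) d} where
  toFun d := ⟨⟨(h.exists_middle_centred hu d.2).choose, (h.exists_middle_centred hu d.2).choose_spec.1.1⟩,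
    d, d.2, (h.exists_middle_centred hu d.2).choose_spec.1.2⟩
  invFun p := ⟨p.2, p.2.2.1⟩
  left_inv _ := rfl
  right_inv := by
    rintro ⟨⟨f, hf⟩, d, hd, hfd⟩
    have := (h.exists_middle_centred hu hd).choose_spec.2 f ⟨hf, hfd⟩
    subst this
    rfl

theorem card_moved {u : G} (hu : u * u = 1) [Fintype ↥(centred D u)] :
    Nat.card ↥(moved D Ω u) =
      ∑ f : ↥(centred D u), Nat.card {d : G // d ∈ moved D Ω u ∧ Commute (u * f) d} := by
  rw [Nat.card_congr (h.movedEquiv hu), Nat.card_sigma]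

omit [Finite G] in
/-- All points carry the same number of members. -/
theorem card_dat_smul (g : G) (a : Ω) : Nat.card (dat D (g • a)) = Nat.card (dat D a) := by
  refine (Nat.card_eq_of_bijective
    (fun d : dat D a => (⟨g * d * g⁻¹, h.conj_mem_dat g d.2⟩ : dat D (g • a))) ⟨fun d e hde => ?_,
      fun e => ⟨⟨g⁻¹ * e * g, ?_⟩, Subtype.ext (by group)⟩⟩).symm
  · exact Subtype.ext (mul_left_cancel (mul_right_cancel (congrArg Subtype.val hde)))
  · simpa using h.conj_mem_dat g⁻¹ e.2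

/-- The members are partitioned by their points. -/
noncomputable def pointEquiv (s : Set Ω) :
    {d : G // d ∈ D ∧ ∃ a ∈ s, d • a = a} ≃ Σ a : ↥s, ↥(dat D (a : Ω)) where
  toFun d := ⟨⟨d.2.2.choose, d.2.2.choose_spec.1⟩, d, d.2.1, d.2.2.choose_spec.2⟩
  invFun p := ⟨p.2, p.2.2.1, p.1, p.1.2, p.2.2.2⟩
  left_inv _ := rfl
  right_inv := by
    rintro ⟨⟨a, has⟩, d, hd, hda⟩
    have hx : ∃ a ∈ s, d • a = a := ⟨a, has, hda⟩
    have h1 : hx.choose = a := h.fixed_unique d hd _ _ hx.choose_spec.2 hda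
    subst h1
    rfl

theorem card_point [MulAction.IsPretransitive G Ω] [Finite Ω] (s : Set Ω) (a : Ω) :
    Nat.card {d : G // d ∈ D ∧ ∃ a ∈ s, d • a = a} = Nat.card s * Nat.card (dat D a) := by
  classical
  haveI : Fintype ↥s := Fintype.ofFinite _
  rw [Nat.card_congr (h.pointEquiv s), Nat.card_sigma, Finset.sum_congr rfl fun b _ => ?_,
    Finset.sum_const, Finset.card_univ, smul_eq_mul, Nat.card_eq_fintype_card]
  obtain ⟨g, hg⟩ := MulAction.exists_smul_eq G a (b : Ω)
  rw [← hg, h.card_dat_smul]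

/-- The moved members are those at the points moved by `u`. -/
theorem card_moved_eq [MulAction.IsPretransitive G Ω] [Finite Ω] (u : G) (a : Ω) :
    Nat.card ↥(moved D Ω u) = Nat.card {b : Ω // u • b ≠ b} * Nat.card (dat D a) := by
  refine Eq.trans (Nat.card_congr (Equiv.subtypeEquivRight fun d => ?_))
    (h.card_point {b : Ω | u • b ≠ b} a)
  refine ⟨fun hd => ?_, fun ⟨hd, b, hb, hdb⟩ => ⟨hd, fun c hdc => ?_⟩⟩
  · obtain ⟨b, hb⟩ := h.exists_fixed d hd.1
    exact ⟨hd.1, b, hd.2 b hb, hb⟩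
  · rwa [h.fixed_unique d hd c b hdc hdb]

end OnePoint

end CfsgLib.LocalEven.TIEndgame
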