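import Cfsg.Agent.Lib.LocalEven.TIEndgame.Fusion
import Cfsg.Agent.Lib.LocalEven.TIEndgame.Count

/-!
# The setting of Theorem T

`W a` is a nontrivial elementary abelian 2-group attached to each point `a`; every element other
than `1` fixes only `a`, and `W` commutes with conjugation. Theorem T: if these groups generate a
finite group acting faithfully, then every involution fixes at most one point.
-/

set_option autoImplicit false
set_option linter.style.haveILetI false

namespace CfsgLib.LocalEven.TIEndgame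

open MulAction

universe u v

section

variable {G : Type u} {Ω : Type v} [Group G] [MulAction G Ω]

/-- The standing hypothesis of Theorem T. -/
structure TISetting (W : Ω → Subgroup G) : Prop where
  sq : ∀ a, ∀ x ∈ W a, x * x = 1
  fix : ∀ a, W a ≤ stabilizer G a
  unique : ∀ a, ∀ x ∈ W a, x ≠ 1 → ∀ b : Ω, x • b = b → b = a
  conj : ∀ (g : G) (a : Ω), ∀ x ∈ W a, g * x * g⁻¹ ∈ W (g • a)
  ne_bot : ∀ a, W a ≠ ⊥

/-- The nontrivial elements of the groups `W a`. -/
def members (W : Ω → Subgroup G) : Set G := {d | d ≠ 1 ∧ ∃ a, d ∈ W a}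

/-- The members at `a` commuting with `u`, together with `1`. -/
def centredAt (W : Ω → Subgroup G) (u : G) (a : Ω) : Subgroup G :=
  W a ⊓ Subgroup.centralizer {u}

/-- The group generated by the members commuting with `u`. -/
def lineGroup (W : Ω → Subgroup G) (u : G) : Subgroup G :=
  Subgroup.closure (centred (members W) u)

namespace TISetting

variable {W : Ω → Subgroup G} (h : TISetting W)
include h

theorem mul_comm_of_mem {a : Ω} {x y : G} (hx : x ∈ W a) (hy : y ∈ W a) : Commute x y := by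
  have hi : ∀ z ∈ W a, z⁻¹ = z := fun z hz => inv_eq_of_mul_eq_one_right (h.sq a z hz)
  show x * y = y * x
  calc x * y = (x * y)⁻¹ := (hi _ (mul_mem hx hy)).symm
    _ = y⁻¹ * x⁻¹ := mul_inv_rev x y
    _ = y * x := by rw [hi x hx, hi y hy]

theorem mem_of_fixed {d : G} (hd : d ∈ members W) {a : Ω} (hda : d • a = a) : d ∈ W a := by
  obtain ⟨hd1, b, hb⟩ := hd
  exact h.unique b d hb hd1 a hda ▸ hb

theorem orderOf_member {d : G} (hd : d ∈ members W) : orderOf d = 2 := by
  obtain ⟨hd1, b, hb⟩ := hd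
  exact orderOf_eq_prime (by rw [pow_two, h.sq b d hb]) hd1

theorem conj_mem_iff {g x : G} {a : Ω} : g * x * g⁻¹ ∈ W (g • a) ↔ x ∈ W a := by
  refine ⟨fun hx => ?_, h.conj g a x⟩
  have := h.conj g⁻¹ (g • a) _ hx
  rwa [inv_smul_smul, inv_inv, show g⁻¹ * (g * x * g⁻¹) * g = x by group] at this

theorem onePoint : OnePoint (members W) Ω where
  orderOf_eq _ hd := h.orderOf_member hd
  conj_mem g d hd := by
    obtain ⟨hd1, a, ha⟩ := hd
    exact ⟨fun e => hd1 (by simpa using e), g • a, h.conj g a d ha⟩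
  exists_fixed d hd := by
    obtain ⟨-, a, ha⟩ := hd
    exact ⟨a, mem_stabilizer_iff.1 (h.fix a ha)⟩
  fixed_unique d hd a b ha hb := by
    obtain ⟨hd1, c, hc⟩ := hd
    rw [h.unique c d hc hd1 a ha, h.unique c d hc hd1 b hb]
  pair_unique d hd e he hcomm hne a b ha hb := by
    obtain ⟨hd1, c, hc⟩ := hd
    have hec : e • c = c := h.unique c d hc hd1 (e • c) (by
      rw [smul_smul, hcomm.eq, mul_smul, mem_stabilizer_iff.1 (h.fix c hc)])
    have hmem := mul_mem hc (h.mem_of_fixed he hec)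
    have hne1 : d * e ≠ 1 := fun e1 => hne (by
      rw [mul_eq_one_iff_eq_inv.1 e1, inv_eq_of_mul_eq_one_right
        (h.sq c e (h.mem_of_fixed he hec))])
    rw [h.unique c _ hmem hne1 a ha, h.unique c _ hmem hne1 b hb]

theorem dat_eq (a : Ω) : dat (members W) a = {d | d ∈ W a ∧ d ≠ 1} := by
  ext d
  exact ⟨fun hd => ⟨h.mem_of_fixed hd.1 hd.2, hd.1.1⟩,
    fun hd => ⟨⟨hd.2, a, hd.1⟩, mem_stabilizer_iff.1 (h.fix a hd.1)⟩⟩

theorem le_normalizer (a : Ω) : stabilizer G a ≤ Subgroup.normalizer (W a : Set G) := by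
  intro g hg
  refine Subgroup.mem_normalizer_iff.2 fun x => ?_
  have h2 := h.conj_mem_iff (g := g) (x := x) (a := a)
  rw [mem_stabilizer_iff.1 hg] at h2
  exact h2.symm

theorem covers [Finite G] : Covers (members W) Ω := by
  have : Fact (Nat.Prime 2) := ⟨Nat.prime_two⟩
  intro a P hP hPa
  letI : MulAction P (W a) :=
    { smul := fun p x => ⟨p * x * (p : G)⁻¹, by
        have h1 := h.conj p a x x.2
        rwa [mem_stabilizer_iff.1 (hPa p.2)] at h1⟩
      one_smul := fun x => Subtype.ext (by show (1 : G) * x * (1 : G)⁻¹ = x; simp)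
      mul_smul := fun p p' x => Subtype.ext (by
        show ((p : G) * p') * x * ((p : G) * p')⁻¹ = p * (p' * x * (p' : G)⁻¹) * (p : G)⁻¹
        group) }
  have hdvd : 2 ∣ Nat.card (W a) := by
    obtain ⟨x, hx, hx1⟩ := (Subgroup.ne_bot_iff_exists_ne_one (H := W a)).1 (h.ne_bot a) |>
      fun ⟨y, hy⟩ => (⟨y, y.2, fun e => hy (Subtype.ext e)⟩ : ∃ x ∈ W a, x ≠ 1)
    have ho : orderOf x = 2 := orderOf_eq_prime (by rw [pow_two, h.sq a x hx]) hx1
    rw [← ho]
    exact Subgroup.orderOf_dvd_natCard _ hx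
  have h1 : (1 : W a) ∈ fixedPoints P (W a) := fun p =>
    Subtype.ext (show (p : G) * (1 : G) * (p : G)⁻¹ = 1 by simp)
  obtain ⟨y, hy, hy1⟩ := hP.exists_fixed_point_of_prime_dvd_card_of_fixed_point (W a) hdvd h1
  refine ⟨y, ?_, fun p hp => ?_⟩
  · rw [h.dat_eq]
    exact ⟨y.2, fun e => hy1 (Subtype.ext e.symm)⟩
  · have := congrArg Subtype.val (hy ⟨p, hp⟩)
    exact mul_inv_eq_iff_eq_mul.1 this

end TISetting

end

/-- Theorem T for one action. -/
def NoBad (G : Type u) (Ω : Type v) [Group G] [MulAction G Ω] : Prop := ∀ x : G, ¬ IsBad Ω x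

/-- Theorem T below a given order. -/
def TIBelow (n : ℕ) : Prop :=
  ∀ (G : Type u) [Group G] [Finite G] (Ω : Type u) [Finite Ω] [MulAction G Ω] [FaithfulSMul G Ω]
    (W : Ω → Subgroup G), Nat.card G < n → TISetting W → Subgroup.closure (members W) = ⊤ →
      NoBad G Ω

/-- A least counterexample to Theorem T. -/
structure TIMin (G : Type u) (Ω : Type u) [Group G] [Finite G] [Finite Ω] [MulAction G Ω]
    [FaithfulSMul G Ω] (W : Ω → Subgroup G) : Prop extends TISetting W where
  gen : Subgroup.closure (members W) = ⊤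
  below : TIBelow.{u} (Nat.card G)

/-- Every least configuration has no bad involution. -/
def TIStep : Prop :=
  ∀ (G : Type u) [Group G] [Finite G] (Ω : Type u) [Finite Ω] [MulAction G Ω] [FaithfulSMul G Ω]
    (W : Ω → Subgroup G), TIMin G Ω W → NoBad G Ω

theorem tiBelow_of_step (hstep : TIStep.{u}) (n : ℕ) : TIBelow.{u} n := by
  induction n with
  | zero => intro G _ _ Ω _ _ _ W hn; exact absurd hn (Nat.not_lt_zero _)
  | succ n ih =>
    intro G _ _ Ω _ _ _ W hn hW hgen
    refine hstep G Ω W { toTISetting := hW, gen := hgen, below := ?_ }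
    intro G' _ _ Ω' _ _ _ W' hn'
    exact ih G' Ω' W' (lt_of_lt_of_le hn' (Nat.lt_succ_iff.1 hn))

/-- Theorem T in the universe of the group. -/
theorem noBad_of_step (hstep : TIStep.{u}) {G : Type u} [Group G] [Finite G] {Ω : Type u} [Finite Ω]
    [MulAction G Ω] [FaithfulSMul G Ω] {W : Ω → Subgroup G} (hW : TISetting W)
    (hgen : Subgroup.closure (members W) = ⊤) : NoBad G Ω :=
  tiBelow_of_step hstep (Nat.card G + 1) G Ω W (Nat.lt_succ_self _) hW hgen

/-- What the induction gives on the line of a bad involution `x` at a point `a` fixed by it. -/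
structure LineData {G : Type u} {Ω : Type u} [Group G] [MulAction G Ω] (W : Ω → Subgroup G) (x : G)
    (a : Ω) : Prop where
  /-- at least four members at `a` commute with `x`, counting `1` -/
  four : 4 ≤ Nat.card (centredAt W x a)
  /-- linear, Suzuki or unitary size -/
  size : ∃ i : ℕ, (i = 1 ∨ i = 2 ∨ i = 3) ∧
    Nat.card (fixedBy Ω x) = Nat.card (centredAt W x a) ^ i + 1
  /-- the translations at `a` -/
  translation : ∀ b c : Ω, x • b = b → x • c = c → b ≠ a → c ≠ a →
    ∃ g ∈ lineGroup W x, g • a = a ∧ g • b = c ∧ ∃ k : ℕ, g ^ 2 ^ k = 1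
  /-- translations are semiregular on the line -/
  semiregular : ∀ g ∈ lineGroup W x, g • a = a → (∃ k : ℕ, g ^ 2 ^ k = 1) →
    ∀ b : Ω, x • b = b → b ≠ a → g • b = b → ∀ c : Ω, x • c = c → g • c = c
  /-- on the line the involutions fixing `a` are the members at `a` -/
  involution : ∀ g ∈ lineGroup W x, g • a = a → (∀ c : Ω, x • c = c → (g * g) • c = c) →
    (∃ k : ℕ, g ^ 2 ^ k = 1) → ∃ r ∈ centredAt W x a, ∀ c : Ω, x • c = c → g • c = r • c
  /-- the torus is transitive on the members at `a` commuting with `x` -/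
  torus : ∀ b : Ω, x • b = b → b ≠ a → ∀ r ∈ centredAt W x a, ∀ s ∈ centredAt W x a, r ≠ 1 → s ≠ 1 →
    ∃ g ∈ lineGroup W x, g • a = a ∧ g • b = b ∧ Odd (orderOf g) ∧ g * r * g⁻¹ = s
  /-- in the unitary case a torus element centralises the members and moves the other translations -/
  unitary : Nat.card (fixedBy Ω x) = Nat.card (centredAt W x a) ^ 3 + 1 →
    ∀ b : Ω, x • b = b → b ≠ a → ∃ z ∈ lineGroup W x, z • a = a ∧ z • b = b ∧ Odd (orderOf z) ∧
      (∀ r ∈ centredAt W x a, Commute z r) ∧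
      ∀ c : Ω, x • c = c → z • c = c → c = a ∨ ∃ r ∈ centredAt W x a, r • b = c

end CfsgLib.LocalEven.TIEndgame
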