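import Cfsg.Agent.Lib.LocalEven.TIEndgame.Setup

/-!
# Theorem T for actions in any universe

The action is transitive, so it is carried to the cosets of a point stabiliser.
-/

set_option autoImplicit false
set_option linter.style.haveILetI false

namespace CfsgLib.LocalEven.TIEndgame

open MulAction

universe u v

/-- Theorem T in any universe, from the induction step. -/
theorem noBad_of_step' (hstep : TIStep.{u}) {G : Type u} {Ω : Type v} [Group G] [Finite G] [Finite Ω]
    [MulAction G Ω] [FaithfulSMul G Ω] {W : Ω → Subgroup G} (hW : TISetting W)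
    (hgen : Subgroup.closure (members W) = ⊤) : NoBad G Ω := by
  intro x hx
  obtain ⟨hx2, a, b, hab, ha, hb⟩ := hx
  haveI : IsPretransitive G Ω := ⟨fun c d => hW.onePoint.exists_move hW.covers c d⟩
  let e : G ⧸ stabilizer G a ≃ Ω :=
    Equiv.ofBijective (ofQuotientStabilizer G a)
      ⟨injective_ofQuotientStabilizer G a, fun c => by
        obtain ⟨g, hg⟩ := exists_smul_eq G a c
        exact ⟨g, hg⟩⟩
  have he : ∀ (g : G) (c : G ⧸ stabilizer G a), e (g • c) = g • e c :=
    fun g c => ofQuotientStabilizer_smul G a g c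
  haveI : FaithfulSMul G (G ⧸ stabilizer G a) := ⟨fun {g₁ g₂} h => eq_of_smul_eq_smul fun c : Ω => by
    obtain ⟨d, rfl⟩ := e.surjective c
    rw [← he, ← he, h]⟩
  have hW' : TISetting fun c => W (e c) := by
    refine ⟨fun c => hW.sq _, fun c y hy => ?_, fun c y hy hy1 d hd => ?_, fun g c y hy => ?_,
      fun c => hW.ne_bot _⟩
    · exact mem_stabilizer_iff.2 (e.injective (by rw [he, mem_stabilizer_iff.1 (hW.fix _ hy)]))
    · exact e.injective (hW.unique _ y hy hy1 _ (by rw [← he, hd]))
    · show g * y * g⁻¹ ∈ W (e (g • c))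
      rw [he]
      exact hW.conj g _ y hy
  have hmem : members (fun c => W (e c)) = members W := by
    ext d
    exact ⟨fun ⟨h1, c, hc⟩ => ⟨h1, e c, hc⟩,
      fun ⟨h1, c, hc⟩ => ⟨h1, e.symm c, show d ∈ W (e (e.symm c)) by rwa [e.apply_symm_apply]⟩⟩
  exact noBad_of_step hstep hW' (hmem ▸ hgen) x ⟨hx2, e.symm a, e.symm b,
    fun h => hab (e.symm.injective h), e.injective (by rw [he, e.apply_symm_apply, ha]),
    e.injective (by rw [he, e.apply_symm_apply, hb])⟩

end CfsgLib.LocalEven.TIEndgame
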