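import Cfsg.Agent.Lib.Involution.BaerSuzuki

/-!
# Cocycles of a two-transitive affine group in characteristic two

A finite group acting faithfully on an elementary abelian group of order `2 ^ r`, `r` even, with a
cocycle whose zero set normalises a cyclic subgroup transitive on the non-zero vectors and
killed by the cocycle, has only the zero cocycle.
-/

set_option autoImplicit false
set_option linter.style.haveILetI false

namespace CfsgLib.LocalEven.TIEndgame.AffineTwo

open Subgroup

section Add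

variable {X V : Type*} [Group X] [AddCommGroup V] [DistribMulAction X V]
  (c : X → V) (hc : ∀ g k : X, c (g * k) = c g + g • c k)

include hc

theorem map_one : c 1 = 0 := by
  simpa using hc 1 1

theorem map_inv (g : X) : c g⁻¹ = -(g⁻¹ • c g) := by
  have h := hc g⁻¹ g
  rw [inv_mul_cancel, map_one c hc] at h
  exact eq_neg_of_add_eq_zero_left h.symm

/-- An element of odd order fixes a point of the affine action. -/
theorem exists_fixed_of_odd (hV2 : ∀ v : V, v + v = 0) {g : X} (hg : Odd (orderOf g)) :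
    ∃ v : V, c g + g • v = v := by
  obtain ⟨j, hj⟩ := hg
  set n := orderOf g with hn
  refine ⟨∑ i ∈ Finset.range n, c (g ^ i), ?_⟩
  have h1 : ∀ i, g • c (g ^ i) = c (g ^ (i + 1)) + c g := fun i => by
    rw [pow_succ', hc, add_comm (c g), add_assoc, hV2, add_zero]
  rw [Finset.smul_sum, Finset.sum_congr rfl fun i _ => h1 i, Finset.sum_add_distrib,
    Finset.sum_const, Finset.card_range]
  have h2 : n • c g = c g := by
    rw [hj, succ_nsmul, show 2 * j = j * 2 from mul_comm _ _, mul_nsmul', two_nsmul, hV2,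
      nsmul_zero, zero_add]
  have h3 : ∑ i ∈ Finset.range n, c (g ^ (i + 1)) = ∑ i ∈ Finset.range n, c (g ^ i) := by
    have e := Finset.sum_range_succ' (fun i => c (g ^ i)) n
    rw [Finset.sum_range_succ, hn, pow_orderOf_eq_one, pow_zero] at e
    exact (add_right_cancel e).symm
  rw [h2, h3, add_comm, add_assoc, hV2, add_zero]

omit hc in
/-- Two additive subgroups whose orders have product more than the order of the group meet. -/
theorem exists_mem_both [Finite V] (A B : AddSubgroup V)
    (h : Nat.card V < Nat.card A * Nat.card B) : ∃ v ∈ A, v ∈ B ∧ v ≠ 0 := by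
  by_contra hno
  push Not at hno
  refine h.not_ge ?_
  rw [← Nat.card_prod]
  refine Nat.card_le_card_of_injective (fun p : A × B => (p.1 : V) + p.2) fun p q e => ?_
  have e1 : (p.1 : V) - q.1 = q.2 - p.2 := by
    have e' : (p.1 : V) + p.2 = q.1 + q.2 := e
    rw [sub_eq_sub_iff_add_eq_add, e', add_comm]
  have h0 := hno _ (sub_mem p.1.2 q.1.2) (e1 ▸ sub_mem q.2.2 p.2.2)
  refine Prod.ext (Subtype.ext (sub_eq_zero.1 h0)) (Subtype.ext ?_)
  rw [h0] at e1
  exact (sub_eq_zero.1 e1.symm).symm

variable [Finite X] [Finite V] [FaithfulSMul X V]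

/-- The cocycle vanishes. -/
theorem cocycle_eq_zero (hV2 : ∀ v : V, v + v = 0) {r : ℕ} (hr : Even r)
    (hcard : Nat.card V = 2 ^ r) (J : Subgroup X) [IsCyclic J]
    (hJcard : Nat.card J + 1 = Nat.card V)
    (htrans : ∀ v w : V, v ≠ 0 → w ≠ 0 → ∃ j ∈ J, j • v = w) (hJ : ∀ j ∈ J, c j = 0)
    (hnorm : ∀ g : X, c g = 0 → ∀ j ∈ J, g * j * g⁻¹ ∈ J) : ∀ g : X, c g = 0 := by
  classical
  haveI : Fact (Nat.Prime 2) := ⟨Nat.prime_two⟩
  by_contra hne
  push Not at hne
  obtain ⟨g₁, hg₁⟩ := hne
  haveI : Nontrivial V := ⟨⟨c g₁, 0, hg₁⟩⟩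
  have hr0 : r ≠ 0 := fun e => by
    have := Finite.one_lt_card (α := V)
    rw [hcard, e, pow_zero] at this
    omega
  -- the action of `J` on the non-zero vectors is regular
  have hfree : ∀ j ∈ J, ∀ v : V, v ≠ 0 → j • v = v → j = 1 := by
    intro j hj v hv hjv
    have hsurj : Function.Surjective (fun k : J => (⟨(k : X) • v, fun e => hv
        ((smul_eq_zero_iff_eq (k : X)).1 e)⟩ : {w : V // w ≠ 0})) := fun w => by
      obtain ⟨k, hk, e⟩ := htrans v w hv w.2
      exact ⟨⟨k, hk⟩, Subtype.ext e⟩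
    have hn : Nat.card J = Nat.card {w : V // w ≠ 0} := by
      haveI : Fintype V := Fintype.ofFinite V
      rw [Nat.card_eq_fintype_card (α := {w : V // w ≠ 0}), Fintype.card_subtype_compl,
        Fintype.card_subtype_eq, ← Nat.card_eq_fintype_card]
      omega
    have := (hsurj.bijective_of_nat_card_le hn.le).1 (a₁ := ⟨j, hj⟩) (a₂ := 1)
      (Subtype.ext (by simpa using hjv))
    exact congrArg Subtype.val this
  -- the cocycle is onto
  have hon : ∀ v : V, ∃ g, c g = v := fun v => by
    by_cases hv : v = 0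
    · exact ⟨1, hv ▸ map_one c hc⟩
    obtain ⟨j, hj, e⟩ := htrans _ v hg₁ hv
    exact ⟨j * g₁, by rw [hc, hJ j hj, zero_add, e]⟩
  let H : Subgroup X :=
    { carrier := {g | c g = 0}
      one_mem' := map_one c hc
      mul_mem' := fun {a b} ha hb => by
        simp only [Set.mem_setOf_eq] at ha hb ⊢
        rw [hc, ha, hb, smul_zero, add_zero]
      inv_mem' := fun {a} ha => by
        simp only [Set.mem_setOf_eq] at ha ⊢
        rw [map_inv c hc, ha, smul_zero, neg_zero] }
  have hH : ∀ g, g ∈ H ↔ c g = 0 := fun _ => Iff.rfl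
  have hcoset : ∀ a b : X, a⁻¹ * b ∈ H ↔ c a = c b := fun a b => by
    rw [hH, hc, map_inv c hc, ← smul_neg, ← smul_add, smul_eq_zero_iff_eq, neg_add_eq_zero]
  -- a Sylow `2`-subgroup meets every point, so its central involution moves all points
  obtain ⟨S⟩ : Nonempty (Sylow 2 X) := inferInstance
  have hindex : H.index = 2 ^ r := by
    rw [Subgroup.index, ← hcard]
    refine Nat.card_congr (Equiv.ofBijective (Quotient.lift c fun a b hab =>
      (hcoset a b).1 (QuotientGroup.leftRel_apply.1 hab)) ⟨?_, fun v => ?_⟩)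
    · rintro ⟨a⟩ ⟨b⟩ e
      exact QuotientGroup.eq.2 ((hcoset a b).2 e)
    · obtain ⟨g, rfl⟩ := hon v
      exact ⟨(g : X ⧸ H), rfl⟩
  have hSon : ∀ v : V, ∃ s ∈ (S : Subgroup X), c s = v := by
    have hge : 2 ^ r ≤ (H.subgroupOf S).index := by
      obtain ⟨a, ha⟩ := (S.isPGroup'.to_le (inf_le_left : (S : Subgroup X) ⊓ H ≤ S)).exists_card_eq
      obtain ⟨b, hb⟩ := S.isPGroup'.exists_card_eq
      have h1 : Nat.card (H.subgroupOf S) = 2 ^ a := by
        rw [← ha, ← Nat.card_congr (Subgroup.subgroupOfEquivOfLe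
          (inf_le_left : (S : Subgroup X) ⊓ H ≤ S)).toEquiv, Subgroup.inf_subgroupOf_left]
      have h2 : 2 ^ a ∣ Nat.card H := ha ▸ card_dvd_of_le inf_le_right
      have h3 : 2 ^ (a + r) ∣ Nat.card X := by
        rw [pow_add, ← H.card_mul_index, hindex]
        exact mul_dvd_mul_right h2 _
      have h4 : a + r ≤ b := by
        have h5 : 2 ^ (a + r) ∣ Nat.card (S : Subgroup X) := by
          refine (Nat.Coprime.pow_left _ ?_).dvd_of_dvd_mul_right
            ((S : Subgroup X).card_mul_index.symm ▸ h3)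
          exact (Nat.prime_two.coprime_iff_not_dvd).2 S.not_dvd_index
        rw [hb] at h5
        exact Nat.pow_le_pow_iff_right (by norm_num) |>.1 (Nat.le_of_dvd (by positivity) h5)
      have h6 := (H.subgroupOf S).card_mul_index
      rw [h1, hb] at h6
      have h7 : 2 ^ (a + r) ≤ 2 ^ b := Nat.pow_le_pow_right (by norm_num) h4
      rw [← h6, pow_add] at h7
      exact Nat.le_of_mul_le_mul_left h7 (by positivity)
    intro v
    let f : (S : Subgroup X) ⧸ H.subgroupOf S → V := Quotient.lift (fun s => c (s : X))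
      fun a b hab => (hcoset a b).1 (mem_subgroupOf.1 (QuotientGroup.leftRel_apply.1 hab))
    have hf : Function.Injective f := by
      rintro ⟨a⟩ ⟨b⟩ e
      exact QuotientGroup.eq.2 (mem_subgroupOf.2 ((hcoset a b).2 e))
    obtain ⟨⟨s⟩, hs⟩ := (hf.bijective_of_nat_card_le (by rw [hcard]; exact hge)).2 v
    exact ⟨s, s.2, hs⟩
  obtain ⟨z, hzS, hz2, hzc⟩ : ∃ z : X, z ∈ (S : Subgroup X) ∧ orderOf z = 2 ∧
      ∀ s ∈ (S : Subgroup X), z * s = s * z := by
    haveI : Nontrivial (S : Subgroup X) := by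
      obtain ⟨s, hs, hs'⟩ := hSon (c g₁)
      exact ⟨⟨⟨s, hs⟩, 1, fun e => hg₁ (by
        rw [← hs', show s = 1 from congrArg Subtype.val e, map_one c hc])⟩⟩
    haveI := S.isPGroup'.center_nontrivial
    obtain ⟨k, hk, hcardZ⟩ := (S.isPGroup'.to_subgroup (center (S : Subgroup X))).nontrivial_iff_card.1
      inferInstance
    obtain ⟨u, hu⟩ := exists_prime_orderOf_dvd_card' (G := center (S : Subgroup X)) 2
      (hcardZ ▸ dvd_pow_self 2 (by omega))
    refine ⟨((u : (S : Subgroup X)) : X), (u : (S : Subgroup X)).2, ?_, fun s hs => ?_⟩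
    · rw [orderOf_coe, orderOf_coe, hu]
    · exact (congrArg Subtype.val (mem_center_iff.1 u.2 ⟨s, hs⟩)).symm
  have hz1 : z ≠ 1 := fun e => by rw [e, orderOf_one] at hz2; omega
  have hnofix : ∀ v : V, c z ≠ v + z • v := by
    intro v hv
    obtain ⟨s, hs, rfl⟩ := hSon v
    have e : c z + z • c s = c s + s • c z := by rw [← hc, ← hc, hzc s hs]
    have e2 : c z + z • c s = c s := by rw [hv, add_assoc, hV2, add_zero]
    have hz0 : c z = 0 := by
      rw [e2, left_eq_add, smul_eq_zero_iff_eq] at e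
      exact e
    refine hz1 (FaithfulSMul.eq_of_smul_eq_smul (α := V) fun w => ?_)
    obtain ⟨s', hs', rfl⟩ := hSon w
    have e' : c z + z • c s' = c s' + s' • c z := by rw [← hc, ← hc, hzc s' hs']
    rw [hz0, smul_zero, zero_add, add_zero] at e'
    rw [e', one_smul]
  -- the fixed space of `z` is more than half
  have hzz : z * z = 1 := by rw [← pow_two, ← hz2, pow_orderOf_eq_one]
  let f : V →+ V := AddMonoidHom.id V + DistribMulAction.toAddMonoidHom V z
  have hfa : ∀ v, f v = v + z • v := fun _ => rfl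
  have hlarge : Nat.card V < Nat.card f.ker * Nat.card f.ker := by
    have h1 : Nat.card f.ker * Nat.card f.range = Nat.card V := by
      rw [← Nat.card_congr (QuotientAddGroup.quotientKerEquivRange f).toEquiv]
      exact f.ker.card_mul_index
    have h2 : f.range < f.ker := by
      refine lt_of_le_of_ne ?_ fun e => ?_
      · rintro _ ⟨v, rfl⟩
        rw [AddMonoidHom.mem_ker, hfa, hfa, smul_add, smul_smul, hzz, one_smul, add_comm (z • v),
          hV2]
      · have hcz : c z ∈ f.ker := by
          rw [AddMonoidHom.mem_ker, hfa, ← hc, hzz, map_one c hc]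
        obtain ⟨v, hv⟩ : c z ∈ f.range := e ▸ hcz
        exact hnofix v (hv.symm.trans (hfa v))
    have h3 : Nat.card f.range < Nat.card f.ker := by
      refine lt_of_le_of_ne (AddSubgroup.card_le_of_le h2.le) fun e => h2.ne ?_
      exact AddSubgroup.eq_of_le_of_card_ge h2.le e.ge
    rw [← h1]
    exact Nat.mul_lt_mul_of_pos_left h3 Nat.card_pos
  -- no element of odd prime order inverted and fixing a non-zero vector
  have hbase : ∀ h y : X, c h = 0 → c y = 0 → y * h * y⁻¹ = h⁻¹ → Odd (orderOf h) →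
      ∀ d : V, d ≠ 0 → h • d = d → h = 1 := by
    intro h y hh hy hinv hodd d hd hhd
    obtain ⟨γ, hγ⟩ := IsCyclic.exists_generator (α := J)
    have hex : ∀ g : X, c g = 0 → ∃ i : ℤ, g * (γ : X) * g⁻¹ = (γ : X) ^ i := fun g hg => by
      obtain ⟨i, hi⟩ := mem_zpowers_iff.1 (hγ ⟨_, hnorm g hg _ γ.2⟩)
      exact ⟨i, by simpa using (congrArg Subtype.val hi).symm⟩
    obtain ⟨a, ha⟩ := hex h hh
    obtain ⟨b, hb⟩ := hex y hy
    have key : ∀ (g : X) (i n : ℤ), g * (γ : X) * g⁻¹ = (γ : X) ^ i →
        g * (γ : X) ^ n * g⁻¹ = (γ : X) ^ (i * n) := fun g i n e => by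
      rw [zpow_mul, ← e, conj_zpow]
    have e1 : (h * h) * (γ : X) * (h * h)⁻¹ = (γ : X) := by
      have e2 : y * (h * (γ : X) * h⁻¹) * y⁻¹ = h⁻¹ * (y * (γ : X) * y⁻¹) * h := by
        calc y * (h * (γ : X) * h⁻¹) * y⁻¹
            = (y * h * y⁻¹) * (y * (γ : X) * y⁻¹) * (y * h * y⁻¹)⁻¹ := by group
          _ = _ := by rw [hinv, inv_inv]
      have e3 : h * (y * (h * (γ : X) * h⁻¹) * y⁻¹) * h⁻¹ = y * (γ : X) * y⁻¹ := by
        rw [e2]; group
      rw [ha, key y b a hb, key h a _ ha, hb] at e3
      have e4 : y * ((h * h) * (γ : X) * (h * h)⁻¹) * y⁻¹ = y * (γ : X) * y⁻¹ := by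
        rw [show (h * h) * (γ : X) * (h * h)⁻¹ = h * (h * (γ : X) * h⁻¹) * h⁻¹ by group, ha,
          key h a a ha, key y b _ hb, hb]
        rw [← e3]
        congr 1
        ring
      simpa using e4
    have hhh : h * h = 1 := by
      refine FaithfulSMul.eq_of_smul_eq_smul (α := V) fun w => ?_
      rw [one_smul]
      by_cases hw : w = 0
      · rw [hw, smul_zero]
      obtain ⟨j, hj, rfl⟩ := htrans d w hd hw
      obtain ⟨i, hi⟩ := mem_zpowers_iff.1 (hγ ⟨j, hj⟩)
      have hji : j = (γ : X) ^ i := by simpa using (congrArg Subtype.val hi).symm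
      have hcomm : Commute (h * h) j := by
        rw [hji]
        exact Commute.zpow_right (mul_inv_eq_iff_eq_mul.1 e1) i
      rw [← mul_smul, hcomm.eq, mul_smul, mul_smul, hhd, hhd]
    obtain ⟨i, hi⟩ := hodd
    have h1 : h ^ orderOf h = 1 := pow_orderOf_eq_one h
    rwa [hi, pow_add, pow_mul, pow_two, hhh, one_pow, one_mul, pow_one] at h1
  -- so the conjugates of `z` generate `2`-groups in pairs
  obtain ⟨N, hN, hN2, hzN⟩ : ∃ N : Subgroup X, N.Normal ∧ IsPGroup 2 N ∧ z ∈ N := by
    by_contra hno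
    push Not at hno
    obtain ⟨h, hh1, hhodd, hinv⟩ :=
      CfsgLib.Involution.BaerSuzuki.exists_inverted_odd z hz2 hno
    obtain ⟨d, hd1, hd2, hd0⟩ := exists_mem_both f.ker
      (f.ker.map (DistribMulAction.toAddMonoidHom V h)) (by
        rwa [Nat.card_congr (AddSubgroup.equivMapOfInjective f.ker _
          (MulAction.injective (β := V) h)).toEquiv.symm])
    obtain ⟨d', hd', hdd'⟩ := AddSubgroup.mem_map.1 hd2
    have hzfix : ∀ v, v ∈ f.ker → z • v = v := fun v hv => by
      rw [AddMonoidHom.mem_ker, hfa] at hv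
      calc z • v = v + v + z • v := by rw [hV2, zero_add]
        _ = v + (v + z • v) := add_assoc _ _ _
        _ = v := by rw [hv, add_zero]
    have hhd : h • d = d := by
      have h2 : (h * h) • d = d := by
        have e : h * h = (h * z * h⁻¹) * z := by
          have : z * h⁻¹ * z⁻¹ = h := by
            rw [← inv_inj]; simpa [mul_assoc] using hinv
          rw [inv_eq_of_mul_eq_one_right hzz] at this
          rw [mul_assoc (h * z) h⁻¹ z, mul_assoc h z, ← mul_assoc z h⁻¹ z, this]
        rw [e, mul_smul, hzfix d hd1, ← hdd']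
        change (h * z * h⁻¹) • h • d' = h • d'
        rw [smul_smul, inv_mul_cancel_right, mul_smul, hzfix d' hd']
      obtain ⟨i, hi⟩ := hhodd
      have h1 : h = (h * h) ^ (i + 1) := by
        have e := pow_orderOf_eq_one h
        rw [hi] at e
        rw [← pow_two, ← pow_mul, show 2 * (i + 1) = 2 * i + 1 + 1 by ring, pow_succ, e, one_mul]
      rw [h1]
      generalize i + 1 = n
      induction n with
      | zero => rw [pow_zero, one_smul]
      | succ n ih => rw [pow_succ, mul_smul, h2, ih]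
    -- pass to prime order and to a fixed point
    obtain ⟨ℓ, hℓ, hℓdvd⟩ := Nat.exists_prime_and_dvd (n := orderOf h)
      (fun e => hh1 (orderOf_eq_one_iff.1 e))
    obtain ⟨m, hm⟩ := hℓdvd
    have hℓodd : Odd ℓ := (Nat.odd_mul.1 (hm ▸ hhodd)).1
    set u := h ^ m with hu
    have hm0 : m ≠ 0 := fun e => by
      have := orderOf_pos h
      rw [hm, e, mul_zero] at this
      omega
    have huord : orderOf u = ℓ := by
      rw [hu, orderOf_pow_of_dvd hm0 ⟨ℓ, by rw [hm, mul_comm]⟩, hm,
        Nat.mul_div_cancel _ (Nat.pos_of_ne_zero hm0)]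
    have huinv : z * u * z⁻¹ = u⁻¹ := by rw [hu, ← conj_pow, hinv, inv_pow]
    have hud : u • d = d := by
      rw [hu]
      generalize m = n
      induction n with
      | zero => rw [pow_zero, one_smul]
      | succ n ih => rw [pow_succ, mul_smul, hhd, ih]
    obtain ⟨v, hv⟩ := exists_fixed_of_odd c hc hV2 (g := u) (huord ▸ hℓodd)
    obtain ⟨g₀, hg₀⟩ := hon v
    obtain ⟨j₀, hj₀, hj₀d⟩ := htrans d (g₀⁻¹ • d) hd0
      (fun e => hd0 ((smul_eq_zero_iff_eq g₀⁻¹).1 e))
    set g := g₀ * j₀ with hg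
    have hgd : g • d = d := by rw [hg, mul_smul, hj₀d, smul_inv_smul]
    have hcg : c g = v := by rw [hg, hc, hJ j₀ hj₀, smul_zero, add_zero, hg₀]
    set x := g⁻¹ * u * g with hx
    have hxH : c x = 0 := by
      rw [← hH, hx, mul_assoc, hcoset, hc u g, hcg, hv]
    have hxd : x • d = d := by
      have hgd' : g⁻¹ • d = d := inv_smul_eq_iff.2 hgd.symm
      rw [hx, mul_smul, mul_smul, hgd, hud, hgd']
    have hxord : orderOf x = ℓ := by
      rw [← huord, hx]
      simpa using MulEquiv.orderOf_eq (MulAut.conj g⁻¹) u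
    have hx1 : x ≠ 1 := fun e => hℓ.ne_one (by rw [← hxord, e, orderOf_one])
    have hxodd : Odd (orderOf x) := hxord ▸ hℓodd
    set y := g⁻¹ * z * g with hy
    have hyinv : y * x * y⁻¹ = x⁻¹ := by
      calc y * x * y⁻¹ = g⁻¹ * (z * u * z⁻¹) * g := by rw [hy, hx]; group
        _ = _ := by rw [huinv, hx]; group
    -- the fixed points of `x`
    have hcy : x • c y = c y := by
      have e1 : c (y * x) = c y := by rw [hc, hxH, smul_zero, add_zero]
      have e2 : x * (y * x) = y := by
        have : y * x = x⁻¹ * y := mul_inv_eq_iff_eq_mul.1 hyinv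
        rw [this, mul_inv_cancel_left]
      have e3 := hc x (y * x)
      rw [e2, e1, hxH, zero_add] at e3
      exact e3.symm
    -- a non-trivial element of `J` centralising `x`
    obtain ⟨k, hkJ, hk1, hkx⟩ : ∃ k ∈ J, k ≠ 1 ∧ k * x = x * k := by
      have h3 : 3 ∣ Nat.card J := by
        obtain ⟨s, rfl⟩ := hr
        have e : Nat.card J + 1 = 4 ^ s := by
          rw [hJcard, hcard, ← two_mul, pow_mul]; norm_num
        have : (4 : ℕ) ^ s % 3 = 1 := by rw [Nat.pow_mod]; norm_num
        omega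
      haveI : Fact (Nat.Prime 3) := ⟨Nat.prime_three⟩
      obtain ⟨⟨k, hkJ⟩, hk⟩ := exists_prime_orderOf_dvd_card' (G := J) 3 h3
      rw [← orderOf_coe] at hk
      change orderOf k = 3 at hk
      have hk1 : k ≠ 1 := fun e => by rw [e, orderOf_one] at hk; omega
      refine ⟨k, hkJ, hk1, ?_⟩
      have hsub : ∀ t ∈ J, t ^ 3 = 1 → t = 1 ∨ t = k ∨ t = k * k := by
        intro t ht ht3
        haveI : Fintype J := Fintype.ofFinite J
        have hle := IsCyclic.card_pow_eq_one_le (α := J) (n := 3) (by norm_num)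
        by_contra hne
        push Not at hne
        obtain ⟨n1, n2, n3⟩ := hne
        have hk3 : k ^ 3 = 1 := hk ▸ pow_orderOf_eq_one k
        have hkk : k * k ≠ 1 := by
          intro e
          have : orderOf k ∣ 2 := orderOf_dvd_of_pow_eq_one (by rw [pow_two, e])
          rw [hk] at this
          omega
        have hkk' : k * k ≠ k := fun e => hk1 (mul_eq_left.1 e)
        let tt : Finset J := {1, ⟨k, hkJ⟩, ⟨k * k, mul_mem hkJ hkJ⟩, ⟨t, ht⟩}
        have h4 : tt.card = 4 := by
          simp [tt, Subtype.ext_iff, hk1.symm, hkk.symm, Ne.symm n1, hkk'.symm, Ne.symm n2,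
            Ne.symm n3]
        have h5 : tt ⊆ Finset.univ.filter (fun a : J => a ^ 3 = 1) := by
          intro a ha
          simp only [tt, Finset.mem_insert, Finset.mem_singleton] at ha
          refine Finset.mem_filter.2 ⟨Finset.mem_univ _, Subtype.ext ?_⟩
          rw [coe_pow, coe_one]
          rcases ha with rfl | rfl | rfl | rfl
          · simp
          · exact hk3
          · show (k * k) ^ 3 = 1
            rw [← pow_two, ← pow_mul, show 2 * 3 = 3 * 2 from rfl, pow_mul, hk3, one_pow]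
          · exact ht3
        have := Finset.card_le_card h5
        omega
      have hm : x * k * x⁻¹ ∈ J := hnorm x hxH k hkJ
      have hk3 : k ^ 3 = 1 := hk ▸ pow_orderOf_eq_one k
      rcases hsub _ hm (by rw [conj_pow, hk3, mul_one, mul_inv_cancel]) with e | e | e
      · exact absurd (by simpa using e) hk1
      · exact (mul_inv_eq_iff_eq_mul.1 e).symm
      · exfalso
        have hstep : ∀ i : ℕ, x ^ i * k * (x ^ i)⁻¹ = k ^ (2 ^ i) := by
          intro i
          induction i with
          | zero => simp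
          | succ i ih =>
            rw [pow_succ', show x * x ^ i * k * (x * x ^ i)⁻¹ = x * (x ^ i * k * (x ^ i)⁻¹) * x⁻¹ by
              group, ih, ← conj_pow, e, ← pow_two, ← pow_mul, ← pow_succ']
        have h2 := hstep (orderOf x)
        rw [pow_orderOf_eq_one, one_mul, inv_one, mul_one] at h2
        have h3' : 2 ^ orderOf x % 3 = 2 := by
          obtain ⟨i, hi⟩ := hxodd
          rw [hi, pow_succ, pow_mul, Nat.mul_mod, Nat.pow_mod]
          norm_num
        rw [← Nat.div_add_mod (2 ^ orderOf x) 3, h3', pow_add, pow_mul, hk3, one_pow, one_mul,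
          pow_two, left_eq_mul] at h2
        exact hk1 h2
    by_cases hy0 : c y = 0
    · exact hx1 (hbase x y hxH hy0 hyinv hxodd d hd0 hxd)
    -- an element commuting with `x` and moving the origin
    set w := y * k * y⁻¹ with hw
    have hwx : w * x = x * w := by
      have e : y⁻¹ * x * y = x⁻¹ := by
        rw [← inv_inj, inv_inv]
        calc (y⁻¹ * x * y)⁻¹ = y⁻¹ * x⁻¹ * y := by group
          _ = y⁻¹ * (y * x * y⁻¹) * y := by rw [hyinv]
          _ = x := by group
      have e2 : k * x⁻¹ = x⁻¹ * k := (Commute.inv_right (show Commute k x from hkx)).eq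
      calc w * x = y * (k * (y⁻¹ * x * y)) * y⁻¹ := by rw [hw]; group
        _ = y * (x⁻¹ * k) * y⁻¹ := by rw [e, e2]
        _ = (y * x * y⁻¹)⁻¹ * w := by rw [hw]; group
        _ = x * w := by rw [hyinv, inv_inv]
    have hcw : c w ≠ 0 := by
      intro e
      have e1 : c (w * y) = w • c y := by rw [hc, e, zero_add]
      have e2 : w * y = y * k := by rw [hw, inv_mul_cancel_right]
      rw [e2, hc, hJ k hkJ, smul_zero, add_zero] at e1
      refine hk1 (hfree k hkJ (y⁻¹ • c y) (fun h0 => hy0 ((smul_eq_zero_iff_eq y⁻¹).1 h0)) ?_)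
      conv_rhs => rw [e1]
      rw [hw, smul_smul, smul_smul]
      congr 1
      group
    have hxw : x • c w = c w := by
      have e : c (w * x) = c w := by rw [hc, hxH, smul_zero, add_zero]
      rw [hwx, hc, hxH, zero_add] at e
      exact e
    obtain ⟨j, hj, hjw⟩ := htrans (c w) (c y) hcw hy0
    have hjx : j * x = x * j := by
      have h1 : x * j * x⁻¹ ∈ J := hnorm x hxH j hj
      have h2 : x * j * x⁻¹ = j := by
        have := hfree (j⁻¹ * (x * j * x⁻¹)) (mul_mem (inv_mem hj) h1) (c w) hcw (by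
          rw [mul_smul, mul_smul, mul_smul, inv_smul_eq_iff.2 hxw.symm, hjw, hcy, ← hjw,
            inv_smul_smul])
        exact (inv_mul_eq_one.1 this).symm
      exact (mul_inv_eq_iff_eq_mul.1 h2).symm
    set t := j * w with ht
    have hct : c t = c y := by rw [ht, hc, hJ j hj, zero_add, hjw]
    have htx : t * x = x * t := by rw [ht, mul_assoc, hwx, ← mul_assoc, hjx, mul_assoc]
    refine hx1 (hbase x (t⁻¹ * y) hxH ((hH _).1 ((hcoset t y).2 hct)) ?_ hxodd d hd0 hxd)
    calc t⁻¹ * y * x * (t⁻¹ * y)⁻¹ = t⁻¹ * (y * x * y⁻¹) * t := by group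
      _ = x⁻¹ := by
        rw [hyinv]
        have : Commute t x⁻¹ := Commute.inv_right (show Commute t x from htx)
        rw [mul_assoc, ← this.eq, inv_mul_cancel_left]
  -- a normal `2`-subgroup acts trivially
  haveI := hN
  obtain ⟨b, hb, hb0⟩ := hN2.exists_fixed_point_of_prime_dvd_card_of_fixed_point V
    (hcard ▸ dvd_pow_self 2 hr0) (a := (0 : V)) (fun n => smul_zero (n : X))
  refine hz1 (FaithfulSMul.eq_of_smul_eq_smul (α := V) fun w => ?_)
  rw [one_smul]
  by_cases hw : w = 0
  · rw [hw, smul_zero]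
  obtain ⟨j, -, rfl⟩ := htrans b w (Ne.symm hb0) hw
  have h1 : j⁻¹ * z * j⁻¹⁻¹ ∈ N := hN.conj_mem z hzN j⁻¹
  have h2 := hb ⟨_, h1⟩
  change (j⁻¹ * z * j⁻¹⁻¹) • b = b at h2
  rw [inv_inv, mul_smul, mul_smul, inv_smul_eq_iff] at h2
  exact h2

end Add

/-- The same statement for an abelian group written multiplicatively. -/
theorem cocycle_eq_one {X V : Type*} [Group X] [Finite X] [CommGroup V] [Finite V]
    (ρ : X →* MulAut V) (hρ : Function.Injective ρ) (τ : X → V)
    (hτ : ∀ g k : X, τ (g * k) = τ g * ρ g (τ k)) (hV2 : ∀ v : V, v * v = 1) {r : ℕ}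
    (hr : Even r) (hcard : Nat.card V = 2 ^ r) (J : Subgroup X) [IsCyclic J]
    (hJcard : Nat.card J + 1 = Nat.card V)
    (htrans : ∀ v w : V, v ≠ 1 → w ≠ 1 → ∃ j ∈ J, ρ j v = w) (hJ : ∀ j ∈ J, τ j = 1)
    (hnorm : ∀ g : X, τ g = 1 → ∀ j ∈ J, g * j * g⁻¹ ∈ J) : ∀ g : X, τ g = 1 := by
  letI : DistribMulAction X (Additive V) :=
    { smul := fun g v => Additive.ofMul (ρ g (Additive.toMul v))
      one_smul := fun v => by
        show Additive.ofMul (ρ 1 (Additive.toMul v)) = v
        rw [_root_.map_one]; rfl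
      mul_smul := fun g k v => by
        show Additive.ofMul (ρ (g * k) (Additive.toMul v)) = _
        rw [map_mul]; rfl
      smul_zero := fun g => congrArg Additive.ofMul (_root_.map_one (ρ g))
      smul_add := fun g v w => congrArg Additive.ofMul (map_mul (ρ g) _ _) }
  haveI : FaithfulSMul X (Additive V) :=
    ⟨fun {g k} h => hρ (MulEquiv.ext fun v => congrArg Additive.toMul (h (Additive.ofMul v)))⟩
  intro g
  exact congrArg Additive.toMul (cocycle_eq_zero (V := Additive V)
    (fun g => Additive.ofMul (τ g)) (fun g k => congrArg Additive.ofMul (hτ g k))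
    (fun v => congrArg Additive.ofMul (hV2 (Additive.toMul v))) hr hcard J hJcard
    (fun v w hv hw => by
      obtain ⟨j, hj, e⟩ := htrans (Additive.toMul v) (Additive.toMul w)
        (fun h => hv (congrArg Additive.ofMul h)) (fun h => hw (congrArg Additive.ofMul h))
      exact ⟨j, hj, congrArg Additive.ofMul e⟩)
    (fun j hj => congrArg Additive.ofMul (hJ j hj))
    (fun g hg => hnorm g (congrArg Additive.toMul hg)) g)

end CfsgLib.LocalEven.TIEndgame.AffineTwo
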