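import Cfsg.Agent.Lib.LocalEven.TIEndgame.PairCore

/-!
# A regular group of members

When `W a` is regular on the points other than `a`, the group is `W K ∪ W K f W` for the odd core
`K = swapCore` of a pair `(a, b)` and a swapper `f`, so two-point stabilisers have odd order and no
involution is bad.
-/

set_option autoImplicit false
set_option linter.style.haveILetI false

namespace CfsgLib.LocalEven.TIEndgame

open MulAction CfsgLib.Involution

universe u v

variable {G : Type u} {Ω : Type v} [Group G] [MulAction G Ω]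

namespace TISetting

variable {W : Ω → Subgroup G} (h : TISetting W)
include h

/-- If `W a` is as large as the set of the other points it is transitive on them. -/
theorem exists_smul_eq [Finite Ω] {a b c : Ω} (hn : Nat.card Ω = Nat.card (W a) + 1)
    (hb : b ≠ a) (hc : c ≠ a) : ∃ w ∈ W a, w • b = c := by
  classical
  haveI := Fintype.ofFinite Ω
  have hne : ∀ w : W a, (w : G) • b ≠ a := fun w e => hb (by
    have := congrArg ((w : G)⁻¹ • ·) e
    simpa [inv_smul_eq_iff.2 (mem_stabilizer_iff.1 (h.fix a w.2)).symm] using this)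
  have hcard : Nat.card {x : Ω // x ≠ a} = Nat.card (W a) := by
    have h1 : Fintype.card {x : Ω // x ≠ a} = Fintype.card Ω - 1 := by
      simp [Fintype.card_subtype_compl]
    rw [Nat.card_eq_fintype_card, h1, ← Nat.card_eq_fintype_card, hn, Nat.add_sub_cancel]
  have hinj : Function.Injective fun w : W a => (⟨(w : G) • b, hne w⟩ : {x : Ω // x ≠ a}) := by
    intro w w' e
    by_contra hww
    refine hb (h.unique a ((w' : G)⁻¹ * w) (mul_mem (inv_mem w'.2) w.2) (fun e1 => hww ?_) b ?_)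
    · exact (Subtype.ext (inv_mul_eq_one.1 e1)).symm
    · rw [mul_smul, inv_smul_eq_iff]; exact congrArg Subtype.val e
  haveI : Finite (W a) := Finite.of_injective _ hinj
  obtain ⟨w, hw⟩ := (hinj.bijective_of_nat_card_le hcard.le).2 ⟨c, hc⟩
  exact ⟨w, w.2, congrArg Subtype.val hw⟩

variable [Finite G] [Finite Ω]

/-- The triangle: a member at `b` written through the odd core. -/
theorem exists_triangle {a b : Ω} (hab : a ≠ b) (hn : Nat.card Ω = Nat.card (W a) + 1)
    {f : G} (hf : f ∈ swappers (members W) a b) {e : G} (he : e ∈ W b) (he1 : e ≠ 1) :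
    ∃ d ∈ W a, ∃ k ∈ swapCore G a b, e = d * k * f * d := by
  have h1 := h.onePoint
  have heD : e ∈ members W := ⟨he1, b, he⟩
  have heb : e • b = b := mem_stabilizer_iff.1 (h.fix b he)
  have hea : e • a ≠ a := fun e' => hab (h.unique b e he he1 a e')
  obtain ⟨d, hd, hdb⟩ := h.exists_smul_eq hn hab.symm hea
  have hdi : d⁻¹ = d := inv_eq_of_mul_eq_one_right (h.sq a d hd)
  have hf' : d * e * d⁻¹ ∈ swappers (members W) a b := by
    refine ⟨h1.conj_mem d e heD, ?_⟩
    rw [mul_smul, mul_smul, hdi, mem_stabilizer_iff.1 (h.fix a hd), ← hdb, ← mul_smul,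
      h.sq a d hd, one_smul]
  refine ⟨d, hd, d * e * d⁻¹ * f, h1.mul_mem_swapCore hab hf' hf, ?_⟩
  calc e = (d * d) * e * (d * d) := by rw [h.sq a d hd, one_mul, mul_one]
    _ = d * (d * e * d⁻¹) * (f * f) * d := by rw [h1.mul_self hf.1, hdi]; group
    _ = _ := by group

/-- Every element lies in `W K` or in `W K f W`. -/
theorem exists_bruhat {a b : Ω} (hab : a ≠ b) (hn : Nat.card Ω = Nat.card (W a) + 1)
    (hgen : Subgroup.closure (members W) = ⊤) {f : G} (hf : f ∈ swappers (members W) a b) (g : G) :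
    ∃ w ∈ W a, ∃ k ∈ swapCore G a b, g = w * k ∨ ∃ w' ∈ W a, g = w * k * f * w' := by
  have h1 := h.onePoint
  let P : G → Prop := fun g => ∃ w ∈ W a, ∃ k ∈ swapCore G a b,
    g = w * k ∨ ∃ w' ∈ W a, g = w * k * f * w'
  have hff : f * f = 1 := h1.mul_self hf.1
  have hfb := h1.swap_smul hf
  have hnorm : ∀ k ∈ swapCore G a b, ∀ w ∈ W a, k * w * k⁻¹ ∈ W a := fun k hk w hw => by
    simpa [mem_stabilizer_iff.1 (swapCore_le a b hk).1] using h.conj k a w hw
  have hfk : ∀ k ∈ swapCore G a b, f * k * f ∈ swapCore G a b := fun k hk => by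
    simpa [h1.inv_eq hf.1] using conj_mem_swapCore (h1.swapper_mem_pairStab hf) hk
  have hfwf : ∀ w ∈ W a, w ≠ 1 → ∃ d ∈ W a, ∃ k ∈ swapCore G a b, f * w * f = d * k * f * d :=
    fun w hw hw1 => h.exists_triangle hab hn hf
      (by simpa [hf.2, h1.inv_eq hf.1] using h.conj f a w hw)
      (fun e => hw1 <| calc
        w = (f * f) * w * (f * f) := by rw [hff, one_mul, mul_one]
        _ = f * (f * w * f) * f := by group
        _ = 1 := by rw [e, mul_one, hff])
  have hW : ∀ d ∈ W a, ∀ x, P x → P (d * x) := by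
    rintro d hd x ⟨w, hw, k, hk, rfl | ⟨w', hw', rfl⟩⟩
    · exact ⟨d * w, mul_mem hd hw, k, hk, Or.inl (mul_assoc _ _ _).symm⟩
    · exact ⟨d * w, mul_mem hd hw, k, hk, Or.inr ⟨w', hw', by group⟩⟩
  have hF : ∀ x, P x → P (f * x) := by
    rintro x ⟨w, hw, k, hk, rfl | ⟨w', hw', rfl⟩⟩ <;> rcases eq_or_ne w 1 with rfl | hw1
    · refine ⟨1, one_mem _, f * k * f, hfk k hk, Or.inr ⟨1, one_mem _, ?_⟩⟩
      calc f * (1 * k) = f * k * (f * f) := by rw [hff]; group
        _ = _ := by group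
    · -- `f w k = d k₁ (f d f) k = d k₁ d₂ k₂ f d₂ k`
      obtain ⟨d, hd, k₁, hk₁, e1⟩ := hfwf w hw hw1
      have hd1 : d ≠ 1 := by
        rintro rfl
        have hfix : (f * w * f) • b = b := by
          rw [mul_smul, mul_smul, hfb, mem_stabilizer_iff.1 (h.fix a hw), hf.2]
        rw [e1, one_mul, mul_one, mul_smul, hfb, mem_stabilizer_iff.1 (swapCore_le a b hk₁).1] at hfix
        exact hab hfix
      obtain ⟨d₂, hd₂, k₂, hk₂, e2⟩ := hfwf d hd hd1
      refine ⟨d * (k₁ * d₂ * k₁⁻¹), mul_mem hd (hnorm k₁ hk₁ d₂ hd₂), k₁ * k₂ * (f * k * f),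
        mul_mem (mul_mem hk₁ hk₂) (hfk k hk), Or.inr ⟨k⁻¹ * d₂ * k, by
          simpa using hnorm k⁻¹ (inv_mem hk) d₂ hd₂, ?_⟩⟩
      calc f * (w * k) = (f * w * f) * f * k := by
            rw [mul_assoc (f * w) f f, hff, mul_one, mul_assoc f w k]
        _ = d * k₁ * (f * d * f) * k := by rw [e1]; group
        _ = d * (k₁ * d₂ * k₁⁻¹) * (k₁ * k₂) * f * (d₂ * k) := by rw [e2]; group
        _ = d * (k₁ * d₂ * k₁⁻¹) * (k₁ * k₂) * (f * k * (f * f)) * (k⁻¹ * d₂ * k) := by
            rw [hff]; group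
        _ = _ := by group
    · refine ⟨(f * k * f) * w' * (f * k * f)⁻¹, hnorm _ (hfk k hk) w' hw', f * k * f, hfk k hk,
        Or.inl ?_⟩
      group
    · -- `f w k f w' = d k₁ k f (k' ⁻¹ d k') w'`
      obtain ⟨d, hd, k₁, hk₁, e1⟩ := hfwf w hw hw1
      refine ⟨d, hd, k₁ * k, mul_mem hk₁ hk, Or.inr ⟨(f * k * f)⁻¹ * d * (f * k * f) * w',
        mul_mem (by simpa using hnorm _ (inv_mem (hfk k hk)) d hd) hw', ?_⟩⟩
      calc f * (w * k * f * w') = (f * w * f) * (f * k * f) * w' := by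
            rw [show f * w * f * (f * k * f) = f * w * (f * f) * k * f by group, hff]; group
        _ = d * k₁ * f * d * (f * k * f) * w' := by rw [e1]
        _ = d * k₁ * (f * (f * k * f)) * ((f * k * f)⁻¹ * d * (f * k * f)) * w' := by group
        _ = d * (k₁ * k) * f * ((f * k * f)⁻¹ * d * (f * k * f) * w') := by
            rw [show f * (f * k * f) = f * f * k * f by group, hff]; group
  have hone : P 1 := ⟨1, one_mem _, 1, one_mem _, Or.inl (one_mul 1).symm⟩
  have hmem : ∀ e ∈ members W, ∀ x, P x → P (e * x) := by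
    rintro e ⟨he1, c, hec⟩ x hx
    rcases eq_or_ne c a with rfl | hca
    · exact hW e hec x hx
    obtain ⟨w, hw, hwc⟩ := h.exists_smul_eq hn hca hab.symm
    have hwi : w⁻¹ = w := inv_eq_of_mul_eq_one_right (h.sq a w hw)
    have h2 : f * (w * e * w⁻¹) * f⁻¹ ∈ W a := by
      have := h.conj f b (w * e * w⁻¹) (hwc ▸ h.conj w c e hec)
      rwa [hfb] at this
    have heq : e * x = w⁻¹ * (f * ((f * (w * e * w⁻¹) * f⁻¹) * (f * (w * x)))) := by
      rw [h1.inv_eq hf.1]
      simp only [mul_assoc]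
      simp only [← mul_assoc f f, hff, one_mul]
      group
    rw [heq]
    exact hW _ (inv_mem hw) _ (hF _ (hW _ h2 _ (hF _ (hW w hw x hx))))
  have hg : g ∈ Subgroup.closure (members W) := hgen ▸ Subgroup.mem_top g
  exact Subgroup.closure_induction_left (p := fun x _ => P x) hone
    (fun e he y _ hy => hmem e he y hy)
    (fun e he y _ hy => by rw [h1.inv_eq he]; exact hmem e he y hy) hg

/-- The stabiliser of two points is the odd core. -/
theorem stabilizer_pair_eq {a b : Ω} (hab : a ≠ b) (hn : Nat.card Ω = Nat.card (W a) + 1)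
    (hgen : Subgroup.closure (members W) = ⊤) {g : G} (hga : g • a = a) (hgb : g • b = b) :
    g ∈ swapCore G a b := by
  have h1 := h.onePoint
  obtain ⟨d, hd⟩ := OnePoint.dat_nonempty h.covers a
  obtain ⟨e, he⟩ := OnePoint.dat_nonempty h.covers b
  obtain ⟨f, ⟨hf, -⟩, -⟩ := h1.existsUnique_swapper hd he hab
  obtain ⟨w, hw, k, hk, rfl | ⟨w', hw', rfl⟩⟩ := h.exists_bruhat hab hn hgen hf g
  · rw [mul_smul, mem_stabilizer_iff.1 (swapCore_le a b hk).2] at hgb
    rcases eq_or_ne w 1 with rfl | hw1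
    · rwa [one_mul]
    · exact absurd (h.unique a w hw hw1 b hgb) hab.symm
  · exfalso
    rw [mul_smul, mul_smul, mul_smul, mem_stabilizer_iff.1 (h.fix a hw'), hf.2,
      mem_stabilizer_iff.1 (swapCore_le a b hk).2] at hga
    refine hab ?_
    rw [← mem_stabilizer_iff.1 (h.fix a hw)] at hga
    exact (smul_left_cancel w hga).symm

/-- No involution is bad when `W a` is regular on the other points. -/
theorem not_isBad_of_regular {a : Ω} (hn : Nat.card Ω = Nat.card (W a) + 1)
    (hgen : Subgroup.closure (members W) = ⊤) (x : G) (hxa : x • a = a) : ¬ IsBad Ω x := by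
  rintro ⟨hx2, p, q, hpq, hp, hq⟩
  obtain ⟨c, hca, hxc⟩ : ∃ c, c ≠ a ∧ x • c = c := by
    rcases eq_or_ne p a with rfl | hpa
    exacts [⟨q, hpq.symm, hq⟩, ⟨p, hpa, hp⟩]
  have hmem := h.stabilizer_pair_eq hca.symm hn hgen hxa hxc
  have hdvd : 2 ∣ Nat.card (swapCore G a c) := hx2 ▸ Subgroup.orderOf_dvd_natCard _ hmem
  exact Nat.not_even_iff_odd.2 (odd_card_swapCore a c) (even_iff_two_dvd.2 hdvd)

end TISetting

end CfsgLib.LocalEven.TIEndgame
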