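import Cfsg.Agent.Lib.LocalEven.TIEndgame.Setup
import Cfsg.Agent.Lib.LocalEven.TIEndgame.Defs
import Cfsg.Agent.Lib.Involution.Basic
import Mathlib.GroupTheory.Sylow

/-!
# No moved bad involution with a unitary line

Let the bad involution `x` fix `a`, let `R` be the members at `a` commuting with `x`, of size `q`,
suppose `x` moves the members at `a` (`|W a| = q ^ 2`) and has `q ^ 3 + 1` fixed points.  A torus
element centralising `R` centralises `W a`, so the centraliser of `W a` is transitive on the line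
without `a`; a Sylow 2-subgroup there together with `W a` is a semiregular 2-group `P`, and the
coset `x P` contains `q ^ 3` involutions whose lines meet only in `a`.
-/

set_option autoImplicit false

namespace CfsgLib.LocalEven.TIEndgame

open MulAction CfsgLib.Involution

universe u

variable {G Ω : Type u} [Group G] [Finite G] [Finite Ω] [MulAction G Ω] {W : Ω → Subgroup G}

namespace TISetting

variable (h : TISetting W)
include h

omit [Finite Ω] in
/-- An involution fixing `a` is bad or a member at `a`, if products of bad involutions with the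
members they centralise are bad. -/
theorem bad_or_mem {a b : Ω} (hba : b ≠ a)
    (hmul : ∀ v : G, IsBad Ω v → v • a = a → ∀ r ∈ centredAt W v a, IsBad Ω (v * r))
    {v : G} (hv : orderOf v = 2) (hva : v • a = a) : IsBad Ω v ∨ v ∈ W a := by
  by_cases hbad : IsBad Ω v
  · exact Or.inl hbad
  have hv2 := Dihedral.mul_self hv
  have huniq : ∀ c : Ω, v • c = c → c = a := fun c hc =>
    by_contra fun hne => hbad ⟨hv, c, a, hne, hc, hva⟩
  obtain ⟨d, hdW, hd1⟩ := ((W b).bot_or_exists_ne_one).resolve_left (h.ne_bot b)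
  have hd : d ∈ moved (members W) Ω v :=
    ⟨⟨hd1, b, hdW⟩, fun c hc hvc => hba ((h.unique b d hdW hd1 c hc).symm.trans (huniq c hvc))⟩
  obtain ⟨f, ⟨⟨hfmem, hvf⟩, hfd⟩, -⟩ := h.onePoint.exists_middle_centred hv2 hd
  obtain ⟨c, hfc⟩ := h.onePoint.exists_fixed f hfmem
  have hca : c = a := huniq c (h.onePoint.centred_fixed ⟨hfmem, hvf⟩ hfc)
  rw [hca] at hfc
  have hfW : f ∈ W a := h.mem_of_fixed hfmem hfc
  have hff : f * f = 1 := h.sq a f hfW
  by_cases hvf1 : v * f = 1
  · have : v = f := (mul_eq_one_iff_eq_inv.1 hvf1).trans (inv_eq_of_mul_eq_one_right hff)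
    exact Or.inr (this.symm ▸ hfW)
  have hb : (v * f) • b = b :=
    h.onePoint.fix_of_commute ⟨hd1, b, hdW⟩ (mem_stabilizer_iff.1 (h.fix b hdW)) hfd.symm
  have hva' : (v * f) • a = a := by rw [mul_smul, hfc, hva]
  have hk2 : orderOf (v * f) = 2 := orderOf_eq_prime (by
    rw [pow_two, hvf.symm.mul_mul_mul_comm, hv2, hff, one_mul]) hvf1
  have hf' : f ∈ centredAt W (v * f) a :=
    Subgroup.mem_inf.2 ⟨hfW, Subgroup.mem_centralizer_singleton_iff.2
      ((hvf.mul_left (Commute.refl f)).symm.eq)⟩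
  have h' := hmul (v * f) ⟨hk2, b, a, hba, hb, hva'⟩ hva' f hf'
  rw [mul_assoc, hff, mul_one] at h'
  exact absurd h' hbad

omit [Finite Ω] h in
theorem eq_one_of_pow_odd_fix {g : G} {k n : ℕ} (h2 : g ^ 2 ^ k = 1) (hn : Odd n)
    (hgn : g ^ n = 1) : g = 1 := by
  have h := Nat.dvd_gcd (orderOf_dvd_of_pow_eq_one h2) (orderOf_dvd_of_pow_eq_one hgn)
  rw [Nat.Coprime.gcd_eq_one ((Nat.coprime_two_left.2 hn).pow_left k)] at h
  exact orderOf_eq_one_iff.1 (Nat.dvd_one.1 h)

omit [Finite Ω] in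
/-- A 2-element centralising `W a` and fixing `a` and another point is trivial, if every bad
involution at `a` moves a member at `a`. -/
theorem eq_one_of_fix {a : Ω}
    (hmoved : ∀ v : G, IsBad Ω v → v • a = a → ∃ w ∈ W a, ¬ Commute v w)
    {P : Subgroup G} (hP : IsPGroup 2 P) (hPa : P ≤ stabilizer G a)
    (hPW : P ≤ Subgroup.centralizer (W a : Set G))
    {c : Ω} (hc : c ≠ a) {p : G} (hp : p ∈ P) (hpc : p • c = c) : p = 1 := by
  by_contra hp1
  have hle : Subgroup.zpowers p ≤ P := Subgroup.zpowers_le.2 hp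
  have he : Even (Nat.card (Subgroup.zpowers p)) := by
    rw [Nat.card_zpowers]
    obtain ⟨k, hk⟩ := (IsPGroup.iff_orderOf.1 hP) ⟨p, hp⟩
    rw [Subgroup.orderOf_mk] at hk
    rw [hk]
    refine (Nat.even_pow).2 ⟨even_two, fun hk0 => hp1 ?_⟩
    rw [hk0, pow_zero] at hk
    exact orderOf_eq_one_iff.1 hk
  obtain ⟨t, ht, ht2⟩ := Basic.exists_involution_of_even _ he
  have hta : t • a = a := mem_stabilizer_iff.1 (hPa (hle ht))
  have htc : t • c = c :=
    mem_stabilizer_iff.1 ((Subgroup.zpowers_le.2 (mem_stabilizer_iff.2 hpc)) ht)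
  obtain ⟨w, hw, hne⟩ := hmoved t ⟨ht2, c, a, hc, htc, hta⟩ hta
  exact hne (Subgroup.mem_centralizer_iff.1 (hPW (hle ht)) w hw).symm

omit [Finite Ω] in
/-- The commutators of an involution `x` at `a` with `W a` are centred. -/
theorem comm_mem_centred {x : G} (hx : x * x = 1) {a : Ω} (hxa : x • a = a) {w : G}
    (hw : w ∈ W a) : x * w * x * w ∈ centredAt W x a := by
  have hxw : x * w * x ∈ W a := by
    have := h.conj x a w hw
    rwa [hxa, inv_eq_of_mul_eq_one_right hx] at this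
  refine Subgroup.mem_inf.2 ⟨mul_mem hxw hw, Subgroup.mem_centralizer_singleton_iff.2 ?_⟩
  have hcomm : x * w * x * w = w * (x * w * x) := (h.mul_comm_of_mem hxw hw).eq
  calc x * w * x * w * x = w * (x * w * x) * x := by rw [hcomm]
    _ = w * x * w * (x * x) := by group
    _ = x * x * (w * x * w) := by rw [hx, mul_one, one_mul]
    _ = x * (x * w * x * w) := by group

/-- Every centred member is a commutator, as `W a` has square size. -/
theorem exists_comm_eq {x : G} (hx : x * x = 1) {a : Ω} (hxa : x • a = a)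
    (hW : Nat.card (W a) = Nat.card (centredAt W x a) ^ 2) {r : G} (hr : r ∈ centredAt W x a) :
    ∃ w ∈ W a, x * w * x * w = r := by
  have hxi : x⁻¹ = x := inv_eq_of_mul_eq_one_right hx
  let φ : W a →* centredAt W x a :=
    MonoidHom.mk' (fun w => ⟨x * w * x * w, h.comm_mem_centred hx hxa w.2⟩) fun w w' => Subtype.ext (by
      have hxw' : x * w' * x ∈ W a := by
        have := h.conj x a w' w'.2
        rwa [hxa, hxi] at this
      have hc : x * (w' : G) * x * w = w * (x * w' * x) := (h.mul_comm_of_mem hxw' w.2).eq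
      show x * (w * w') * x * (w * w') = x * w * x * w * (x * w' * x * w')
      calc x * ((w : G) * w') * x * (w * w') = x * w * (x * x) * (w' * x * w * w') := by
            rw [hx]; group
        _ = x * w * x * (x * w' * x * w) * w' := by group
        _ = x * w * x * (w * (x * w' * x)) * w' := by rw [hc]
        _ = x * w * x * w * (x * w' * x * w') := by group)
  have hker : φ.ker = (centredAt W x a).subgroupOf (W a) := by
    ext w
    rw [MonoidHom.mem_ker, Subgroup.mem_subgroupOf]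
    constructor
    · intro hw
      have hw' : x * w * x * w = 1 := congrArg Subtype.val hw
      refine Subgroup.mem_inf.2 ⟨w.2, Subgroup.mem_centralizer_singleton_iff.2 ?_⟩
      calc (w : G) * x = x * x * w * x * (w * w) := by rw [hx, h.sq a w w.2]; group
        _ = x * (x * w * x * w) * w := by group
        _ = x * w := by rw [hw', mul_one]
    · intro hw
      have hc := Subgroup.mem_centralizer_singleton_iff.1 (Subgroup.mem_inf.1 hw).2
      refine Subtype.ext ?_
      show x * (w : G) * x * w = 1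
      calc x * (w : G) * x * w = x * (w * x) * w := by group
        _ = x * x * (w * w) := by rw [hc]; group
        _ = 1 := by rw [hx, h.sq a w w.2, one_mul]
  have hcard := φ.ker.card_mul_index
  rw [Subgroup.index_ker, hker, hW,
    Nat.card_congr (Subgroup.subgroupOfEquivOfLe (show centredAt W x a ≤ W a from inf_le_left)).toEquiv,
    pow_two] at hcard
  have hcard' := Nat.eq_of_mul_eq_mul_left Nat.card_pos hcard
  have hrange : φ.range = ⊤ := Subgroup.eq_top_of_card_eq _ hcard'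
  have hmem : (⟨r, hr⟩ : centredAt W x a) ∈ φ.range := hrange ▸ Subgroup.mem_top _
  obtain ⟨w, hw⟩ := hmem
  exact ⟨w, w.2, congrArg Subtype.val hw⟩

omit [Finite Ω] in
/-- An element of odd order at `a` centralising `x` and the centred members centralises `W a`. -/
theorem commute_of_centred {x : G} (hx : x * x = 1) {a : Ω} (hxa : x • a = a)
    {z : G} (hzx : Commute x z) (hza : z • a = a) {n : ℕ} (hn : Odd n) (hzn : z ^ n = 1)
    (hzr : ∀ r ∈ centredAt W x a, Commute z r) {w : G} (hw : w ∈ W a) : Commute z w := by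
  have hzw : z * w * z⁻¹ ∈ W a := by
    have := h.conj z a w hw
    rwa [hza] at this
  have hcx : x * (z * w * z⁻¹) * x * (z * w * z⁻¹) = x * w * x * w := by
    have h1 := (hzr _ (h.comm_mem_centred hx hxa hw)).eq
    calc x * (z * w * z⁻¹) * x * (z * w * z⁻¹) = x * z * w * (z⁻¹ * x) * z * w * z⁻¹ := by group
      _ = z * x * w * (x * z⁻¹) * z * w * z⁻¹ := by rw [hzx.eq, (hzx.inv_right).symm.eq]
      _ = z * (x * w * x * w) * z⁻¹ := by group
      _ = x * w * x * w := by rw [h1, mul_inv_cancel_right]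
  set r := z * w * z⁻¹ * w with hrdef
  have hrW : r ∈ W a := mul_mem hzw hw
  have hxi : x⁻¹ = x := inv_eq_of_mul_eq_one_right hx
  have hr : r ∈ centredAt W x a := by
    have hxw : x * w * x ∈ W a := by
      have := h.conj x a w hw
      rwa [hxa, hxi] at this
    have hxz : x * (z * w * z⁻¹) * x ∈ W a := by
      have := h.conj x a _ hzw
      rwa [hxa, hxi] at this
    refine Subgroup.mem_inf.2 ⟨hrW, Subgroup.mem_centralizer_singleton_iff.2 ?_⟩
    have h3 : x * r * x * r = 1 := by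
      calc x * r * x * r = x * (z * w * z⁻¹) * (x * x) * w * x * (z * w * z⁻¹) * w := by
            rw [hx, hrdef]; group
        _ = x * (z * w * z⁻¹) * x * (x * w * x * (z * w * z⁻¹)) * w := by group
        _ = x * (z * w * z⁻¹) * x * (z * w * z⁻¹ * (x * w * x)) * w := by
          rw [(h.mul_comm_of_mem hxw hzw).eq]
        _ = (x * (z * w * z⁻¹) * x * (z * w * z⁻¹)) * (x * w * x * w) := by group
        _ = (x * w * x * w) * (x * w * x * w) := by rw [hcx]
        _ = 1 := h.sq a _ (mul_mem hxw hw)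
    have h4 : x * r * x = r := by
      calc x * r * x = x * r * x * (r * r) := by rw [h.sq a r hrW, mul_one]
        _ = x * r * x * r * r := by group
        _ = r := by rw [h3, one_mul]
    calc r * x = x * r * x * x := by rw [h4]
      _ = x * r := by rw [mul_assoc (x * r), hx, mul_one]
  have hrz := hzr r hr
  have hiter : ∀ m : ℕ, z ^ m * w * (z ^ m)⁻¹ = r ^ m * w := by
    intro m
    induction m with
    | zero => simp
    | succ m ih =>
      have hzwr : z * w * z⁻¹ = r * w := by rw [hrdef, mul_assoc _ w w, h.sq a w hw, mul_one]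
      calc z ^ (m + 1) * w * (z ^ (m + 1))⁻¹ = z * (z ^ m * w * (z ^ m)⁻¹) * z⁻¹ := by
            rw [pow_succ']; group
        _ = z * r ^ m * w * z⁻¹ := by rw [ih]; group
        _ = r ^ m * (z * w * z⁻¹) := by rw [(hrz.pow_right m).eq]; group
        _ = r ^ m * (r * w) := by rw [hzwr]
        _ = r ^ (m + 1) * w := by rw [pow_succ]; group
  have h5 := hiter n
  rw [hzn, one_mul, inv_one, mul_one] at h5
  have h6 : r = 1 := eq_one_of_pow_odd_fix (k := 1) (by rw [pow_one, pow_two, h.sq a r hrW]) hn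
    (mul_eq_right.1 h5.symm)
  have h7 : z * w * z⁻¹ = w := by
    rw [mul_eq_one_iff_eq_inv.1 h6, inv_eq_of_mul_eq_one_right (h.sq a w hw)]
  exact mul_inv_eq_iff_eq_mul.1 h7

/-- A moved bad involution has no unitary line. -/
theorem false_of_moved_unitary {x : G} (hx : IsBad Ω x) {a : Ω} (hxa : x • a = a)
    (hF : Nat.card (fixedBy Ω x) = Nat.card (centredAt W x a) ^ 3 + 1)
    (hW : Nat.card (W a) = Nat.card (centredAt W x a) ^ 2)
    (htrans : ∀ b c : Ω, x • b = b → x • c = c → b ≠ a → c ≠ a →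
      ∃ g ∈ lineGroup W x, g • a = a ∧ g • b = c)
    (hsquare : ∀ g ∈ lineGroup W x, g • a = a → (∃ k : ℕ, g ^ 2 ^ k = 1) →
      ∃ r ∈ centredAt W x a, ∀ c : Ω, x • c = c → (g * g) • c = r • c)
    (htorus : ∀ b : Ω, x • b = b → b ≠ a → ∃ (z : G) (p k : ℕ), z ∈ lineGroup W x ∧ z • a = a ∧
      z • b = b ∧ p.Prime ∧ p ≠ 2 ∧ z ^ p ^ k = 1 ∧ (∀ r ∈ centredAt W x a, Commute z r) ∧
      ∀ c : Ω, x • c = c → z • c = c → c = a ∨ ∃ r ∈ centredAt W x a, r • b = c)
    (hmoved : ∀ v : G, IsBad Ω v → v • a = a → ∃ w ∈ W a, ¬ Commute v w)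
    (hmul : ∀ v : G, IsBad Ω v → v • a = a → ∀ r ∈ centredAt W v a, IsBad Ω (v * r))
    (hsize : ∀ v : G, IsBad Ω v → v • a = a →
      Nat.card (fixedBy Ω v) = Nat.card (centredAt W x a) ^ 3 + 1)
    (hn : Nat.card Ω ≤ Nat.card (centredAt W x a) ^ 6) : False := by
  classical
  have : Fact (Nat.Prime 2) := ⟨Nat.prime_two⟩
  set R := centredAt W x a with hR
  set q := Nat.card R with hq
  have hx2 : x * x = 1 := Dihedral.mul_self hx.1
  obtain ⟨b, hxb, hba⟩ : ∃ b, x • b = b ∧ b ≠ a := by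
    obtain ⟨-, c, d, hcd, hc, hd⟩ := hx
    by_cases hca : c = a
    · exact ⟨d, hd, fun e => hcd (hca.trans e.symm)⟩
    · exact ⟨c, hc, hca⟩
  -- the centralised 2-power `q`
  obtain ⟨j, hqj⟩ : ∃ j : ℕ, q = 2 ^ j := by
    have hR2 : IsPGroup 2 R := fun r => ⟨1, Subtype.ext (by
      simpa [pow_two] using h.sq a r (Subgroup.mem_inf.1 r.2).1)⟩
    exact IsPGroup.iff_card.1 hR2
  obtain ⟨X, hXdef⟩ : ∃ X : Set Ω, X = fixedBy Ω x \ {a} := ⟨_, rfl⟩
  have hmemX : ∀ {c : Ω}, c ∈ X ↔ x • c = c ∧ c ≠ a := fun {c} => by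
    rw [hXdef, Set.mem_diff, Set.mem_singleton_iff, MulAction.mem_fixedBy]
  have hX : Nat.card X = q ^ 3 := by
    rw [hXdef, Nat.card_coe_set_eq, Set.ncard_diff_singleton_of_mem
      (show a ∈ fixedBy Ω x from hxa), ← Nat.card_coe_set_eq, hF, Nat.add_sub_cancel]
  -- the line group at `a` and its part centralising `W a`
  set N := lineGroup W x ⊓ stabilizer G a with hN
  set K := N ⊓ Subgroup.centralizer (W a : Set G) with hK
  have hlx : ∀ g ∈ lineGroup W x, Commute x g := by
    intro g hg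
    have hle : lineGroup W x ≤ Subgroup.centralizer ({x} : Set G) :=
      (Subgroup.closure_le _).2 fun f hf => Subgroup.mem_centralizer_singleton_iff.2 hf.2.symm.eq
    exact (Subgroup.mem_centralizer_singleton_iff.1 (hle hg)).symm
  have hfixa : ∀ g ∈ N, g • a = a := fun g hg => mem_stabilizer_iff.1 (Subgroup.mem_inf.1 hg).2
  have hNX : ∀ g ∈ N, ∀ c ∈ X, g • c ∈ X := by
    intro g hg c hc
    obtain ⟨hcx, hca⟩ := hmemX.1 hc
    refine hmemX.2 ⟨?_, fun e => hca (smul_left_cancel g (e.trans (hfixa g hg).symm))⟩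
    rw [smul_smul, (hlx g (Subgroup.mem_inf.1 hg).1).eq, mul_smul, hcx]
  have hNK : ∀ g ∈ N, ∀ k ∈ K, g * k * g⁻¹ ∈ K := by
    intro g hg k hk
    refine Subgroup.mem_inf.2 ⟨mul_mem (mul_mem hg (Subgroup.mem_inf.1 hk).1) (inv_mem hg),
      Subgroup.mem_centralizer_iff.2 fun w hw => ?_⟩
    have hgw : g⁻¹ * w * g ∈ W a := by
      have h' := h.conj g⁻¹ a w hw
      rwa [show g⁻¹ • a = a by rw [inv_smul_eq_iff, hfixa g hg], inv_inv] at h'
    have hcw := Subgroup.mem_centralizer_iff.1 (Subgroup.mem_inf.1 hk).2 _ hgw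
    calc w * (g * k * g⁻¹) = g * (g⁻¹ * w * g * k) * g⁻¹ := by group
      _ = g * (k * (g⁻¹ * w * g)) * g⁻¹ := by rw [hcw]
      _ = g * k * g⁻¹ * w := by group
  have hRK : R ≤ K := by
    intro r hr
    obtain ⟨hrW, hrx⟩ := Subgroup.mem_inf.1 hr
    refine Subgroup.mem_inf.2 ⟨Subgroup.mem_inf.2 ⟨?_, h.fix a hrW⟩,
      Subgroup.mem_centralizer_iff.2 fun w hw => (h.mul_comm_of_mem hrW hw).symm.eq⟩
    by_cases hr1 : r = 1
    · exact hr1 ▸ one_mem _
    · exact Subgroup.subset_closure ⟨⟨hr1, a, hrW⟩,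
        (Subgroup.mem_centralizer_singleton_iff.1 hrx).symm⟩
  -- orbits of `K` on the line
  have horb : ∀ c ∈ X, orbit K c ⊆ X := by
    rintro c hc _ ⟨k, rfl⟩
    exact hNX k (Subgroup.mem_inf.1 k.2).1 c hc
  have hcardorb : ∀ c ∈ X, Nat.card (orbit K c) = Nat.card (orbit K b) := by
    intro c hc
    obtain ⟨g, hgl, hga, hgb⟩ := htrans b c hxb (hmemX.1 hc).1 hba (hmemX.1 hc).2
    have hg : g ∈ N := Subgroup.mem_inf.2 ⟨hgl, mem_stabilizer_iff.2 hga⟩
    have himg : orbit K c = (fun e : Ω => g • e) '' orbit K b := by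
      ext e
      constructor
      · rintro ⟨k, rfl⟩
        refine ⟨(g⁻¹ * k * g : G) • b, ⟨⟨g⁻¹ * k * g, ?_⟩, rfl⟩, ?_⟩
        · simpa using hNK g⁻¹ (inv_mem hg) k k.2
        · show g • ((g⁻¹ * k * g : G) • b) = (k : G) • c
          rw [smul_smul, show g * (g⁻¹ * k * g) = k * g by group, mul_smul, hgb]
      · rintro ⟨_, ⟨k, rfl⟩, rfl⟩
        refine ⟨⟨g * k * g⁻¹, hNK g hg k k.2⟩, ?_⟩
        show (g * k * g⁻¹ : G) • c = g • ((k : G) • b)
        rw [smul_smul, ← hgb, smul_smul, show g * k * g⁻¹ * g = g * k by group]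
    rw [himg, Nat.card_image_of_injective (MulAction.injective g)]
  have hbX : b ∈ X := hmemX.2 ⟨hxb, hba⟩
  have hdvd : Nat.card (orbit K b) ∣ q ^ 3 := by
    haveI : Fintype X := Fintype.ofFinite _
    rw [← hX, Nat.card_eq_fintype_card (α := X), ← Finset.card_univ,
      Finset.card_eq_sum_card_image (fun c : X => orbit K (c : Ω))]
    refine Finset.dvd_sum fun O hO => ?_
    obtain ⟨c, -, rfl⟩ := Finset.mem_image.1 hO
    refine Eq.dvd ?_
    rw [← hcardorb c c.2, ← Nat.card_eq_finsetCard]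
    refine Nat.card_congr
      { toFun := fun e => ⟨⟨e.1, horb c c.2 e.2⟩, Finset.mem_filter.2
          ⟨Finset.mem_univ _, MulAction.orbit_eq_iff.2 e.2⟩⟩
        invFun := fun e => ⟨(e.1 : Ω), MulAction.orbit_eq_iff.1 (Finset.mem_filter.1 e.2).2⟩
        left_inv := fun _ => rfl
        right_inv := fun _ => rfl }
  -- the torus element forces transitivity
  obtain ⟨z, p, k, hzl, hza, hzb, hp, hp2, hzk, hzR, hzfix⟩ := htorus b hxb hba
  have hodd : Odd (p ^ k) := (hp.odd_of_ne_two hp2).pow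
  have hzK : z ∈ K := Subgroup.mem_inf.2 ⟨Subgroup.mem_inf.2 ⟨hzl, mem_stabilizer_iff.2 hza⟩,
    Subgroup.mem_centralizer_iff.2 fun w hw =>
      (h.commute_of_centred hx2 hxa (hlx z hzl) hza hodd hzk hzR hw).symm.eq⟩
  have hXorb : X ⊆ orbit K b := by
    intro c hc
    haveI : Fact p.Prime := ⟨hp⟩
    have hZ : IsPGroup p (Subgroup.zpowers z) :=
      IsPGroup.of_card_dvd_pow (n := k) ((Nat.card_zpowers z).symm ▸ orderOf_dvd_of_pow_eq_one hzk)
    letI : MulAction (Subgroup.zpowers z) (orbit K c) :=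
      { smul := fun g e => ⟨(g : G) • (e : Ω), by
          obtain ⟨l, hl⟩ := e.2
          refine ⟨(⟨g, (Subgroup.zpowers_le.2 hzK) g.2⟩ : K) * l, ?_⟩
          rw [← hl]
          exact mul_smul (g : G) (l : G) c⟩
        one_smul := fun e => Subtype.ext (one_smul G (e : Ω))
        mul_smul := fun g g' e => Subtype.ext (mul_smul (g : G) (g' : G) (e : Ω)) }
    have hnd : ¬ p ∣ Nat.card (orbit K c) := by
      rw [hcardorb c hc]
      intro hpd
      have h' := hpd.trans hdvd
      rw [hqj, ← pow_mul] at h'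
      exact hp2 ((Nat.prime_dvd_prime_iff_eq hp Nat.prime_two).1 (hp.dvd_of_dvd_pow h'))
    haveI : Nonempty (orbit K c) := ⟨⟨c, mem_orbit_self c⟩⟩
    obtain ⟨e, he⟩ := hZ.nonempty_fixed_point_of_prime_not_dvd_card (orbit K c) hnd
    have hze : z • (e : Ω) = e := congrArg Subtype.val (he ⟨z, Subgroup.mem_zpowers z⟩)
    obtain ⟨hex, hea⟩ := hmemX.1 (horb c hc e.2)
    obtain hea' | ⟨r, hr, hrb⟩ := hzfix e hex hze
    · exact absurd hea' hea
    · have h1 : (e : Ω) ∈ orbit K b := ⟨⟨r, hRK hr⟩, hrb⟩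
      rw [← MulAction.orbit_eq_iff.2 h1, MulAction.orbit_eq_iff.2 e.2]
      exact mem_orbit_self c
  have horbb : Nat.card (orbit K b) = q ^ 3 := by
    rw [← hX, Set.Subset.antisymm (horb b hbX) hXorb]
  -- the semiregular 2-group
  let S₀ : Sylow 2 K := default
  set S := (S₀ : Subgroup K).map K.subtype with hS
  have hS2 : IsPGroup 2 S := S₀.isPGroup'.map _
  have hSK : S ≤ K := Subgroup.map_subtype_le _
  have hKa : K ≤ stabilizer G a := fun g hg => (Subgroup.mem_inf.1 (Subgroup.mem_inf.1 hg).1).2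
  have hKW : K ≤ Subgroup.centralizer (W a : Set G) := inf_le_right
  have hScard : q ^ 3 ≤ Nat.card S := by
    have hd : q ^ 3 ∣ Nat.card K := by
      rw [← horbb, Nat.card_congr (MulAction.orbitEquivQuotientStabilizer K b)]
      exact Subgroup.index_dvd_card _
    rw [hS, Nat.card_congr ((S₀ : Subgroup K).equivMapOfInjective _ K.subtype_injective).toEquiv.symm]
    rw [hqj, ← pow_mul] at hd ⊢
    exact Nat.le_of_dvd Nat.card_pos (S₀.pow_dvd_card_of_pow_dvd_card hd)
  have hWn : S ≤ Subgroup.normalizer (W a : Set G) :=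
    fun s hs => h.le_normalizer a (hKa (hSK hs))
  have hP : IsPGroup 2 ↥(S ⊔ W a) := hS2.to_sup_of_normal_right'
    (fun w => ⟨1, Subtype.ext (by simpa [pow_two] using h.sq a w w.2)⟩) hWn
  set P := S ⊔ W a with hPdef
  have hWW : W a ≤ Subgroup.centralizer (W a : Set G) := fun w hw =>
    Subgroup.mem_centralizer_iff.2 fun w' hw' => (h.mul_comm_of_mem hw' hw).eq
  have hPa : P ≤ stabilizer G a := sup_le (hSK.trans hKa) (h.fix a)
  have hPW : P ≤ Subgroup.centralizer (W a : Set G) := sup_le (hSK.trans hKW) hWW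
  -- squares of elements of `S` are centred members
  have hsq : ∀ s ∈ S, s * s ∈ R := by
    intro s hs
    obtain ⟨l, hl⟩ := hS2 ⟨s, hs⟩
    have hsN := (Subgroup.mem_inf.1 (hSK hs)).1
    obtain ⟨r, hr, hrc⟩ := hsquare s (Subgroup.mem_inf.1 hsN).1 (hfixa s hsN)
      ⟨l, by simpa using congrArg Subtype.val hl⟩
    have hrW := (Subgroup.mem_inf.1 hr).1
    have h1 : r * (s * s) = 1 := by
      refine h.eq_one_of_fix hmoved hP hPa hPW hba
        (mul_mem (Subgroup.mem_sup_right hrW)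
          (mul_mem (Subgroup.mem_sup_left hs) (Subgroup.mem_sup_left hs))) ?_
      rw [mul_smul, hrc b hxb, smul_smul, h.sq a r hrW, one_smul]
    rw [show s * s = r from (eq_inv_of_mul_eq_one_right h1).trans
      (inv_eq_of_mul_eq_one_right (h.sq a r hrW))]
    exact hr
  choose f₀ hf₀W hf₀ using fun r : R => h.exists_comm_eq hx2 hxa hW r.2
  let f : S → G := fun s => f₀ ⟨_, hsq s s.2⟩
  have hfW : ∀ s : S, f s ∈ W a := fun s => hf₀W _
  have hf : ∀ s : S, x * f s * x * f s = (s : G) * s := fun s => hf₀ _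
  -- the involutions
  set v : S → G := fun s => x * (f (s) * s) with hv
  have hxP : x ∉ P := fun hxP => by
    obtain ⟨w, hw, hne⟩ := hmoved x hx hxa
    exact hne (Subgroup.mem_centralizer_iff.1 (hPW hxP) w hw).symm
  have hpP : ∀ s : S, f s * (s : G) ∈ P :=
    fun s => mul_mem (Subgroup.mem_sup_right (hfW s)) (Subgroup.mem_sup_left s.2)
  have hv2 : ∀ s : S, v s * v s = 1 := by
    intro s
    have hsx : Commute x (s : G) := hlx _ (Subgroup.mem_inf.1 (Subgroup.mem_inf.1 (hSK s.2)).1).1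
    have hsw : Commute (s : G) (f s) :=
      (Subgroup.mem_centralizer_iff.1 (hKW (hSK s.2)) _ (hfW s)).symm
    have hrr := h.sq a _ (Subgroup.mem_inf.1 (hsq s s.2)).1
    show x * (f s * s) * (x * (f s * s)) = 1
    calc x * (f s * (s : G)) * (x * (f s * s)) = x * f s * ((s : G) * x) * f s * s := by group
      _ = x * f s * (x * s) * f s * s := by rw [hsx.eq]
      _ = x * f s * x * (s * f s) * s := by group
      _ = x * f s * x * f s * ((s : G) * s) := by rw [hsw.eq]; group
      _ = 1 := by rw [hf s, hrr]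
  have hva : ∀ s : S, v s • a = a := fun s => by
    show (x * (f s * (s : G))) • a = a
    rw [mul_smul, mem_stabilizer_iff.1 (hPa (hpP s)), hxa]
  have hvbad : ∀ s : S, IsBad Ω (v s) := by
    intro s
    have hnP : v s ∉ P := fun hvP => hxP (by
      have h' := mul_mem hvP (inv_mem (hpP s))
      rwa [mul_inv_cancel_right] at h')
    refine (h.bad_or_mem hba hmul (orderOf_eq_prime ?_ fun e => hnP (by rw [e]; exact one_mem _)) (hva s)).resolve_right
      fun hmem => hnP (Subgroup.mem_sup_right hmem)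
    rw [pow_two, hv2 s]
  -- their lines
  obtain ⟨A, hA⟩ : ∃ A : S → Set Ω, ∀ s, A s = fixedBy Ω (v s) \ {a} := ⟨_, fun _ => rfl⟩
  have hAcard : ∀ s, Nat.card (A s) = q ^ 3 := fun s => by
    rw [hA, Nat.card_coe_set_eq, Set.ncard_diff_singleton_of_mem
      (show a ∈ fixedBy Ω (v s) from hva s), ← Nat.card_coe_set_eq, hsize _ (hvbad s) (hva s),
      Nat.add_sub_cancel]
  have hAmem : ∀ {s : S} {c : Ω}, c ∈ A s → v s • c = c ∧ c ≠ a := fun {s c} hc => by
    rw [hA, Set.mem_diff, Set.mem_singleton_iff, MulAction.mem_fixedBy] at hc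
    exact hc
  let ι : (Σ s : S, A s) → {c : Ω // c ≠ a} := fun e => ⟨e.2, (hAmem e.2.2).2⟩
  have hinj : Function.Injective ι := by
    rintro ⟨s, c, hc⟩ ⟨s', c', hc'⟩ hcc
    obtain rfl : c = c' := congrArg Subtype.val hcc
    obtain ⟨hsc, hca⟩ := hAmem hc
    obtain ⟨hsc', -⟩ := hAmem hc'
    have hps : f s * (s : G) = f s' * (s' : G) := by
      refine eq_of_inv_mul_eq_one (h.eq_one_of_fix hmoved hP hPa hPW hca
        (mul_mem (inv_mem (hpP s)) (hpP s')) ?_)
      have h1 : (f s * (s : G))⁻¹ * (f s' * s') = (v s)⁻¹ * v s' := by rw [hv]; group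
      rw [h1, mul_smul, hsc', inv_smul_eq_iff, hsc]
    have hrmem : (f s')⁻¹ * f s = (s' : G) * (s : G)⁻¹ := by
      calc (f s')⁻¹ * f s = (f s')⁻¹ * (f s * (s : G)) * (s : G)⁻¹ := by group
        _ = (f s')⁻¹ * (f s' * (s' : G)) * (s : G)⁻¹ := by rw [hps]
        _ = (s' : G) * (s : G)⁻¹ := by group
    set r := (s' : G) * (s : G)⁻¹ with hrdef
    have hrW : r ∈ W a := hrmem ▸ mul_mem (inv_mem (hfW s')) (hfW s)
    have hrs : Commute r (s : G) := Subgroup.mem_centralizer_iff.1 (hKW (hSK s.2)) r hrW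
    have hs' : (s' : G) = r * s := by rw [hrdef, inv_mul_cancel_right]
    have hsqeq : (s' : G) * s' = s * s := by
      rw [hs', hrs.symm.mul_mul_mul_comm, h.sq a r hrW, one_mul]
    have hff : f s = f s' := congrArg f₀ (Subtype.ext hsqeq.symm)
    have hss : s = s' := Subtype.ext (by rw [hff] at hps; exact mul_left_cancel hps)
    subst hss
    rfl
  have hle := Nat.card_le_card_of_injective ι hinj
  haveI : Fintype S := Fintype.ofFinite _
  rw [Nat.card_sigma, Finset.sum_congr rfl (fun s _ => hAcard s), Finset.sum_const,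
    Finset.card_univ, smul_eq_mul, ← Nat.card_eq_fintype_card] at hle
  have h1 : q ^ 6 ≤ Nat.card {c : Ω // c ≠ a} :=
    le_trans (by rw [show q ^ 6 = q ^ 3 * q ^ 3 by ring]; exact Nat.mul_le_mul_right _ hScard) hle
  have h2 : Nat.card {c : Ω // c ≠ a} < Nat.card Ω := Finite.card_subtype_lt (x := a) (by simp)
  omega

open scoped commutatorElement in
/-- A moved bad involution has no unitary line, given the local data of its centraliser. -/
theorem false_of_moved_unitary_loc {x : G} (hx : IsBad Ω x) {a : Ω} (hxa : x • a = a)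
    (hF : Nat.card (fixedBy Ω x) = Nat.card (centredAt W x a) ^ 3 + 1)
    (hW : Nat.card (W a) = Nat.card (centredAt W x a) ^ 2)
    (hloc : ∃ Q : Subgroup G, Loc W (Subgroup.centralizer {x}) a Q ∧
      ∀ b ∈ pts W (Subgroup.centralizer {x}), b ≠ a → ∃ J : Subgroup G,
        Torus W (Subgroup.centralizer {x}) a b Q J ∧
        (Nat.card Q = Nat.card ↥(W a ⊓ Subgroup.centralizer {x}) ^ 3 →
          ∃ w, Rot W (Subgroup.centralizer {x}) a b Q J w))
    (hmoved : ∀ v : G, IsBad Ω v → v • a = a → ∃ w ∈ W a, ¬ Commute v w)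
    (hmul : ∀ v : G, IsBad Ω v → v • a = a → ∀ r ∈ centredAt W v a, IsBad Ω (v * r))
    (hsize : ∀ v : G, IsBad Ω v → v • a = a →
      Nat.card (fixedBy Ω v) = Nat.card (centredAt W x a) ^ 3 + 1)
    (hn : Nat.card Ω ≤ Nat.card (centredAt W x a) ^ 6) : False := by
  classical
  obtain ⟨Q, hQ, hJ⟩ := hloc
  have hcore : core W (Subgroup.centralizer {x}) = lineGroup W x := core_centralizer x
  have hpts : pts W (Subgroup.centralizer {x}) = {c : Ω | x • c = c} := h.pts_centralizer hx.1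
  have hQl : ∀ g ∈ Q, g ∈ lineGroup W x ∧ g • a = a := fun g hg => by
    obtain ⟨h1, h2⟩ := Subgroup.mem_inf.1 (hQ.le hg)
    exact ⟨hcore ▸ h1, mem_stabilizer_iff.1 h2⟩
  have hQH : ∀ g ∈ Q, g ∈ Subgroup.centralizer ({x} : Set G) := fun g hg =>
    (Subgroup.closure_le _).2 (fun d hd => hd.2) (Subgroup.mem_inf.1 (hQ.le hg)).1
  have hreg : ∀ b c : Ω, x • b = b → b ≠ a → x • c = c → c ≠ a →
      ∃! g : G, g ∈ Q ∧ g • b = c := fun b c hb hba hc hca =>
    hQ.regular b (hpts ▸ hb) hba c (hpts ▸ hc) hca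
  refine h.false_of_moved_unitary hx hxa hF hW (fun b c hb hc hba hca => ?_) (fun g hg hga hg2 => ?_)
    (fun b hb hba => ?_) hmoved hmul hsize hn
  · obtain ⟨g, ⟨hgQ, hgb⟩, -⟩ := hreg b c hb hba hc hca
    exact ⟨g, (hQl g hgQ).1, (hQl g hgQ).2, hgb⟩
  · have hgQ := hQ.mem_of_two g (hcore.symm ▸ hg) hga hg2
    exact ⟨g * g, Subgroup.mem_inf.2 ⟨hQ.sq_mem g hgQ, mul_mem (hQH g hgQ) (hQH g hgQ)⟩,
      fun c _ => rfl⟩
  · obtain ⟨J, -, hrot⟩ := hJ b (hpts ▸ hb) hba
    -- `Q` is regular on the line without `a`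
    have hcard : Nat.card Q = Nat.card ↥(W a ⊓ Subgroup.centralizer {x}) ^ 3 := by
      have hX : Nat.card ↥(fixedBy Ω x \ {a}) = Nat.card (centredAt W x a) ^ 3 := by
        rw [Nat.card_coe_set_eq, Set.ncard_diff_singleton_of_mem
          (show a ∈ fixedBy Ω x from hxa), ← Nat.card_coe_set_eq, hF, Nat.add_sub_cancel]
      refine Eq.trans ?_ hX
      refine Nat.card_eq_of_bijective (fun g : Q => (⟨(g : G) • b, ?_, ?_⟩ :
        ↥(fixedBy Ω x \ {a}))) ⟨fun g g' hgg => ?_, fun c => ?_⟩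
      · show x • ((g : G) • b) = (g : G) • b
        rw [smul_smul, ← Subgroup.mem_centralizer_singleton_iff.1 (hQH g g.2), mul_smul, hb]
      · exact fun e => hba (smul_left_cancel (g : G)
          ((Set.mem_singleton_iff.1 e).trans (hQl g g.2).2.symm))
      · obtain ⟨k, -, huniq⟩ := hreg b ((g : G) • b) hb hba
          (by rw [smul_smul, ← Subgroup.mem_centralizer_singleton_iff.1 (hQH g g.2), mul_smul, hb])
          (fun e => hba (smul_left_cancel (g : G) (e.trans (hQl g g.2).2.symm)))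
        exact Subtype.ext ((huniq g ⟨g.2, rfl⟩).trans
          (huniq g' ⟨g'.2, (congrArg Subtype.val hgg).symm⟩).symm)
      · obtain ⟨k, ⟨hkQ, hkb⟩, -⟩ := hreg b c hb hba c.2.1 c.2.2
        exact ⟨⟨k, hkQ⟩, Subtype.ext hkb⟩
    obtain ⟨w, hw⟩ := hrot hcard
    obtain ⟨p, k, hp, hp2, -, ho⟩ := hw.prime
    refine ⟨w, p, k, hcore ▸ hw.mem, hw.fix_a, hw.fix_b, hp, hp2,
      by rw [← ho, pow_orderOf_eq_one], hw.central, fun c hc hwc => ?_⟩
    · by_cases hca : c = a
      · exact Or.inl hca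
      obtain ⟨g, ⟨hgQ, hgb⟩, huniq⟩ := hreg b c hb hba hc hca
      have hwH : w ∈ Subgroup.centralizer ({x} : Set G) :=
        (Subgroup.closure_le _).2 (fun d hd => hd.2) hw.mem
      have hconj : w * g * w⁻¹ = g := huniq _ ⟨hQ.normal w hwH hw.fix_a g hgQ, by
        rw [mul_smul, mul_smul, inv_smul_eq_iff.2 hw.fix_b.symm, hgb, hwc]⟩
      have hgW : g ∈ W a := hw.fpf g hgQ (by
        rw [commutatorElement_def, hconj, mul_inv_cancel]; exact one_mem _)
      exact Or.inr ⟨g, Subgroup.mem_inf.2 ⟨hgW, hQH g hgQ⟩, hgb⟩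

end TISetting

end CfsgLib.LocalEven.TIEndgame
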