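import Cfsg.Agent.Lib.LocalEven.TIEndgame.Classify
import Cfsg.Agent.Lib.LocalEven.TIEndgame.Defs
import Cfsg.Agent.Lib.LocalEven.TIEndgame.MovedLinear
import Cfsg.Agent.Lib.LocalEven.TIEndgame.MovedUnitary
import Cfsg.Agent.Lib.LocalEven.TIEndgame.Reductions
import Cfsg.Agent.Lib.LocalEven.TIEndgame.Reduction
import Mathlib.Tactic.Linarith

/-!
# Theorem T: assembly

The induction step follows from the local data at the centralisers of bad involutions and the
contradiction in the centred case.
-/

set_option autoImplicit false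

namespace CfsgLib.LocalEven.TIEndgame

open MulAction

universe u

variable {G Ω : Type u} [Group G] [Finite G] [Finite Ω] [MulAction G Ω]

/-- The local data at every bad involution and each of its points. -/
def LocHyp (W : Ω → Subgroup G) : Prop :=
  ∀ (x : G) (a : Ω), IsBad Ω x → x • a = a →
    ∃ Q : Subgroup G, Loc W (Subgroup.centralizer {x}) a Q ∧
      ∀ b ∈ pts W (Subgroup.centralizer {x}), b ≠ a → ∃ J : Subgroup G,
        Torus W (Subgroup.centralizer {x}) a b Q J ∧
        (Nat.card Q = Nat.card ↥(W a ⊓ Subgroup.centralizer {x}) ^ 3 →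
          ∃ w, Rot W (Subgroup.centralizer {x}) a b Q J w)

variable [FaithfulSMul G Ω] {W : Ω → Subgroup G}

/-- The moved configurations are impossible. -/
theorem TIMin.false_of_moved (h : TIMin G Ω W) (hloc : LocHyp W) {q i : ℕ}
    (hc : MovedConfig W q i) {x : G} (hx : IsBad Ω x) : False := by
  obtain ⟨-, a, -, -, hxa, -⟩ := id hx
  rcases hc.index with rfl | rfl
  · exact h.toTISetting.not_isBad_of_regular (a := a)
      (by rw [hc.card_linear rfl, hc.card_W]) h.gen x hxa hx
  · have hq : Nat.card (centredAt W x a) = q := hc.card_centred x a hx hxa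
    refine h.toTISetting.false_of_moved_unitary_loc hx hxa (by rw [hc.card_fixed x hx, hq])
      (by rw [hc.card_W, hq]) (hloc x a hx hxa) (fun v hv hva => ?_) (fun v hv hva => hc.bad_mul v a hv hva)
      (fun v hv _ => by rw [hc.card_fixed v hv, hq]) ?_
    · by_contra hall
      push Not at hall
      have h1 : centredAt W v a = W a := le_antisymm inf_le_left fun y hy =>
        Subgroup.mem_inf.2 ⟨hy, Subgroup.mem_centralizer_singleton_iff.2 (hall y hy).symm.eq⟩
      have h2 := hc.card_centred v a hv hva
      rw [h1, hc.card_W] at h2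
      nlinarith [hc.four]
    · rw [hc.card_unitary rfl, hq]
      obtain ⟨d, rfl⟩ : ∃ d, q = d + 4 := ⟨q - 4, by have := hc.four; omega⟩
      have h3 : (d + 4) ^ 2 - 2 * (d + 4) + 2 = d * d + 6 * d + 10 := by
        have : (d + 4) ^ 2 = d * d + 6 * d + 8 + 2 * (d + 4) := by ring
        omega
      rw [h3]
      nlinarith [Nat.one_le_pow 4 (d + 4) (by omega)]

/-- The induction step. -/
theorem TIMin.noBad (h : TIMin G Ω W) (hloc : LocHyp W) (hline : LineHyp W)
    (hcent : ∀ w i : ℕ, CentredConfig W w i → ∀ x : G, IsBad Ω x → False) : NoBad G Ω := by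
  intro x hx
  rcases h.toTISetting.classify hline hx with ⟨w, i, hc⟩ | ⟨q, i, hc⟩
  · exact hcent w i hc x hx
  · exact h.false_of_moved hloc hc hx

omit [Finite G] [Finite Ω] [MulAction G Ω] [FaithfulSMul G Ω] in
/-- The induction step, given the local data and the centred case for every least configuration. -/
theorem tiStep_of
    (hloc : ∀ (G : Type u) [Group G] [Finite G] (Ω : Type u) [Finite Ω] [MulAction G Ω]
      [FaithfulSMul G Ω] (W : Ω → Subgroup G), TIMin G Ω W → LocHyp W ∧ LineHyp W)
    (hcent : ∀ (G : Type u) [Group G] [Finite G] (Ω : Type u) [Finite Ω] [MulAction G Ω]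
      [FaithfulSMul G Ω] (W : Ω → Subgroup G), TIMin G Ω W → LocHyp W →
        ∀ w i : ℕ, CentredConfig W w i → ∀ x : G, IsBad Ω x → False) :
    TIStep.{u} := fun G _ _ Ω _ _ _ W h =>
  h.noBad (hloc G Ω W h).1 (hloc G Ω W h).2 (hcent G Ω W h (hloc G Ω W h).1)

end CfsgLib.LocalEven.TIEndgame
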