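import Cfsg.Agent.Lib.LocalEven.TIEndgame.Clean

/-!
# The core of the centraliser of a bad involution is proper
-/

set_option autoImplicit false

namespace CfsgLib.LocalEven.TIEndgame

open MulAction

universe u

variable {G Ω : Type u} [Group G] [Finite G] [Finite Ω] [MulAction G Ω] [FaithfulSMul G Ω]
  {W : Ω → Subgroup G}

omit [Finite Ω] in
/-- A bad involution is not centralised by all the members. -/
theorem TISetting.core_centralizer_ne_top (h : TISetting W) {x : G} (hx : IsBad Ω x) :
    core W (Subgroup.centralizer {x}) ≠ ⊤ := by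
  intro htop
  obtain ⟨hx2, a, -, -, hxa, -⟩ := hx
  have hfix : ∀ c : Ω, x • c = c := by
    intro c
    obtain ⟨g, hg⟩ := h.onePoint.exists_move h.covers a c
    have hgx : g * x = x * g :=
      Subgroup.mem_centralizer_singleton_iff.1 (core_le W _ (htop ▸ Subgroup.mem_top g))
    rw [← hg, smul_smul, ← hgx, mul_smul, hxa]
  exact CfsgLib.Involution.Dihedral.ne_one hx2
    (eq_of_smul_eq_smul fun c : Ω => by rw [hfix c, one_smul])

/-- Every involution in the core of a bad involution fixing two fixed points fixes them all. -/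
theorem TIMin.fix_line (h : TIMin G Ω W) {x : G} (hx : IsBad Ω x) {z : G}
    (hz : z ∈ core W (Subgroup.centralizer {x})) (hz2 : z * z = 1) {a b : Ω} (ha : x • a = a)
    (hb : x • b = b) (hab : a ≠ b) (hza : z • a = a) (hzb : z • b = b) {c : Ω} (hc : x • c = c) :
    z • c = c :=
  have hp := h.toTISetting.pts_centralizer (z := x) hx.1
  h.toTISetting.fix_pts_of_below h.below (h.toTISetting.core_centralizer_ne_top hx) hz hz2
    (hp.symm ▸ ha) (hp.symm ▸ hb) hab hza hzb c (hp.symm ▸ hc)

end CfsgLib.LocalEven.TIEndgame
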