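import Cfsg.Agent.Lib.LocalEven.TIEndgame.OddIndexTransfer
import Mathlib.GroupTheory.FiniteAbelian.Basic
import Mathlib.LinearAlgebra.Determinant
import Mathlib.LinearAlgebra.FreeModule.StrongRankCondition

/-!
# The determinant of the automorphisms of a homocyclic group of exponent four

A finite abelian group of exponent four in which every involution is a square is a free module
over `ZMod 4`. If its rank is odd, the determinant takes the value `-1` on inversion, so a
subgroup normalising such a group has a homomorphism to `(ZMod 4)ˣ` which is `-1` on the elements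
inverting it and `1` on those centralising it.
-/

set_option autoImplicit false

namespace CfsgLib.LocalEven.TIEndgame.DetFour

/-- A finite abelian group of exponent four in which every involution is a square is free over
`ZMod 4`. -/
theorem exists_free_equiv (E : Type*) [CommGroup E] [Finite E] (h4 : ∀ x : E, x ^ 4 = 1)
    (hsq : ∀ x : E, x * x = 1 → ∃ y, y * y = x) :
    ∃ (ι : Type) (_ : Fintype ι), Nonempty (E ≃* Multiplicative (ι → ZMod 4)) := by
  classical
  obtain ⟨ι, hι, n, hn, ⟨e⟩⟩ := CommGroup.equiv_prod_multiplicative_zmod_of_finite E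
  have hdvd : ∀ i, n i ∣ 4 := fun i => by
    have h := h4 (e.symm (Pi.mulSingle i (Multiplicative.ofAdd (1 : ZMod (n i)))))
    rw [← map_pow, MulEquiv.map_eq_one_iff] at h
    have h1 := congrArg Multiplicative.toAdd (congrFun h i)
    rw [Pi.pow_apply, Pi.mulSingle_eq_same, toAdd_pow, toAdd_ofAdd, Pi.one_apply, toAdd_one,
      nsmul_one] at h1
    exact (ZMod.natCast_eq_zero_iff _ _).1 h1
  have hne : ∀ i, n i ≠ 2 := fun i h2 => by
    set x : (j : ι) → Multiplicative (ZMod (n j)) :=
      Pi.mulSingle i (Multiplicative.ofAdd (1 : ZMod (n i))) with hx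
    have htwo : ∀ z : Multiplicative (ZMod (n i)), z * z = 1 := by
      intro z
      refine Multiplicative.toAdd.injective ?_
      rw [toAdd_mul, toAdd_one, ← two_mul]
      have : (2 : ZMod (n i)) = 0 := by
        exact_mod_cast (ZMod.natCast_eq_zero_iff 2 (n i)).2 (dvd_of_eq h2)
      rw [this, zero_mul]
    have hxx : e.symm x * e.symm x = 1 := by
      rw [← map_mul, MulEquiv.map_eq_one_iff]
      funext j
      rcases eq_or_ne j i with rfl | hji
      · exact htwo _
      · simp [hx, Pi.mulSingle_eq_of_ne hji]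
    obtain ⟨y, hy⟩ := hsq _ hxx
    have hz := congrFun (congrArg e hy) i
    rw [map_mul, MulEquiv.apply_symm_apply, Pi.mul_apply, htwo, hx, Pi.mulSingle_eq_same] at hz
    have h01 := congrArg Multiplicative.toAdd hz
    rw [toAdd_one, toAdd_ofAdd] at h01
    have : Fact (1 < n i) := ⟨hn i⟩
    exact one_ne_zero h01.symm
  have h4' : ∀ i, n i = 4 := fun i => by
    have h1 := hn i
    have h2 := hne i
    have h3 := hdvd i
    have h5 := Nat.le_of_dvd (by norm_num) h3
    interval_cases hk : n i <;> omega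
  refine ⟨ι, hι, ⟨e.trans ?_⟩⟩
  exact (MulEquiv.piCongrRight fun i =>
    AddEquiv.toMultiplicative (ZMod.ringEquivCongr (h4' i)).toAddEquiv).trans
    (MulEquiv.piMultiplicative fun _ : ι => ZMod 4).symm

/-- The determinant on the automorphism group, with value `-1` at inversion for odd rank. -/
theorem exists_det (E : Type*) [CommGroup E] [Finite E] (h4 : ∀ x : E, x ^ 4 = 1)
    (hsq : ∀ x : E, x * x = 1 → ∃ y, y * y = x) {r : ℕ} (hcard : Nat.card E = 4 ^ r)
    (hr : Odd r) :
    ∃ χ : MulAut E →* (ZMod 4)ˣ, ∀ α : MulAut E, (∀ x, α x = x⁻¹) → χ α = -1 := by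
  classical
  obtain ⟨ι, hι, ⟨e⟩⟩ := exists_free_equiv E h4 hsq
  have hιr : Fintype.card ι = r := by
    rw [Nat.card_congr (e.toEquiv.trans Multiplicative.toAdd), Nat.card_fun, Nat.card_zmod,
      Nat.card_eq_fintype_card] at hcard
    exact Nat.pow_right_injective (by norm_num : 2 ≤ 4) hcard
  let L : MulAut E →* Module.End (ZMod 4) (ι → ZMod 4) :=
    { toFun := fun α => AddMonoidHom.toZModLinearMap 4
        ({ toFun := fun v => (e (α (e.symm (Multiplicative.ofAdd v)))).toAdd
           map_zero' := by simp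
           map_add' := fun v w => by simp } : (ι → ZMod 4) →+ (ι → ZMod 4))
      map_one' := LinearMap.ext fun v => by simp
      map_mul' := fun α β => LinearMap.ext fun v => by simp }
  have : Fact (1 < 4) := ⟨by norm_num⟩
  refine ⟨((LinearMap.det).comp L).toHomUnits, fun α hα => Units.ext ?_⟩
  have hL : L α = (-1 : ZMod 4) • (LinearMap.id : (ι → ZMod 4) →ₗ[ZMod 4] (ι → ZMod 4)) :=
    LinearMap.ext fun v => by
      show (e (α (e.symm (Multiplicative.ofAdd v)))).toAdd = (-1 : ZMod 4) • v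
      rw [hα, map_inv, MulEquiv.apply_symm_apply, toAdd_inv, toAdd_ofAdd, neg_one_smul]
  show LinearMap.det (L α) = ((-1 : (ZMod 4)ˣ) : ZMod 4)
  rw [hL, LinearMap.det_smul, LinearMap.det_id, mul_one, Module.finrank_pi, hιr, hr.neg_one_pow,
    Units.val_neg, Units.val_one]

/-- The determinant on a subgroup normalising a homocyclic group of exponent four and odd rank. -/
theorem exists_hom {G : Type*} [Group G] [Finite G] (E S : Subgroup G)
    (hab : ∀ x ∈ E, ∀ y ∈ E, Commute x y) (h4 : ∀ x ∈ E, x ^ 4 = 1)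
    (hsq : ∀ x ∈ E, x * x = 1 → ∃ y ∈ E, y * y = x) {r : ℕ} (hcard : Nat.card E = 4 ^ r)
    (hr : Odd r) (hS : S ≤ Subgroup.normalizer (E : Set G)) :
    ∃ χ : S →* (ZMod 4)ˣ, (∀ s : S, (∀ x ∈ E, (s : G) * x * (s : G)⁻¹ = x) → χ s = 1) ∧
      ∀ s : S, (∀ x ∈ E, (s : G) * x * (s : G)⁻¹ = x⁻¹) → χ s = -1 := by
  letI : CommGroup E :=
    { (inferInstance : Group E) with mul_comm := fun a b => Subtype.ext (hab a a.2 b b.2).eq }
  obtain ⟨χ, hχ⟩ := exists_det E (fun x => Subtype.ext (by simpa using h4 x x.2))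
    (fun x hx => by
      obtain ⟨y, hy, hyy⟩ := hsq x x.2 (congrArg Subtype.val hx)
      exact ⟨⟨y, hy⟩, Subtype.ext hyy⟩) hcard hr
  let ψ : S →* MulAut E := E.normalizerMonoidHom.comp (Subgroup.inclusion hS)
  have hψ : ∀ (s : S) (x : E), ((ψ s x : E) : G) = (s : G) * x * (s : G)⁻¹ := fun _ _ => rfl
  refine ⟨χ.comp ψ, fun s hs => ?_, fun s hs => hχ _ fun x => Subtype.ext ?_⟩
  · have h1 : ψ s = 1 := MulEquiv.ext fun x => Subtype.ext (by rw [hψ, hs x x.2]; rfl)
    rw [MonoidHom.comp_apply, h1, map_one]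
  · rw [hψ, hs x x.2]
    rfl

/-- The transfer of that determinant: conjugates of `u` in a subgroup `S` of odd index inverting
`E` and members centralising it prevent generation. -/
theorem closure_ne_top {G : Type*} [Group G] [Finite G] (E S : Subgroup G)
    (hab : ∀ x ∈ E, ∀ y ∈ E, Commute x y) (h4 : ∀ x ∈ E, x ^ 4 = 1)
    (hsq : ∀ x ∈ E, x * x = 1 → ∃ y ∈ E, y * y = x) {r : ℕ} (hcard : Nat.card E = 4 ^ r)
    (hr : Odd r) (hS : S ≤ Subgroup.normalizer (E : Set G)) (hodd : Odd S.index) (D : Set G)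
    (hD : ∀ d ∈ D, d * d = 1) {u : G} (hu : u * u = 1)
    (hinv : ∀ g : G, g⁻¹ * u * g ∈ S → ∀ x ∈ E,
      g⁻¹ * u * g * x * (g⁻¹ * u * g)⁻¹ = x⁻¹)
    (hcen : ∀ d ∈ D, ∀ g : G, g⁻¹ * d * g ∈ S → ∀ x ∈ E,
      g⁻¹ * d * g * x * (g⁻¹ * d * g)⁻¹ = x) :
    Subgroup.closure D ≠ ⊤ := by
  obtain ⟨χ, h1, h2⟩ := exists_hom E S hab h4 hsq hcard hr hS
  exact closure_ne_top_of_odd_index χ D hD hu hodd (a := -1) (by decide)
    (fun g hg => h2 ⟨_, hg⟩ (hinv g hg)) (fun d hd g hg => h1 ⟨_, hg⟩ (hcen d hd g hg))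

end CfsgLib.LocalEven.TIEndgame.DetFour
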