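import Cfsg.Agent.Lib.LocalEven.TIEndgame.Defs

/-!
# The induction hypothesis on the core of a subgroup

If the members in `H` do not generate `G`, the induction applies to the group they induce on
`pts W H`: an involution of `core W H` fixing two of these points fixes all of them, and the
elements fixing all of them are central in `core W H`.
-/

set_option autoImplicit false
set_option linter.style.haveILetI false

namespace CfsgLib.LocalEven.TIEndgame

open MulAction Subgroup

universe u v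

section

variable {G : Type u} {Ω : Type v} [Group G] [MulAction G Ω] {W : Ω → Subgroup G}

omit [MulAction G Ω] in
theorem core_le (W : Ω → Subgroup G) (H : Subgroup G) : core W H ≤ H :=
  (closure_le _).2 fun _ hd => hd.2

omit [MulAction G Ω] in
theorem mem_core_of_mem {H : Subgroup G} {c : Ω} {y : G} (hy : y ∈ W c ⊓ H) : y ∈ core W H := by
  by_cases hy1 : y = 1
  · rw [hy1]; exact one_mem _
  · exact subset_closure ⟨⟨hy1, c, hy.1⟩, hy.2⟩

omit [MulAction G Ω] in
theorem exists_mem_pts {H : Subgroup G} {c : Ω} (hc : c ∈ pts W H) :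
    ∃ y ∈ W c ⊓ H, y ≠ 1 := by
  obtain ⟨⟨y, hy⟩, hy1⟩ := (Subgroup.ne_bot_iff_exists_ne_one).1 hc
  exact ⟨y, hy, fun e => hy1 (Subtype.ext e)⟩

namespace TISetting

variable (h : TISetting W)
include h

theorem smul_mem_pts {H : Subgroup G} {g : G} (hg : g ∈ H) {c : Ω} (hc : c ∈ pts W H) :
    g • c ∈ pts W H := by
  obtain ⟨y, hy, hy1⟩ := exists_mem_pts hc
  refine (Subgroup.ne_bot_iff_exists_ne_one).2 ⟨⟨g * y * g⁻¹,
    ⟨h.conj g c y hy.1, H.mul_mem (H.mul_mem hg hy.2) (H.inv_mem hg)⟩⟩, fun e => hy1 ?_⟩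
  exact conj_eq_one_iff.1 (congrArg Subtype.val e)

/-- An element of `H` fixing all the points of `H` commutes with every member in `H`. -/
theorem commute_of_fix_pts {H : Subgroup G} {a b : Ω} (ha : a ∈ pts W H) (hb : b ∈ pts W H)
    (hab : a ≠ b) {x : G} (hfix : ∀ c ∈ pts W H, x • c = c) {d : G} {c : Ω}
    (hd : d ∈ W c ⊓ H) : Commute x d := by
  rcases eq_or_ne d 1 with rfl | hd1
  · exact Commute.one_right x
  have hdi : d⁻¹ = d := inv_eq_of_mul_eq_one_right (h.sq c d hd.1)
  have hcp : c ∈ pts W H :=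
    (Subgroup.ne_bot_iff_exists_ne_one).2 ⟨⟨d, hd⟩, fun e => hd1 (congrArg Subtype.val e)⟩
  have h1 := h.conj x c d hd.1
  rw [hfix c hcp] at h1
  have hy : x * d * x⁻¹ * d⁻¹ ∈ W c := mul_mem h1 (inv_mem hd.1)
  have hyfix : ∀ e ∈ pts W H, (x * d * x⁻¹ * d⁻¹) • e = e := by
    intro e he
    have h2 : d⁻¹ • e ∈ pts W H := h.smul_mem_pts (inv_mem hd.2) he
    rw [mul_smul, mul_smul, mul_smul, inv_smul_eq_iff.2 (hfix _ h2).symm, smul_inv_smul, hfix e he]
  by_cases hy1 : x * d * x⁻¹ * d⁻¹ = 1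
  · exact mul_inv_eq_iff_eq_mul.1 (mul_inv_eq_one.1 hy1)
  · exact absurd ((h.unique c _ hy hy1 a (hyfix a ha)).trans (h.unique c _ hy hy1 b (hyfix b hb)).symm) hab

/-- The elements of the core fixing all its points are central in it. -/
theorem commute_core_of_fix_pts {H : Subgroup G} {a b : Ω} (ha : a ∈ pts W H) (hb : b ∈ pts W H)
    (hab : a ≠ b) {x : G} (hfix : ∀ c ∈ pts W H, x • c = c) {g : G}
    (hg : g ∈ core W H) : Commute x g := by
  induction hg using Subgroup.closure_induction with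
  | mem d hd =>
    obtain ⟨⟨-, c, hc⟩, hdH⟩ := hd
    exact h.commute_of_fix_pts ha hb hab hfix ⟨hc, hdH⟩
  | one => exact Commute.one_right x
  | mul y z _ _ hy hz => exact hy.mul_right hz
  | inv y _ hy => exact hy.inv_right

end TISetting

end

namespace TISetting

variable {G Ω : Type u} [Group G] [Finite G] [Finite Ω] [MulAction G Ω] {W : Ω → Subgroup G}
  (h : TISetting W)
include h

/-- The induction on the group induced on the points of `H`. -/
theorem fix_pts_of_below (hbelow : TIBelow.{u} (Nat.card G)) {H : Subgroup G}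
    (hne : core W H ≠ ⊤) {z : G} (hz : z ∈ core W H) (hz2 : z * z = 1) {a b : Ω}
    (ha : a ∈ pts W H) (hb : b ∈ pts W H) (hab : a ≠ b) (hza : z • a = a) (hzb : z • b = b) :
    ∀ c ∈ pts W H, z • c = c := by
  classical
  letI act : MulAction (core W H) (pts W H) :=
    { smul := fun g c => ⟨(g : G) • (c : Ω), h.smul_mem_pts (core_le W H g.2) c.2⟩
      one_smul := fun c => Subtype.ext (one_smul G (c : Ω))
      mul_smul := fun g g' c => Subtype.ext (mul_smul (g : G) g' (c : Ω)) }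
  let φ : core W H →* Equiv.Perm (pts W H) := MulAction.toPermHom (core W H) (pts W H)
  have hcoe : ∀ (g : core W H) (c : pts W H), ((φ g c : pts W H) : Ω) = (g : G) • (c : Ω) :=
    fun _ _ => rfl
  let K : Subgroup (Equiv.Perm (pts W H)) := φ.range
  let W' : pts W H → Subgroup K := fun c => ((W c ⊓ H).subgroupOf (core W H)).map φ.rangeRestrict
  have hmem : ∀ (c : pts W H) (y : K), y ∈ W' c →
      ∃ g : core W H, (g : G) ∈ W c ⊓ H ∧ φ g = y := by
    rintro c y ⟨g, hg, rfl⟩
    exact ⟨g, hg, rfl⟩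
  have hsmul : ∀ (y : K) (g : core W H), φ g = y → ∀ d : pts W H, ((y • d : pts W H) : Ω) = (g : G) • (d : Ω) := by
    intro y g hg d
    show (((y : Equiv.Perm (pts W H)) d : pts W H) : Ω) = _
    rw [← hg, hcoe]
  have hW' : TISetting W' := by
    refine ⟨fun c y hy => ?_, fun c y hy => ?_, fun c y hy hy1 d hd => ?_, fun k c y hy => ?_,
      fun c => ?_⟩
    · obtain ⟨g, hg, hgy⟩ := hmem c y hy
      refine Subtype.ext ?_
      rw [Subgroup.coe_mul, ← hgy, ← map_mul, show g * g = 1 from Subtype.ext (h.sq _ _ hg.1), map_one]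
      rfl
    · obtain ⟨g, hg, hgy⟩ := hmem c y hy
      exact mem_stabilizer_iff.2 (Subtype.ext ((hsmul y g hgy c).trans
        (mem_stabilizer_iff.1 (h.fix _ hg.1))))
    · obtain ⟨g, hg, hgy⟩ := hmem c y hy
      refine Subtype.ext (h.unique c g hg.1 (fun e => hy1 ?_) d ?_)
      · refine Subtype.ext ?_
        rw [← hgy, show g = 1 from Subtype.ext e, map_one]
        rfl
      · rw [← hsmul y g hgy d, hd]
    · obtain ⟨g, hg, hgy⟩ := hmem c y hy
      obtain ⟨k', hk'⟩ := k.2
      refine ⟨k' * g * k'⁻¹, ?_, Subtype.ext ?_⟩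
      · show (k' : G) * g * (k' : G)⁻¹ ∈ W ((k • c : pts W H) : Ω) ⊓ H
        rw [hsmul k k' hk' c]
        exact ⟨h.conj _ _ _ hg.1,
          H.mul_mem (H.mul_mem (core_le W H k'.2) hg.2) (H.inv_mem (core_le W H k'.2))⟩
      · show φ (k' * g * k'⁻¹) = _
        rw [map_mul, map_mul, map_inv, hk', hgy]
        rfl
    · obtain ⟨y, hy, hy1⟩ := exists_mem_pts c.2
      refine (Subgroup.ne_bot_iff_exists_ne_one).2
        ⟨⟨φ.rangeRestrict ⟨y, mem_core_of_mem hy⟩, ⟨_, hy, rfl⟩⟩, fun e => ?_⟩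
      have hy' : ∀ d ∈ pts W H, y • d = d := fun d hd => by
        have h1 : φ ⟨y, mem_core_of_mem hy⟩ = 1 := congrArg (fun t => ((t : K) : Equiv.Perm (pts W H)))
          (congrArg Subtype.val e)
        have h2 := hcoe ⟨y, mem_core_of_mem hy⟩ ⟨d, hd⟩
        rw [h1] at h2
        exact h2.symm
      exact hab ((h.unique _ y hy.1 hy1 a (hy' a ha)).trans (h.unique _ y hy.1 hy1 b (hy' b hb)).symm)
  have hgen : Subgroup.closure (members W') = ⊤ := by
    rw [eq_top_iff]
    rintro k -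
    obtain ⟨g, hg⟩ := k.2
    have hsub : ∀ d : core W H, (d : G) ∈ members W ∩ (H : Set G) →
        φ.rangeRestrict d ∈ Subgroup.closure (members W') := by
      rintro d ⟨⟨hd1, c, hc⟩, hdH⟩
      have hcp : c ∈ pts W H :=
        (Subgroup.ne_bot_iff_exists_ne_one).2 ⟨⟨(d : G), ⟨hc, hdH⟩⟩, fun e => hd1 (congrArg Subtype.val e)⟩
      by_cases h1 : φ.rangeRestrict d = 1
      · rw [h1]; exact one_mem _
      · exact subset_closure ⟨h1, ⟨c, hcp⟩, ⟨d, ⟨hc, hdH⟩, rfl⟩⟩
    have : Subgroup.closure ((Subtype.val : core W H → G) ⁻¹' (members W ∩ (H : Set G))) ≤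
        (Subgroup.closure (members W')).comap φ.rangeRestrict :=
      (closure_le _).2 hsub
    have h2 := this (show g ∈ _ from Subgroup.closure_closure_coe_preimage (k := members W ∩ (H : Set G)) ▸ mem_top g)
    rwa [Subgroup.mem_comap, show φ.rangeRestrict g = k from Subtype.ext hg] at h2
  have hcard : Nat.card K < Nat.card G := by
    refine lt_of_le_of_lt (Nat.card_le_card_of_surjective _ φ.rangeRestrict_surjective) ?_
    refine lt_of_le_of_ne (Nat.card_le_card_of_injective _ Subtype.val_injective) fun e => hne ?_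
    exact Subgroup.eq_top_of_card_eq _ e
  have hno := hbelow K (pts W H) W' hcard hW' hgen
  intro c hc
  by_contra hzc
  have hne1 : φ ⟨z, hz⟩ ≠ 1 := fun e => hzc (by
    have h2 := hcoe ⟨z, hz⟩ ⟨c, hc⟩
    rw [e] at h2
    exact h2.symm)
  refine hno ⟨φ ⟨z, hz⟩, ⟨_, rfl⟩⟩ ⟨orderOf_eq_prime ?_ fun e => hne1 (congrArg Subtype.val e),
    ⟨a, ha⟩, ⟨b, hb⟩, fun e => hab (congrArg Subtype.val e), ?_, ?_⟩
  · refine Subtype.ext ?_
    rw [pow_two, Subgroup.coe_mul, ← map_mul,
      show (⟨z, hz⟩ : core W H) * ⟨z, hz⟩ = 1 from Subtype.ext hz2, map_one]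
    rfl
  · exact Subtype.ext ((hsmul _ ⟨z, hz⟩ rfl ⟨a, ha⟩).trans hza)
  · exact Subtype.ext ((hsmul _ ⟨z, hz⟩ rfl ⟨b, hb⟩).trans hzb)

end TISetting

end CfsgLib.LocalEven.TIEndgame
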