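import Cfsg.Agent.Lib.Involution.Dihedral

/-!
# Middle elements for involutions with one fixed point

`D` is a conjugation-invariant set of involutions, each with exactly one fixed point, such that the
product of two distinct commuting members has at most one fixed point.
-/

set_option autoImplicit false

namespace CfsgLib.LocalEven.TIEndgame

open Subgroup CfsgLib.Involution

variable {G Ω : Type*} [Group G] [MulAction G Ω]

/-- The standing hypothesis. -/
structure OnePoint (D : Set G) (Ω : Type*) [MulAction G Ω] : Prop where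
  orderOf_eq : ∀ d ∈ D, orderOf d = 2
  conj_mem : ∀ g : G, ∀ d ∈ D, g * d * g⁻¹ ∈ D
  exists_fixed : ∀ d ∈ D, ∃ a : Ω, d • a = a
  fixed_unique : ∀ d ∈ D, ∀ a b : Ω, d • a = a → d • b = b → a = b
  pair_unique : ∀ d ∈ D, ∀ e ∈ D, Commute d e → d ≠ e →
    ∀ a b : Ω, (d * e) • a = a → (d * e) • b = b → a = b

/-- The members of `D` fixing `a`. -/
def dat (D : Set G) (a : Ω) : Set G := {d | d ∈ D ∧ d • a = a}

/-- The members of `D` moving `a` to `b`. -/
def swappers (D : Set G) (a b : Ω) : Set G := {f | f ∈ D ∧ f • a = b}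

namespace OnePoint

variable {D : Set G} (h : OnePoint D Ω)
include h

theorem mul_self {d : G} (hd : d ∈ D) : d * d = 1 := Dihedral.mul_self (h.orderOf_eq d hd)

theorem inv_eq {d : G} (hd : d ∈ D) : d⁻¹ = d := Dihedral.inv_eq (h.orderOf_eq d hd)

theorem smul_smul_self {d : G} (hd : d ∈ D) (a : Ω) : d • (d • a) = a := by
  rw [smul_smul, h.mul_self hd, one_smul]

/-- Whatever commutes with a member of `D` fixes its point. -/
theorem fix_of_commute {d g : G} {a : Ω} (hd : d ∈ D) (hda : d • a = a) (hc : Commute d g) :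
    g • a = a :=
  h.fixed_unique d hd (g • a) a (by rw [smul_smul, hc.eq, ← smul_smul, hda]) hda

/-- The conjugate of a member at `a` lies at the image of `a`. -/
theorem conj_mem_dat {d : G} {a : Ω} (g : G) (hd : d ∈ dat D a) : g * d * g⁻¹ ∈ dat D (g • a) :=
  ⟨h.conj_mem g d hd.1, by rw [mul_smul, mul_smul, inv_smul_smul, hd.2]⟩

/-- All reflections of a dihedral group generated by two members are members. -/
theorem reflection_mem {d e : G} (hd : d ∈ D) (he : e ∈ D) (j : ℤ) : d * (d * e) ^ j ∈ D := by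
  have hinv := Dihedral.conj_mul_left (h.orderOf_eq d hd) (h.orderOf_eq e he)
  rcases Int.even_or_odd j with ⟨i, rfl⟩ | ⟨i, rfl⟩
  · have h1 := h.conj_mem ((d * e) ^ (-i)) d hd
    rwa [Dihedral.conj_zpow_reflection hinv, show -(2 * -i) = i + i by ring] at h1
  · have h1 := h.conj_mem ((d * e) ^ (-i)) e he
    have heq : (d * e) ^ (-i) * e * ((d * e) ^ (-i))⁻¹ = d * (d * e) ^ (2 * i + 1) := by
      have h2 := Dihedral.conj_zpow_reflection hinv (-i)
      have hde : d * (d * e) = e := by rw [← mul_assoc, h.mul_self hd, one_mul]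
      calc (d * e) ^ (-i) * e * ((d * e) ^ (-i))⁻¹
          = (d * e) ^ (-i) * (d * (d * e)) * ((d * e) ^ (-i))⁻¹ := by rw [hde]
        _ = ((d * e) ^ (-i) * d * ((d * e) ^ (-i))⁻¹) *
              ((d * e) ^ (-i) * (d * e) * ((d * e) ^ (-i))⁻¹) := by group
        _ = ((d * e) ^ (-i) * d * ((d * e) ^ (-i))⁻¹) * (d * e) := by
          rw [(Commute.self_zpow (d * e) (-i)).symm.eq, mul_inv_cancel_right]
        _ = d * (d * e) ^ (2 * i + 1) := by
          rw [h2, show -(2 * -i) = 2 * i by ring, mul_assoc, ← zpow_add_one]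
    rwa [heq] at h1

variable [Finite G]

/-- Members at different points have a product of odd order. -/
theorem odd_of_ne {d e : G} {a b : Ω} (hd : d ∈ dat D a) (he : e ∈ dat D b) (hab : a ≠ b) :
    Odd (orderOf (d * e)) := by
  by_contra hodd
  rw [Nat.not_odd_iff_even] at hodd
  have hd2 := h.orderOf_eq d hd.1
  have he2 := h.orderOf_eq e he.1
  have hl := Dihedral.half_commute_left hd2 he2 hodd
  have hr := Dihedral.half_commute_right hd2 he2 hodd
  have hv2 := Dihedral.half_orderOf hodd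
  set v := (d * e) ^ (orderOf (d * e) / 2) with hv
  have hw : d * v ∈ D := by
    rw [hv, ← zpow_natCast]; exact h.reflection_mem hd.1 he.1 _
  refine hab (h.pair_unique d hd.1 (d * v) hw ?_ ?_ a b ?_ ?_)
  · exact (Commute.refl d).mul_right hl.symm
  · exact fun e' => Dihedral.ne_one hv2 (by simpa using e'.symm)
  · rw [← mul_assoc, h.mul_self hd.1, one_mul]; exact h.fix_of_commute hd.1 hd.2 hl.symm
  · rw [← mul_assoc, h.mul_self hd.1, one_mul]; exact h.fix_of_commute he.1 he.2 hr.symm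

/-- The middle element. -/
theorem existsUnique_middle {d e : G} {a b : Ω} (hd : d ∈ dat D a) (he : e ∈ dat D b)
    (hab : a ≠ b) : ∃! f, f ∈ D ∧ f * d * f⁻¹ = e := by
  have hd2 := h.orderOf_eq d hd.1
  have he2 := h.orderOf_eq e he.1
  obtain ⟨k, hk, hkd⟩ := Dihedral.exists_conj_of_odd hd2 he2 (h.odd_of_ne hd he hab)
  obtain ⟨m, rfl⟩ := mem_zpowers_iff.1 hk
  set f₀ := (d * e) ^ m * d with hf₀
  have hf₀D : f₀ ∈ D := by
    rw [hf₀, Dihedral.zpow_mul_left (Dihedral.conj_mul_left hd2 he2)]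
    exact h.reflection_mem hd.1 he.1 _
  have hf₀e : f₀ * d * f₀⁻¹ = e := by
    rw [← hkd, hf₀]; group
  refine ⟨f₀, ⟨hf₀D, hf₀e⟩, ?_⟩
  rintro f ⟨hfD, hfe⟩
  by_contra hne
  have hfe' : f * e * f⁻¹ = d := by
    rw [← hfe, h.inv_eq hfD]; simp [← mul_assoc, h.mul_self hfD]; rw [mul_assoc, h.mul_self hfD, mul_one]
  have hf₀e' : f₀ * e * f₀⁻¹ = d := by
    rw [← hf₀e, h.inv_eq hf₀D]; simp [← mul_assoc, h.mul_self hf₀D]
    rw [mul_assoc, h.mul_self hf₀D, mul_one]
  have hcd : Commute (f₀ * f) d := mul_inv_eq_iff_eq_mul.1 (by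
    rw [show f₀ * f * d * (f₀ * f)⁻¹ = f₀ * (f * d * f⁻¹) * f₀⁻¹ by group, hfe, hf₀e'])
  have hce : Commute (f₀ * f) e := mul_inv_eq_iff_eq_mul.1 (by
    rw [show f₀ * f * e * (f₀ * f)⁻¹ = f₀ * (f * e * f⁻¹) * f₀⁻¹ by group, hfe', hf₀e])
  have hcf : Commute (f₀ * f) f₀ := ((hcd.mul_right hce).zpow_right m).mul_right hcd
  have hff : Commute f₀ f := mul_left_cancel
    (show f₀ * (f₀ * f) = f₀ * (f * f₀) by rw [hcf.symm.eq, mul_assoc])
  exact hab (h.pair_unique f₀ hf₀D f hfD hff (Ne.symm hne) a b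
    (h.fix_of_commute hd.1 hd.2 hcd.symm) (h.fix_of_commute he.1 he.2 hce.symm))

omit [Finite G] in
theorem smul_eq_of_conj_eq {d e f : G} {a b : Ω} (hd : d ∈ dat D a) (he : e ∈ dat D b)
    (hf : f * d * f⁻¹ = e) : f • a = b := by
  have h1 := (h.conj_mem_dat f hd).2
  rw [hf] at h1
  exact h.fixed_unique e he.1 _ _ h1 he.2

theorem existsUnique_swapper {d e : G} {a b : Ω} (hd : d ∈ dat D a) (he : e ∈ dat D b)
    (hab : a ≠ b) : ∃! f, f ∈ swappers D a b ∧ f * d * f⁻¹ = e := by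
  obtain ⟨f, ⟨hf, hfe⟩, huniq⟩ := h.existsUnique_middle hd he hab
  exact ⟨f, ⟨⟨hf, h.smul_eq_of_conj_eq hd he hfe⟩, hfe⟩, fun g hg => huniq g ⟨hg.1.1, hg.2⟩⟩

/-- For every pair there are exactly as many swappers as members at one of the points. -/
theorem card_swappers {a b : Ω} (ha : (dat D a).Nonempty) (hab : a ≠ b) :
    Nat.card (swappers D a b) = Nat.card (dat D b) := by
  obtain ⟨d, hd⟩ := ha
  refine Nat.card_eq_of_bijective
    (fun f : swappers D a b => (⟨f.1 * d * f.1⁻¹, by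
      have h1 := h.conj_mem_dat f.1 hd
      rwa [f.2.2] at h1⟩ : dat D b)) ⟨fun f g hfg => ?_, fun e => ?_⟩
  · have he : f.1 * d * f.1⁻¹ = g.1 * d * g.1⁻¹ := congrArg Subtype.val hfg
    obtain ⟨m, -, huniq⟩ := h.existsUnique_swapper hd (b := b)
      (e := f.1 * d * f.1⁻¹) (by have h1 := h.conj_mem_dat f.1 hd; rwa [f.2.2] at h1) hab
    exact Subtype.ext ((huniq f.1 ⟨f.2, rfl⟩).trans (huniq g.1 ⟨g.2, he.symm⟩).symm)
  · obtain ⟨f, ⟨hf, hfe⟩, -⟩ := h.existsUnique_swapper hd e.2 hab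
    exact ⟨⟨f, hf⟩, Subtype.ext hfe⟩

/-- The stabiliser of two points is transitive on the members at one of them. -/
theorem exists_conj_pair {d d' : G} {a b : Ω} (hd : d ∈ dat D a) (hd' : d' ∈ dat D a)
    (hb : (dat D b).Nonempty) (hab : a ≠ b) :
    ∃ g : G, g • a = a ∧ g • b = b ∧ g * d * g⁻¹ = d' := by
  obtain ⟨e, he⟩ := hb
  obtain ⟨f, ⟨⟨hf, hfab⟩, hfe⟩, -⟩ := h.existsUnique_swapper hd he hab
  obtain ⟨f', ⟨⟨hf', hf'ab⟩, hf'e⟩, -⟩ := h.existsUnique_swapper hd' he hab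
  refine ⟨f' * f, ?_, ?_, ?_⟩
  · rw [mul_smul, hfab, ← hf'ab, h.smul_smul_self hf']
  · rw [mul_smul, show f • b = a by rw [← hfab, h.smul_smul_self hf], hf'ab]
  · rw [show f' * f * d * (f' * f)⁻¹ = f' * (f * d * f⁻¹) * f'⁻¹ by group, hfe, ← hf'e,
      h.inv_eq hf']
    calc f' * (f' * d' * f') * f' = f' * f' * d' * (f' * f') := by group
      _ = d' := by rw [h.mul_self hf', one_mul, mul_one]

end OnePoint

end CfsgLib.LocalEven.TIEndgame
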