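import Cfsg.Agent.Lib.Involution.Basic
import Cfsg.Agent.Lib.LocalEven.TIEndgame.Middle

/-!
# Fusion of 2-subgroups in the setting of one fixed point

Besides `OnePoint` we assume `Covers`: every 2-subgroup fixing a point is centralised by a member at
that point.
-/

set_option autoImplicit false

namespace CfsgLib.LocalEven.TIEndgame

open MulAction
open CfsgLib.Involution

variable {G Ω : Type*} [Group G] [MulAction G Ω]

/-- An involution fixing at least two points. -/
def IsBad (Ω : Type*) [MulAction G Ω] (u : G) : Prop :=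
  orderOf u = 2 ∧ ∃ a b : Ω, a ≠ b ∧ u • a = a ∧ u • b = b

/-- Every 2-subgroup fixing a point is centralised by a member at that point. -/
def Covers (D : Set G) (Ω : Type*) [MulAction G Ω] : Prop :=
  ∀ a : Ω, ∀ P : Subgroup G, IsPGroup 2 P → P ≤ stabilizer G a →
    ∃ d ∈ dat D a, ∀ x ∈ P, Commute x d

namespace OnePoint

variable {D : Set G} (h : OnePoint D Ω) (hc : Covers D Ω)
include h hc

omit h in
theorem dat_nonempty (a : Ω) : (dat D a).Nonempty := by
  obtain ⟨d, hd, -⟩ := hc a ⊥ IsPGroup.of_bot bot_le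
  exact ⟨d, hd⟩

omit h in
theorem exists_dat_commute {u : G} (hu : orderOf u = 2) {a : Ω} (ha : u • a = a) :
    ∃ d ∈ dat D a, Commute u d := by
  obtain ⟨d, hd, hcd⟩ := hc a (Subgroup.zpowers u) (CfsgLib.Involution.Basic.isPGroup_zpowers_of_two hu)
    (Subgroup.zpowers_le.2 (mem_stabilizer_iff.2 ha))
  exact ⟨d, hd, hcd u (Subgroup.mem_zpowers u)⟩

theorem odd_card_points [Finite Ω] [Nonempty Ω] : Odd (Nat.card Ω) := by
  classical
  have : Fact (Nat.Prime 2) := ⟨Nat.prime_two⟩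
  obtain ⟨d, hd, hda⟩ := dat_nonempty hc (Classical.arbitrary Ω)
  have h2 : IsPGroup 2 (Subgroup.zpowers d) :=
    CfsgLib.Involution.Basic.isPGroup_zpowers_of_two (h.orderOf_eq d hd)
  have hfix : Nat.card (fixedPoints (Subgroup.zpowers d) Ω) = 1 := by
    rw [Nat.card_eq_one_iff_unique]
    refine ⟨⟨fun x y => Subtype.ext ?_⟩, ⟨⟨Classical.arbitrary Ω, fun g => ?_⟩⟩⟩
    · exact h.fixed_unique d hd _ _ (x.2 ⟨d, Subgroup.mem_zpowers d⟩) (y.2 ⟨d, Subgroup.mem_zpowers d⟩)
    · exact mem_stabilizer_iff.1 ((Subgroup.zpowers_le.2 (mem_stabilizer_iff.2 hda)) g.2)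
  have h' := h2.card_modEq_card_fixedPoints Ω
  rw [hfix] at h'
  exact Nat.odd_iff.2 h'

/-- A 2-subgroup containing a member fixes the point of that member. -/
theorem le_stabilizer [Finite G] [Finite Ω] {P : Subgroup G} (hP : IsPGroup 2 P) {d : G} {a : Ω}
    (hd : d ∈ dat D a) (hdP : d ∈ P) : P ≤ stabilizer G a := by
  have : Fact (Nat.Prime 2) := ⟨Nat.prime_two⟩
  have : Nonempty Ω := ⟨a⟩
  obtain ⟨b, hb⟩ := hP.nonempty_fixed_point_of_prime_not_dvd_card Ω
    fun h2 => Nat.not_even_iff_odd.2 (h.odd_card_points hc) (even_iff_two_dvd.2 h2)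
  have hba : b = a := h.fixed_unique d hd.1 b a (hb ⟨d, hdP⟩) hd.2
  exact fun x hx => mem_stabilizer_iff.2 (hba ▸ hb ⟨x, hx⟩)

/-- Two points fixed by a 2-subgroup are moved into one another by its centraliser. -/
theorem exists_centralizing_move [Finite G] {P : Subgroup G} (hP : IsPGroup 2 P) {a b : Ω}
    (ha : P ≤ stabilizer G a) (hb : P ≤ stabilizer G b) :
    ∃ c : G, (∀ x ∈ P, Commute x c) ∧ c • a = b := by
  rcases eq_or_ne a b with rfl | hab
  · exact ⟨1, fun x _ => Commute.one_right x, one_smul _ _⟩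
  obtain ⟨d, hd, hdP⟩ := hc a P hP ha
  obtain ⟨e, he, heP⟩ := hc b P hP hb
  obtain ⟨c, hcm, hce⟩ := Dihedral.exists_conj_of_odd (h.orderOf_eq d hd.1) (h.orderOf_eq e he.1)
    (h.odd_of_ne hd he hab)
  obtain ⟨k, rfl⟩ := Subgroup.mem_zpowers_iff.1 hcm
  exact ⟨(d * e) ^ k, fun x hx => ((hdP x hx).mul_right (heP x hx)).zpow_right k,
    h.smul_eq_of_conj_eq hd he hce⟩

/-- The point stabiliser strongly controls fusion of its 2-subgroups. -/
theorem control [Finite G] {P : Subgroup G} (hP : IsPGroup 2 P) {a : Ω} (ha : P ≤ stabilizer G a)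
    (g : G) (hg : ∀ x ∈ P, g * x * g⁻¹ ∈ stabilizer G a) :
    ∃ k : G, k • a = a ∧ ∀ x ∈ P, k * x * k⁻¹ = g * x * g⁻¹ := by
  have hb : P ≤ stabilizer G (g⁻¹ • a) := fun x hx => by
    refine mem_stabilizer_iff.2 (smul_left_cancel g ?_)
    rw [smul_inv_smul, ← mul_smul, ← mul_smul]
    exact mem_stabilizer_iff.1 (hg x hx)
  obtain ⟨c, hcP, hca⟩ := h.exists_centralizing_move hc hP ha hb
  refine ⟨g * c, by rw [mul_smul, hca, smul_inv_smul], fun x hx => ?_⟩
  calc g * c * x * (g * c)⁻¹ = g * (c * x) * c⁻¹ * g⁻¹ := by group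
    _ = g * x * g⁻¹ := by rw [← (hcP x hx).eq]; group

/-- The centraliser of an involution is transitive on the points it fixes. -/
theorem exists_commute_move [Finite G] {u : G} (hu : orderOf u = 2) {a b : Ω} (ha : u • a = a)
    (hb : u • b = b) : ∃ c : G, Commute u c ∧ c • a = b := by
  obtain ⟨c, hcu, hca⟩ := h.exists_centralizing_move hc
    (CfsgLib.Involution.Basic.isPGroup_zpowers_of_two hu)
    (Subgroup.zpowers_le.2 (mem_stabilizer_iff.2 ha)) (Subgroup.zpowers_le.2 (mem_stabilizer_iff.2 hb))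
  exact ⟨c, hcu u (Subgroup.mem_zpowers u), hca⟩

/-- The group is transitive on the points. -/
theorem exists_move [Finite G] (a b : Ω) : ∃ c : G, c • a = b := by
  obtain ⟨c, -, hca⟩ := h.exists_centralizing_move hc (P := ⊥) (a := a) (b := b) IsPGroup.of_bot bot_le bot_le
  exact ⟨c, hca⟩

/-- All members are conjugate. -/
theorem isConj_members [Finite G] [Nontrivial Ω] {d e : G} (hd : d ∈ D) (he : e ∈ D) :
    IsConj d e := by
  obtain ⟨a, hda⟩ := h.exists_fixed d hd
  obtain ⟨b, heb⟩ := h.exists_fixed e he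
  have key : ∀ {x y : G} {p q : Ω}, x ∈ dat D p → y ∈ dat D q → p ≠ q → IsConj x y :=
    fun hx hy hpq => Dihedral.isConj_of_odd (h.orderOf_eq _ hx.1) (h.orderOf_eq _ hy.1)
      (h.odd_of_ne hx hy hpq)
  by_cases hab : a = b
  · obtain ⟨r, hr⟩ := exists_ne a
    obtain ⟨f, hf⟩ := dat_nonempty hc r
    exact (key ⟨hd, hda⟩ hf hr.symm).trans (key hf ⟨he, heb⟩ (hab ▸ hr))
  · exact key ⟨hd, hda⟩ ⟨he, heb⟩ hab

omit hc in
/-- The product of a bad involution with a member commuting with it is not in `D`. -/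
theorem mul_notMem [Finite G] {u d : G} (hu : IsBad Ω u) (hd : d ∈ D) (hud : Commute u d) :
    u * d ∉ D := by
  intro hud'
  obtain ⟨hu2, a, b, hab, ha, hb⟩ := hu
  have hne : u * d ≠ d := fun e => Dihedral.ne_one hu2 (mul_eq_right.1 e)
  exact hab (h.pair_unique (u * d) hud' d hd (hud.mul_left (Commute.refl d)) hne a b
    (by rw [mul_assoc, h.mul_self hd, mul_one, ha]) (by rw [mul_assoc, h.mul_self hd, mul_one, hb]))

end OnePoint

end CfsgLib.LocalEven.TIEndgame
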