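import Cfsg.Agent.Lib.LocalEven.TIEndgame.Line.Induced
import Cfsg.Agent.Lib.LocalEven.TIEndgame.Line.Torus

/-!
# The data of a line

In a least counterexample to Theorem T, the line of a bad involution `x` at a point with at least four
members commuting with `x` is linear, of Suzuki type or unitary.
-/

set_option autoImplicit false
set_option linter.style.haveILetI false

namespace CfsgLib.LocalEven.TIEndgame

open MulAction CfsgLib.RankOne

universe u

namespace Line

/-- An element of `2`-power order lifts to one. -/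
theorem exists_lift_two {L H : Type*} [Group L] [Finite L] [Group H] (f : L →* H) (g : L) {j : ℕ}
    (hg : f g ^ 2 ^ j = 1) : ∃ g' : L, f g' = f g ∧ ∃ k : ℕ, g' ^ 2 ^ k = 1 := by
  obtain ⟨k, m, hm, hN⟩ := Nat.exists_eq_two_pow_mul_odd (orderOf_pos g).ne'
  obtain ⟨i, -, hi⟩ := (Nat.dvd_prime_pow Nat.prime_two).1 (orderOf_dvd_of_pow_eq_one hg)
  have hcop : m.Coprime (orderOf (f g)) := by
    rw [hi]
    exact (Nat.coprime_two_right.2 hm).pow_right i
  obtain ⟨s, hs⟩ := exists_pow_eq_self_of_coprime hcop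
  refine ⟨(g ^ m) ^ s, by rw [map_pow, map_pow, hs], k, ?_⟩
  rw [← pow_mul, ← pow_mul, show m * (s * 2 ^ k) = orderOf g * s by rw [hN]; ring, pow_mul,
    pow_orderOf_eq_one, one_pow]

/-- An element of odd order lifts to one. -/
theorem exists_lift_odd {L H : Type*} [Group L] [Finite L] [Group H] (f : L →* H) (g : L)
    (hg : Odd (orderOf (f g))) : ∃ g' : L, f g' = f g ∧ Odd (orderOf g') := by
  obtain ⟨k, m, hm, hN⟩ := Nat.exists_eq_two_pow_mul_odd (orderOf_pos g).ne'
  have hcop : (2 ^ k).Coprime (orderOf (f g)) := (Nat.coprime_two_left.2 hg).pow_left k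
  obtain ⟨s, hs⟩ := exists_pow_eq_self_of_coprime hcop
  refine ⟨(g ^ 2 ^ k) ^ s, by rw [map_pow, map_pow, hs],
    hm.of_dvd_nat (orderOf_dvd_of_pow_eq_one ?_)⟩
  rw [← pow_mul, ← pow_mul, show 2 ^ k * (s * m) = orderOf g * s by rw [hN]; ring, pow_mul,
    pow_orderOf_eq_one, one_pow]

variable {G : Type u} {Ω : Type u} [Group G] [MulAction G Ω] {W : Ω → Subgroup G} {x : G}

/-- Conjugation of members is decided on the line. -/
theorem conj_eq_of_proj (h : TISetting W) (hx : IsBad Ω x) {a : Ω} {g r s : lineGroup W x}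
    (hga : (g : G) • a = a) (hr : (r : G) ∈ centredAt W x a) (hs : (s : G) ∈ centredAt W x a)
    (he : proj W x g * proj W x r * (proj W x g)⁻¹ = proj W x s) :
    (g : G) * r * (g : G)⁻¹ = s := by
  have h1 := conj_centredAt h (lineGroup_commute g.2) hr
  rw [hga] at h1
  have h2 : ((g * r * g⁻¹ * s⁻¹ : lineGroup W x) : G) ∈ centredAt W x a := by
    simpa using mul_mem h1 (inv_mem hs)
  have h3 := eq_one_of_proj h hx h2 (by
    rw [map_mul, map_mul, map_mul, map_inv, map_inv, he, mul_inv_cancel])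
  exact congrArg Subtype.val (mul_inv_eq_one.1 h3)

theorem card_lineW (h : TISetting W) (hx : IsBad Ω x) (b : LinePt W x) :
    Nat.card (lineW W x b) = Nat.card (centredAt W x (b : Ω)) := by
  let f : centredAt W x (b : Ω) → lineW W x b := fun r =>
    ⟨proj W x ⟨r, centredAt_le _ r.2⟩, mem_lineW.2 ⟨_, r.2, rfl⟩⟩
  refine (Nat.card_eq_of_bijective f ⟨fun r r' hrr => ?_, fun γ => ?_⟩).symm
  · have h1 : proj W x ⟨(r : G), centredAt_le _ r.2⟩ = proj W x ⟨(r' : G), centredAt_le _ r'.2⟩ :=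
      congrArg Subtype.val hrr
    have h2 := eq_one_of_proj h hx (b := (b : Ω))
      (r := (⟨(r : G), centredAt_le _ r.2⟩ : lineGroup W x) * (⟨(r' : G), centredAt_le _ r'.2⟩)⁻¹)
      (mul_mem r.2 (inv_mem r'.2)) (by rw [map_mul, map_inv, h1, mul_inv_cancel])
    exact Subtype.ext (mul_inv_eq_one.1 (congrArg Subtype.val h2))
  · obtain ⟨r, hr, hγ⟩ := mem_lineW.1 γ.2
    exact ⟨⟨r, hr⟩, Subtype.ext hγ⟩

/-- The involutions of the line at a point are the members there. -/
theorem invol_mem_lineW [Finite G] (h : TISetting W) (hx : IsBad Ω x) {a : LinePt W x}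
    {t : LineImage W x} {Q : Subgroup (LineImage W x)}
    (hS : Cfsg.IsRankOneSetup (LineImage W x) (LinePt W x) a t Q) {γ : LineImage W x}
    (hγ : γ • a = a) (hγ2 : γ * γ = 1) : γ ∈ lineW W x a := by
  by_cases h1 : γ = 1
  · rw [h1]; exact one_mem _
  haveI : Finite (LineImage W x) := Finite.of_surjective _ (proj_surjective W x)
  have hT := lineSetting h hx
  obtain ⟨⟨r, hr⟩, hr1⟩ := Subgroup.ne_bot_iff_exists_ne_one.1 (hT.ne_bot a)
  have hr1' : r ≠ 1 := fun e => hr1 (Subtype.ext e)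
  obtain ⟨k, hk, hks⟩ := exists_conj_inverted hS (s := r) (s' := γ)
    ⟨hT.fix a hr, hr1', hT.sq a r hr⟩ ⟨hγ, h1, hγ2⟩
  have hka : k⁻¹ • a = a := inv_smul_eq_iff.2 ((mem_two hS).1 hk.1).1.symm
  have h3 := hT.conj k⁻¹ a r hr
  rwa [hka, inv_inv, hks] at h3

end Line

open Line

variable {G : Type u} {Ω : Type u} [Group G] [Finite G] [Finite Ω] [MulAction G Ω] [FaithfulSMul G Ω]
  {W : Ω → Subgroup G}

/-- The line of a bad involution at a point with four members commuting with it. -/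
theorem TIMin.lineData (h : TIMin G Ω W) {x : G} (hx : IsBad Ω x) {a : Ω} (hxa : x • a = a)
    (h4 : 4 ≤ Nat.card (centredAt W x a)) : LineData W x a := by
  haveI : Finite (LineImage W x) := Finite.of_surjective _ (proj_surjective W x)
  set a' : LinePt W x := ⟨a, hxa⟩ with ha'
  have hT : TISetting W := h.toTISetting
  have hL := lineSetting hT hx
  obtain ⟨hgen, h2, t₀, Q, hS₀⟩ := exists_line_setup h hx (a := a') h4
  have hQ2 := isPGroup_Q hS₀ h2
  obtain ⟨Z, K, A⟩ := Small.exists_data hS₀ h2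
  have hZ : Z = lineW W x a' := by
    ext γ
    rw [A.mem_Z]
    exact ⟨fun hγ => invol_mem_lineW hT hx hS₀ hγ.1 hγ.2,
      fun hγ => ⟨hL.fix a' hγ, hL.sq a' γ hγ⟩⟩
  have hq : Nat.card Z = Nat.card (centredAt W x a) := by rw [hZ, card_lineW hT hx]
  have hcard : Nat.card (fixedBy Ω x) = Nat.card Q + 1 :=
    (show Nat.card (LinePt W x) = Nat.card Q + 1 from card_space hS₀)
  have hinv : ∀ r : lineGroup W x, (r : G) ∈ centredAt W x a → (r : G) ≠ 1 →
      proj W x r ∈ Cfsg.involutionsIn (stabilizer (LineImage W x) a' : Set (LineImage W x)) := by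
    intro r hr hr1
    have hmem : proj W x r ∈ lineW W x a' := mem_lineW.2 ⟨r, hr, rfl⟩
    exact ⟨hL.fix a' hmem, fun e => hr1 (congrArg Subtype.val (eq_one_of_proj hT hx hr e)),
      hL.sq a' _ hmem⟩
  have hat : ∀ {b : Ω} (hb : x • b = b), b ≠ a → ∃ t, Cfsg.IsRankOneSetup (LineImage W x)
      (LinePt W x) a' t Q ∧ t • a' = ⟨b, hb⟩ := fun hb hne =>
    exists_setup_at hS₀ fun e => hne (congrArg Subtype.val e)
  refine ⟨h4, ?_, ?_, ?_, ?_, ?_, ?_⟩
  -- size
  · rcases card_translations hS₀ h2 A with ⟨-, e | e⟩ | ⟨-, e⟩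
    · exact ⟨1, Or.inl rfl, by rw [pow_one, hcard, e, hq]⟩
    · exact ⟨2, Or.inr (Or.inl rfl), by rw [hcard, e, hq]⟩
    · exact ⟨3, Or.inr (Or.inr rfl), by rw [hcard, e, hq]⟩
  -- translations
  · intro b c hb hc hba hca
    obtain ⟨⟨q, hqQ⟩, hqb, -⟩ := regular hS₀ (b := ⟨b, hb⟩) (c := ⟨c, hc⟩)
      (fun e => hba (congrArg Subtype.val e)) fun e => hca (congrArg Subtype.val e)
    obtain ⟨j, hj⟩ := hQ2 ⟨q, hqQ⟩
    have hj' : q ^ 2 ^ j = 1 := congrArg Subtype.val hj
    obtain ⟨g₀, rfl⟩ := proj_surjective W x q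
    obtain ⟨g, hg, k, hk⟩ := exists_lift_two (proj W x) g₀ hj'
    refine ⟨g, g.2, (proj_fix_iff g a').1 (by rw [hg]; exact hS₀.le hqQ), ?_,
      k, congrArg Subtype.val hk⟩
    exact (congrArg (fun γ : LineImage W x => ((γ • (⟨b, hb⟩ : LinePt W x) : LinePt W x) : Ω)) hg).trans
      (congrArg Subtype.val hqb)
  -- semiregular
  · intro g hg hga ⟨k, hk⟩ b hb hba hgb c hc
    obtain ⟨t, hS, htb⟩ := hat hb hba
    have hd : proj W x ⟨g, hg⟩ ∈ two (LineImage W x) a' t := (mem_two hS).2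
      ⟨(proj_fix_iff _ a').2 hga, by rw [htb]; exact (proj_fix_iff _ _).2 hgb⟩
    refine (proj_eq_one_iff ⟨g, hg⟩).1 ?_ c hc
    have h1 := Subgroup.orderOf_dvd_natCard _ hd
    have h3 : orderOf (proj W x ⟨g, hg⟩) ∣ 2 ^ k := orderOf_dvd_of_pow_eq_one (by
      rw [← map_pow, show (⟨g, hg⟩ : lineGroup W x) ^ 2 ^ k = 1 from Subtype.ext hk, map_one])
    exact orderOf_eq_one_iff.1 (Nat.eq_one_of_dvd_coprimes
      ((Nat.coprime_two_right.2 hS.odd_card).pow_right k) h1 h3)
  -- involutions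
  · intro g hg hga hgg _
    have h1 : proj W x ⟨g, hg⟩ * proj W x ⟨g, hg⟩ = 1 := by
      rw [← map_mul]; exact (proj_eq_one_iff _).2 hgg
    obtain ⟨r, hr, hrg⟩ :=
      mem_lineW.1 (invol_mem_lineW hT hx hS₀ ((proj_fix_iff _ a').2 hga) h1)
    exact ⟨r, hr, fun c hc => ((proj_eq_iff r ⟨g, hg⟩).1 hrg c hc).symm⟩
  -- torus
  · intro b hb hba r hr s hs hr1 hs1
    obtain ⟨t, hS, htb⟩ := hat hb hba
    set r' : lineGroup W x := ⟨r, centredAt_le _ hr⟩
    set s' : lineGroup W x := ⟨s, centredAt_le _ hs⟩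
    obtain ⟨γ, hγ, hγs⟩ := exists_conj_inverted hS (hinv s' hs hs1) (hinv r' hr hr1)
    obtain ⟨hγa, hγb⟩ := (mem_two hS).1 hγ.1
    rw [htb] at hγb
    obtain ⟨g₀, rfl⟩ := proj_surjective W x γ
    obtain ⟨g, hg, hodd⟩ := exists_lift_odd (proj W x) g₀
      (hS.odd_card.of_dvd_nat (Subgroup.orderOf_dvd_natCard _ hγ.1))
    rw [← hg] at hγa hγb hγs
    refine ⟨g, g.2, (proj_fix_iff g a').1 hγa, (proj_fix_iff g _).1 hγb,
      by rwa [Subgroup.orderOf_coe],
      conj_eq_of_proj hT hx (r := r') (s := s') ((proj_fix_iff g a').1 hγa) hr hs ?_⟩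
    rw [← hγs]; group
  -- the unitary case
  · intro h3 b hb hba
    obtain ⟨t, hS, htb⟩ := hat hb hba
    obtain ⟨Z', K', A'⟩ := Small.exists_data hS h2
    have hZ' : Z' = Z := by ext γ; rw [A'.mem_Z, A.mem_Z]
    have hQ3 : Nat.card Q = Nat.card Z ^ 3 := by rw [hq]; omega
    have hW : kernelW (LineImage W x) a' t ≠ ⊥ := by
      rcases card_translations hS h2 A' with ⟨-, e⟩ | ⟨e, -⟩
      · exfalso
        rw [hZ', hQ3, hq] at e
        rcases e with e | e
        · have := Nat.pow_right_injective (show 2 ≤ Nat.card (centredAt W x a) by omega)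
            (e.trans (pow_one _).symm)
          omega
        · have := Nat.pow_right_injective (show 2 ≤ Nat.card (centredAt W x a) by omega) e
          omega
      · exact e
    obtain ⟨ζ, hζ, hζc, hζQ⟩ := exists_rotation hS h2 hW
    obtain ⟨hζa, hζb⟩ := (mem_two hS).1 hζ
    rw [htb] at hζb
    obtain ⟨z₀, rfl⟩ := proj_surjective W x ζ
    obtain ⟨z, hz, hodd⟩ := exists_lift_odd (proj W x) z₀
      (hS.odd_card.of_dvd_nat (Subgroup.orderOf_dvd_natCard _ hζ))
    rw [← hz] at hζ hζa hζb hζc hζQ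
    have hza : (z : G) • a = a := (proj_fix_iff z a').1 hζa
    refine ⟨z, z.2, hza, (proj_fix_iff z _).1 hζb, by rwa [Subgroup.orderOf_coe], fun r hr => ?_, ?_⟩
    · by_cases hr1 : r = 1
      · rw [hr1]; exact Commute.one_right _
      set r' : lineGroup W x := ⟨r, centredAt_le _ hr⟩
      exact mul_inv_eq_iff_eq_mul.1 (conj_eq_of_proj hT hx (g := z) (r := r') (s := r') hza hr hr
        (mul_inv_eq_iff_eq_mul.2 (hζc _ (hinv r' hr hr1))))
    · intro c hc hzc
      refine or_iff_not_imp_left.2 fun hca => ?_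
      obtain ⟨q, hqQ, hqz, hqc⟩ := exists_q_centralizer hS (X := {proj W x z})
        (fun y hy => by rw [Set.mem_singleton_iff.1 hy]; exact hζa)
        (c := ⟨b, hb⟩) (d := ⟨c, hc⟩)
        (fun e => hba (congrArg Subtype.val e)) (fun e => hca (congrArg Subtype.val e))
        (fun y hy => by rw [Set.mem_singleton_iff.1 hy]; exact hζb)
        (fun y hy => by rw [Set.mem_singleton_iff.1 hy]; exact (proj_fix_iff z _).2 hzc)
      have hq2 := hζQ q hqQ (Subgroup.mem_centralizer_singleton_iff.1 hqz).symm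
      obtain ⟨r, hr, hrq⟩ := mem_lineW.1 (invol_mem_lineW hT hx hS₀ (hS.le hqQ) hq2)
      rw [← hrq] at hqc
      exact ⟨r, hr, congrArg Subtype.val hqc⟩

end CfsgLib.LocalEven.TIEndgame
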