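import Cfsg.Agent.Lib.LocalEven.TIEndgame.Assembly
import Cfsg.Agent.Lib.LocalEven.TIEndgame.Line
import Cfsg.Agent.Lib.LocalEven.TIEndgame.Central.CubeLines

/-!
# Theorem T: from the splitting at proper cores to the hypotheses of the assembly
-/

set_option autoImplicit false

namespace CfsgLib.LocalEven.TIEndgame

open MulAction Subgroup

universe u

variable {G Ω : Type u} [Group G] [MulAction G Ω] {W : Ω → Subgroup G}

/-- The translation group at a point is unique. -/
theorem Loc.eq {H Q Q' : Subgroup G} {a : Ω} (hQ : Loc W H a Q) (hQ' : Loc W H a Q') : Q = Q' := by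
  have key : ∀ {R R' : Subgroup G}, Loc W H a R → Loc W H a R' → R ≤ R' := by
    intro R R' hR hR' x hx
    obtain ⟨k, hk⟩ := hR.pgroup ⟨x, hx⟩
    exact hR'.mem_of_two x (hR.le hx).1 (mem_stabilizer_iff.1 (hR.le hx).2)
      ⟨k, by simpa using congrArg Subtype.val hk⟩
  exact le_antisymm (key hQ hQ') (key hQ' hQ)

variable [Finite G] [Finite Ω] [FaithfulSMul G Ω]

/-- The data of every line. -/
theorem TIMin.lineHyp (h : TIMin G Ω W) : LineHyp W := fun _ _ hx hxa =>
  h.lineData hx hxa (h.four_le_centred hx hxa)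

/-- The local data of the bad involutions are those of the proper cores. -/
theorem TIMin.locHyp (h : TIMin G Ω W) (hcore : CoreLocHyp W) : LocHyp W := by
  intro x a hx hxa
  obtain ⟨b₀, hb₀, hb₀a⟩ : ∃ b, x • b = b ∧ b ≠ a := by
    obtain ⟨-, a₁, b₁, hne, ha₁, hb₁⟩ := id hx
    rcases eq_or_ne a₁ a with e | e
    · exact ⟨b₁, hb₁, fun e' => hne (e.trans e'.symm)⟩
    · exact ⟨a₁, ha₁, e⟩
  have hp := h.toTISetting.pts_centralizer (z := x) hx.1
  have hne := h.toTISetting.core_centralizer_ne_top hx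
  have h4 : 4 ≤ Nat.card ↥(W a ⊓ centralizer {x}) := h.four_le_centred hx hxa
  have hget := fun (b : Ω) (hb : b ∈ pts W (centralizer {x})) (hba : b ≠ a) =>
    hcore _ a b hne (hp.symm ▸ hxa) hb hba h4
  obtain ⟨Q, hQ, -⟩ := hget b₀ (hp.symm ▸ hb₀) hb₀a
  refine ⟨Q, hQ, fun b hb hba => ?_⟩
  obtain ⟨Q', hQ', hJ⟩ := hget b hb hba
  rw [hQ.eq hQ']
  exact hJ

end CfsgLib.LocalEven.TIEndgame
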