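import Mathlib

/-!
# No pairing invariant under a scalar of an odd degree field

A commutative set of endomorphisms of an elementary abelian group `V` of order `2 ^ r`, `r` odd,
transitive on the nonzero vectors generates a field. So no element `c ≠ 1` of it has the same
minimal polynomial as its inverse: a biadditive map invariant under `c` is zero.
-/

set_option autoImplicit false
set_option linter.style.haveILetI false

namespace CfsgLib.LocalEven.TIEndgame.InvariantPairing

open Polynomial

variable {V U : Type*} [AddCommGroup V] [AddCommGroup U] {S : Set (AddMonoid.End V)}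
  (hcomm : ∀ f ∈ S, ∀ g ∈ S, f * g = g * f)
  (htrans : ∀ v : V, v ≠ 0 → ∀ w : V, w ≠ 0 → ∃ f ∈ S, f v = w)
include hcomm htrans

/-- An endomorphism commuting with the transitive set has no kernel unless it is zero. -/
theorem apply_ne_zero {f : AddMonoid.End V} (hf : ∀ g ∈ S, f * g = g * f) (hf0 : f ≠ 0) {v : V}
    (hv : v ≠ 0) : f v ≠ 0 := by
  have _ := hcomm
  intro e
  refine hf0 (AddMonoidHom.ext fun w => ?_)
  by_cases hw : w = 0
  · exact (congrArg f hw).trans (map_zero (f : V →+ V))
  obtain ⟨g, hg, rfl⟩ := htrans v hv w hw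
  show (f * g) v = 0
  rw [hf g hg]
  show g (f v) = 0
  rw [e, map_zero]

/-- Minus one plus an element other than one is onto. -/
theorem sub_one_surjective [Finite V] {c : AddMonoid.End V} (hc : c ∈ S) (hc1 : c ≠ 1) :
    Function.Surjective fun v : V => c v - v := by
  refine Finite.injective_iff_surjective.1 fun x y e => ?_
  by_contra hne
  have h := apply_ne_zero hcomm htrans (f := c - 1)
    (fun g hg => by rw [sub_mul, mul_sub, one_mul, mul_one, hcomm c hc g hg])
    (sub_ne_zero.2 hc1) (v := x - y) (sub_ne_zero.2 hne)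
  refine h ?_
  show c (x - y) - (x - y) = 0
  replace e : c x - x = c y - y := e
  rw [show c (x - y) = c x - c y from map_sub (c : V →+ V) x y,
    show c x - c y - (x - y) = (c x - x) - (c y - y) by abel, e, sub_self]

/-- An invariant additive map is zero. -/
theorem hom_eq_zero [Finite V] {c : AddMonoid.End V} (hc : c ∈ S) (hc1 : c ≠ 1) (φ : V →+ U)
    (hφ : ∀ v, φ (c v) = φ v) : φ = 0 := by
  refine AddMonoidHom.ext fun w => ?_
  obtain ⟨v, rfl⟩ := sub_one_surjective hcomm htrans hc hc1 w
  show φ (c v - v) = 0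
  rw [map_sub, hφ, sub_self]

/-- An invariant biadditive map is zero. -/
theorem eq_zero_of_invariant [Finite V] {r : ℕ} (hr : Odd r) (hV : Nat.card V = 2 ^ r)
    (h2 : ∀ v : V, v + v = 0) {c : AddMonoid.End V} (hc : c ∈ S) (hc1 : c ≠ 1) (β : V →+ V →+ U)
    (hβ : ∀ x y, β (c x) (c y) = β x y) : β = 0 := by
  have hz2 : ∀ a : ZMod 2, a = 0 ∨ a = 1 := by decide
  classical
  haveI : Fact (Nat.Prime 2) := ⟨Nat.prime_two⟩
  by_contra hβ0
  haveI : Nontrivial V := by
    rw [← Finite.one_lt_card_iff_nontrivial, hV]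
    exact Nat.one_lt_two_pow (fun e => by rw [e] at hr; exact absurd hr (by decide))
  haveI : Finite (AddMonoid.End V) :=
    Finite.of_injective (fun f => (f : V → V)) DFunLike.coe_injective
  set F := Subring.closure S with hF
  have hcen : ∀ f ∈ F, ∀ g ∈ S, f * g = g * f := by
    intro f hf g hg
    induction hf using Subring.closure_induction with
    | mem x hx => exact hcomm x hx g hg
    | zero => rw [zero_mul, mul_zero]
    | one => rw [one_mul, mul_one]
    | add x y _ _ hx hy => rw [add_mul, mul_add, hx, hy]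
    | neg x _ hx => rw [neg_mul, mul_neg, hx]
    | mul x y _ _ hx hy => rw [mul_assoc, hy, ← mul_assoc, hx, mul_assoc]
  have hcenF : ∀ f ∈ F, ∀ g ∈ F, f * g = g * f := by
    intro f hf g hg
    induction hg using Subring.closure_induction with
    | mem x hx => exact hcen f hf x hx
    | zero => rw [zero_mul, mul_zero]
    | one => rw [one_mul, mul_one]
    | add x y _ _ hx hy => rw [add_mul, mul_add, hx, hy]
    | neg x _ hx => rw [neg_mul, mul_neg, hx]
    | mul x y _ _ hx hy => rw [← mul_assoc, hx, mul_assoc, hy, ← mul_assoc]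
  letI : CommRing F :=
    { (inferInstance : Ring F) with mul_comm := fun x y => Subtype.ext (hcenF x x.2 y y.2) }
  haveI : Nontrivial F := ⟨1, 0, fun e => by
    obtain ⟨v, hv⟩ := exists_ne (0 : V)
    exact hv (congrArg (fun f : F => (f : AddMonoid.End V) v) e)⟩
  haveI : NoZeroDivisors F := ⟨fun {x y} e => by
    by_contra hxy
    rw [not_or] at hxy
    obtain ⟨v, hv⟩ := exists_ne (0 : V)
    refine apply_ne_zero hcomm htrans (hcen x x.2) (fun e' => hxy.1 (Subtype.ext e'))
      (apply_ne_zero hcomm htrans (hcen y y.2) (fun e' => hxy.2 (Subtype.ext e')) hv) ?_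
    exact congrArg (fun f : F => (f : AddMonoid.End V) v) e⟩
  haveI : IsDomain F := NoZeroDivisors.to_isDomain F
  letI : Field F := (Finite.isField_of_domain F).toField
  obtain ⟨v0, hv0⟩ := exists_ne (0 : V)
  have hcard : Nat.card F = 2 ^ r := by
    rw [← hV]
    refine le_antisymm (Nat.card_le_card_of_injective (fun f : F => (f : AddMonoid.End V) v0)
      fun f g e => ?_) (Nat.card_le_card_of_surjective (fun f : F => (f : AddMonoid.End V) v0)
      fun w => ?_)
    · by_contra hne
      exact apply_ne_zero hcomm htrans (hcen _ (f - g).2)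
        (fun e' => hne (sub_eq_zero.1 (Subtype.ext e'))) hv0
        (by show (f : AddMonoid.End V) v0 - (g : AddMonoid.End V) v0 = 0; exact sub_eq_zero.2 e)
    · by_cases hw : w = 0
      · exact ⟨0, hw.symm⟩
      · obtain ⟨g, hg, hgv⟩ := htrans v0 hv0 w hw
        exact ⟨⟨g, Subring.subset_closure hg⟩, hgv⟩
  haveI : CharP F 2 := by
    refine CharTwo.of_one_ne_zero_of_two_eq_zero one_ne_zero (Subtype.ext (AddMonoidHom.ext fun v => ?_))
    rw [show ((2 : F) : AddMonoid.End V) = 1 + 1 by rw [← one_add_one_eq_two]; rfl]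
    exact h2 v
  letI : Algebra (ZMod 2) F := ZMod.algebra F 2
  haveI : Fintype F := Fintype.ofFinite F
  have hfin : Module.finrank (ZMod 2) F = r := by
    have := Module.card_eq_pow_finrank (K := ZMod 2) (V := F)
    rw [ZMod.card, ← Nat.card_eq_fintype_card, hcard] at this
    exact (Nat.pow_right_injective le_rfl this).symm
  set c0 : F := ⟨c, Subring.subset_closure hc⟩ with hc0
  have hc00 : c0 ≠ 0 := fun e => by
    refine hβ0 (AddMonoidHom.ext fun x => AddMonoidHom.ext fun y => ?_)
    have := hβ x y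
    rw [show c = 0 from congrArg Subtype.val e] at this
    simpa using this.symm
  -- the adjoint of `p c` is `p c⁻¹`
  have hadj1 : ∀ x y, β ((c0 : AddMonoid.End V) x) y = β x (((c0⁻¹ : F) : AddMonoid.End V) y) := by
    intro x y
    have h1 : (c0 : AddMonoid.End V) * ((c0⁻¹ : F) : AddMonoid.End V) = 1 :=
      congrArg Subtype.val (mul_inv_cancel₀ hc00)
    rw [← hβ x, show c (((c0⁻¹ : F) : AddMonoid.End V) y) = y from
      congrArg (fun f : AddMonoid.End V => f y) h1]
  have hadj : ∀ p : (ZMod 2)[X], ∀ x y, β (((aeval c0 p : F) : AddMonoid.End V) x) y =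
      β x (((aeval c0⁻¹ p : F) : AddMonoid.End V) y) := by
    intro p
    induction p using Polynomial.induction_on with
    | C a =>
      intro x y
      rw [aeval_C, aeval_C]
      obtain rfl | rfl : a = 0 ∨ a = 1 := hz2 a
      · simp only [map_zero, ZeroMemClass.coe_zero]
        show β 0 y = β x 0
        rw [map_zero, map_zero, AddMonoidHom.zero_apply]
      · simp only [map_one, OneMemClass.coe_one]
        rfl
    | add p q hp hq =>
      intro x y
      rw [map_add, map_add]
      show β (((aeval c0 p : F) : AddMonoid.End V) x + ((aeval c0 q : F) : AddMonoid.End V) x) y =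
        β x (((aeval c0⁻¹ p : F) : AddMonoid.End V) y + ((aeval c0⁻¹ q : F) : AddMonoid.End V) y)
      rw [map_add, map_add, AddMonoidHom.add_apply, hp, hq]
    | monomial n a ih =>
      intro x y
      rw [pow_succ, ← mul_assoc, map_mul _ (C a * X ^ n), map_mul _ (C a * X ^ n), aeval_X, aeval_X]
      show β (((aeval c0 (C a * X ^ n) : F) : AddMonoid.End V) ((c0 : AddMonoid.End V) x)) y = _
      rw [ih, hadj1]
      rw [show (aeval c0⁻¹ (C a * X ^ n) * c0⁻¹ : F) = c0⁻¹ * aeval c0⁻¹ (C a * X ^ n) from mul_comm _ _]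
      rfl
  have hroot : aeval c0⁻¹ (minpoly (ZMod 2) c0) = 0 := by
    by_contra hne
    refine hβ0 (AddMonoidHom.ext fun x => AddMonoidHom.ext fun y => ?_)
    obtain ⟨y', rfl⟩ := Finite.injective_iff_surjective.1 (fun u u' e => by
      by_contra huv
      refine apply_ne_zero hcomm htrans (hcen _ (aeval c0⁻¹ (minpoly (ZMod 2) c0) : F).2)
        (fun e' => hne (Subtype.ext e')) (v := u - u') (sub_ne_zero.2 huv) ?_
      rw [map_sub, sub_eq_zero]
      exact e : Function.Injective fun u : V =>
        ((aeval c0⁻¹ (minpoly (ZMod 2) c0) : F) : AddMonoid.End V) u) y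
    rw [← hadj, minpoly.aeval]
    simp
  haveI : FiniteDimensional (ZMod 2) F := Module.Finite.of_finite
  obtain ⟨σ, hσ⟩ := minpoly.exists_algEquiv_of_root' (Algebra.IsAlgebraic.isAlgebraic c0) hroot
  have hσσ : σ (σ c0) = c0 := by rw [hσ, map_inv₀, hσ, inv_inv]
  have hodd : Odd (orderOf σ) := by
    refine Odd.of_dvd_nat hr ?_
    rw [← hfin, ← IsGalois.card_aut_eq_finrank]
    exact orderOf_dvd_natCard σ
  obtain ⟨k, hk⟩ := hodd
  have hfix : ∀ i, (σ ^ (2 * i)) c0 = c0 := by
    intro i
    induction i with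
    | zero => rfl
    | succ i ih =>
      rw [show 2 * (i + 1) = 2 * i + 1 + 1 by ring, pow_succ, pow_succ, AlgEquiv.mul_apply,
        AlgEquiv.mul_apply, hσσ, ih]
  have hone : c0⁻¹ = c0 := by
    rw [← hσ]
    have h1 : (σ ^ (2 * k + 1)) c0 = c0 := by rw [← hk, pow_orderOf_eq_one]; rfl
    rwa [pow_succ', AlgEquiv.mul_apply, hfix] at h1
  have hsq : c0 * c0 = 1 := by nth_rewrite 1 [← hone]; exact inv_mul_cancel₀ hc00
  refine hc1 (congrArg Subtype.val (show c0 = 1 from ?_))
  exact sub_eq_zero.1 (mul_self_eq_zero.1 (by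
    have h20 : (2 : F) = 0 := CharTwo.two_eq_zero
    linear_combination hsq - (c0 - 1) * h20))

end CfsgLib.LocalEven.TIEndgame.InvariantPairing
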