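import Cfsg.Agent.Lib.Involution.Basic

/-!
# Isolated sets of commuting involutions

A conjugation-invariant set of involutions closed under products of two distinct commuting
members, on which commuting is transitive: two members either commute or are conjugate.
Two commuting non-conjugate members therefore commute with every member.
-/

set_option autoImplicit false

namespace CfsgLib.LocalEven.TIEndgame

variable {G : Type*} [Group G]

/-- A conjugation-invariant set of involutions split into commuting cliques ("pencils"). -/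
structure Pencils (I : Set G) : Prop where
  inv : ∀ x ∈ I, orderOf x = 2
  conj : ∀ (g : G), ∀ x ∈ I, g * x * g⁻¹ ∈ I
  mul : ∀ x ∈ I, ∀ y ∈ I, x ≠ y → Commute x y → x * y ∈ I
  trans : ∀ x ∈ I, ∀ y ∈ I, ∀ z ∈ I, Commute x z → Commute y z → Commute x y

namespace Pencils

variable {I : Set G} (h : Pencils I) [Finite G]
include h

theorem commute_or_isConj {x y : G} (hx : x ∈ I) (hy : y ∈ I) : Commute x y ∨ IsConj x y := by
  have hx1 : x * x = 1 := by rw [← sq, ← h.inv x hx, pow_orderOf_eq_one]
  have hy1 : y * y = 1 := by rw [← sq, ← h.inv y hy, pow_orderOf_eq_one]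
  rcases Nat.even_or_odd (orderOf (x * y)) with ⟨k, hk⟩ | ⟨k, hk⟩
  swap
  · right
    set c := x * y with hc
    have hinv : ∀ i : ℕ, c ^ i * y = y * (c ^ i)⁻¹ := by
      intro i
      induction i with
      | zero => simp
      | succ i ih =>
        have hyc : c * y = y * c⁻¹ := by
          have hx' : x⁻¹ = x := inv_eq_of_mul_eq_one_right hx1
          have hy' : y⁻¹ = y := inv_eq_of_mul_eq_one_right hy1
          rw [hc, mul_inv_rev, hx', hy', mul_assoc, hy1, mul_one, ← mul_assoc, hy1, one_mul]
        rw [pow_succ', mul_assoc, ih, ← mul_assoc, hyc, mul_assoc, ← mul_inv_rev,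
          (Commute.self_pow c i).eq]
    have hck : c ^ (2 * k + 1) = 1 := hk ▸ pow_orderOf_eq_one c
    refine (isConj_iff.2 ⟨c ^ (k + 1), ?_⟩).symm
    calc c ^ (k + 1) * y * (c ^ (k + 1))⁻¹ = (c ^ (k + 1) * (c ^ (k + 1))) * y := by
          rw [mul_assoc, ← hinv, ← mul_assoc]
      _ = c * y := by
          rw [← pow_add, show k + 1 + (k + 1) = 2 * k + 1 + 1 by omega, pow_succ, hck, one_mul]
      _ = x := by rw [hc, mul_assoc, hy1, mul_one]
  · left
    set c := x * y with hc
    set z := c ^ k with hz
    have hx' : x⁻¹ = x := inv_eq_of_mul_eq_one_right hx1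
    have hxc : x * c * x⁻¹ = c⁻¹ := by
      rw [hc, mul_inv_rev, inv_eq_of_mul_eq_one_right hy1, hx', ← mul_assoc, hx1, one_mul]
    have hk0 : 0 < k := by
      have := orderOf_pos c
      omega
    have hzz : z * z = 1 := by rw [hz, ← pow_add, ← hk, pow_orderOf_eq_one]
    have hz' : z⁻¹ = z := inv_eq_of_mul_eq_one_right hzz
    have hz1 : z ≠ 1 := pow_ne_one_of_lt_orderOf (by omega) (by omega)
    have hxz : x * z = z * x := by
      calc x * z = x * z * x⁻¹ * x := by rw [inv_mul_cancel_right]
        _ = z * x := by rw [hz, ← conj_pow, hxc, inv_pow, ← hz, hz']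
    have hyx : y = x * c := by rw [hc, ← mul_assoc, hx1, one_mul]
    have hyz : y * z = z * y := by
      rw [hyx, mul_assoc, (Commute.pow_self c k).eq.symm, ← mul_assoc, hxz, mul_assoc]
    -- `x * z` is a conjugate of `x` or of `y`
    have hxzI : x * z ∈ I := by
      obtain ⟨j, hj | hj⟩ : ∃ j, k = 2 * j ∨ k = 2 * j + 1 := ⟨k / 2, by omega⟩
      · have := h.conj (c ^ j)⁻¹ x hx
        rwa [inv_inv, show (c ^ j)⁻¹ * x * c ^ j = x * z by
          rw [← inv_pow, ← hxc, conj_pow, hx', mul_assoc, mul_assoc, mul_assoc,
            ← mul_assoc x x, hx1, one_mul, ← pow_add, hz, hj, two_mul]] at this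
      · have := h.conj (c ^ j)⁻¹ y hy
        rwa [inv_inv, show (c ^ j)⁻¹ * y * c ^ j = x * z by
          rw [← inv_pow, ← hxc, conj_pow, hx', hyx, mul_assoc, mul_assoc, mul_assoc, mul_assoc,
            ← mul_assoc x x, hx1, one_mul, ← pow_succ', ← pow_add, hz, hj]
          congr 2
          omega] at this
    have hzI : z ∈ I := by
      have := h.mul x hx (x * z) hxzI (fun e => hz1 (mul_left_cancel (a := x) (by rw [← e, mul_one])))
        ((Commute.refl x).mul_right hxz)
      rwa [← mul_assoc, hx1, one_mul] at this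
    exact h.trans x hx y hy z hzI hxz hyz

/-- Two commuting non-conjugate members commute with all members. -/
theorem commute_all {a b : G} (ha : a ∈ I) (hb : b ∈ I) (hab : Commute a b) (hne : ¬ IsConj a b)
    {x : G} (hx : x ∈ I) : Commute x a := by
  rcases h.commute_or_isConj hx ha with hc | hc
  · exact hc
  · rcases h.commute_or_isConj hx hb with hd | hd
    · exact h.trans x hx a ha b hb hd hab
    · exact absurd (hc.symm.trans hd) hne

end Pencils

end CfsgLib.LocalEven.TIEndgame
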