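import Cfsg.Agent.Lib.LocalEven.TIEndgame.Middle
import Cfsg.Agent.Lib.Coprime.Generation

/-!
# Odd subgroups normalised by two commuting members at a point

Such a subgroup fixes the point: it is generated by its centralisers of the three involutions of
the four-group, and each of the three fixes exactly that point.
-/

set_option autoImplicit false

namespace CfsgLib.LocalEven.TIEndgame

open MulAction Subgroup CfsgLib.Involution

variable {G Ω : Type*} [Group G] [MulAction G Ω] {D : Set G}

namespace OnePoint

variable (h : OnePoint D Ω)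
include h

/-- Whatever commutes with the product of two commuting members at a point fixes that point. -/
theorem fix_of_commute_mul {d e g : G} {a : Ω} (hd : d ∈ dat D a) (he : e ∈ dat D a)
    (hde : Commute d e) (hne : d ≠ e) (hc : Commute (d * e) g) : g • a = a := by
  have hfix : (d * e) • a = a := by rw [mul_smul, he.2, hd.2]
  refine h.pair_unique d hd.1 e he.1 hde hne (g • a) a ?_ hfix
  rw [smul_smul, hc.eq, ← smul_smul, hfix]

variable [Finite G]

/-- A subgroup of odd order normalised by two commuting members at a point fixes that point. -/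
theorem le_stabilizer_of_normalised {d e : G} {a : Ω} (hd : d ∈ dat D a) (he : e ∈ dat D a)
    (hde : Commute d e) (hne : d ≠ e) {X : Subgroup G} (hX : Odd (Nat.card X))
    (hdX : d ∈ normalizer (X : Set G)) (heX : e ∈ normalizer (X : Set G)) :
    X ≤ stabilizer G a := by
  have hd2 := h.orderOf_eq d hd.1
  have he2 := h.orderOf_eq e he.1
  have hed : e * d = d * e := hde.symm.eq
  -- the four-group
  let A : Subgroup G :=
    { carrier := {x | x = 1 ∨ x = d ∨ x = e ∨ x = d * e}
      one_mem' := Or.inl rfl
      mul_mem' := by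
        have hdd := h.mul_self hd.1
        have hee := h.mul_self he.1
        have h1 : d * (d * e) = e := by rw [← mul_assoc, hdd, one_mul]
        have h2 : e * (d * e) = d := by rw [← mul_assoc, hed, mul_assoc, hee, mul_one]
        have h3 : d * e * d = e := by rw [mul_assoc, hed, h1]
        have h4 : d * e * e = d := by rw [mul_assoc, hee, mul_one]
        have h5 : d * e * (d * e) = 1 := by rw [mul_assoc, h2, hdd]
        rintro x y (rfl | rfl | rfl | rfl) (rfl | rfl | rfl | rfl) <;>
          simp [hdd, hee, hed, h1, h2, h3, h4, h5]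
      inv_mem' := by
        rintro x (rfl | rfl | rfl | rfl)
        · exact Or.inl inv_one
        · exact Or.inr (Or.inl (h.inv_eq hd.1))
        · exact Or.inr (Or.inr (Or.inl (h.inv_eq he.1)))
        · exact Or.inr (Or.inr (Or.inr (by rw [mul_inv_rev, h.inv_eq hd.1, h.inv_eq he.1, hed]))) }
  have hA2 : ∀ x ∈ A, x * x = 1 := by
    rintro x (rfl | rfl | rfl | rfl)
    · exact mul_one 1
    · exact h.mul_self hd.1
    · exact h.mul_self he.1
    · rw [mul_assoc, ← mul_assoc e, hed, mul_assoc d, h.mul_self he.1, mul_one, h.mul_self hd.1]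
  have hcomm : IsMulCommutative A := ⟨⟨fun x y => Subtype.ext (by
    have h1 := hA2 _ x.2
    have h2 := hA2 _ y.2
    have h3 := hA2 _ (mul_mem x.2 y.2)
    calc (x : G) * y = ((x : G) * y)⁻¹ := eq_inv_of_mul_eq_one_left h3
      _ = (y : G) * x := by
        rw [mul_inv_rev, ← eq_inv_of_mul_eq_one_left h1, ← eq_inv_of_mul_eq_one_left h2])⟩⟩
  have hdA : d ∈ A := Or.inr (Or.inl rfl)
  have heA : e ∈ A := Or.inr (Or.inr (Or.inl rfl))
  have hA : IsPGroup 2 A := fun x => ⟨1, Subtype.ext (by simpa [pow_two] using hA2 _ x.2)⟩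
  have hnc : ¬ IsCyclic A := by
    intro hc
    haveI := hc
    obtain ⟨g, hg⟩ := IsCyclic.exists_generator (α := A)
    have hg2 : g * g = 1 := Subtype.ext (hA2 _ g.2)
    have key : ∀ x : A, x = 1 ∨ x = g := fun x => by
      obtain ⟨i, rfl⟩ := mem_zpowers_iff.1 (hg x)
      have : g ^ (2 : ℤ) = 1 := by rw [zpow_two, hg2]
      rw [← Int.emod_add_mul_ediv i 2, zpow_add, zpow_mul, this, one_zpow, mul_one]
      rcases Int.emod_two_eq_zero_or_one i with hi | hi <;> simp [hi]
    have hd1 : (⟨d, hdA⟩ : A) ≠ 1 := fun e' => Dihedral.ne_one hd2 (congrArg Subtype.val e')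
    have he1 : (⟨e, heA⟩ : A) ≠ 1 := fun e' => Dihedral.ne_one he2 (congrArg Subtype.val e')
    exact hne (congrArg Subtype.val
      (((key ⟨d, hdA⟩).resolve_left hd1).trans ((key ⟨e, heA⟩).resolve_left he1).symm))
  have hAX : A ≤ normalizer (X : Set G) := by
    rintro x (rfl | rfl | rfl | rfl)
    · exact one_mem _
    · exact hdX
    · exact heX
    · exact mul_mem hdX heX
  have hcop : (Nat.card A).Coprime (Nat.card X) := by
    obtain ⟨n, hn⟩ := IsPGroup.iff_card.1 hA
    rw [hn]
    exact (Nat.coprime_two_left.2 hX).pow_left n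
  rw [← CfsgLib.Coprime.iSup_centralizer_singleton hnc hAX hcop]
  refine iSup₂_le fun x hx g hg => mem_stabilizer_iff.2 ?_
  have hxg : Commute x g := mem_centralizer_iff.1 (mem_inf.1 hg).2 x rfl
  obtain ⟨hxA, hx1⟩ := hx
  rcases hxA with rfl | rfl | rfl | rfl
  · exact absurd rfl hx1
  · exact h.fix_of_commute hd.1 hd.2 hxg
  · exact h.fix_of_commute he.1 he.2 hxg
  · exact h.fix_of_commute_mul hd he hde hne hxg

end OnePoint

end CfsgLib.LocalEven.TIEndgame
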