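import Cfsg.Agent.Lib.LocalEven.TIEndgame.OddTransitiveNormaliser
import Cfsg.Agent.Lib.KnownC.AutPSL.Outer

/-!
# The normaliser of an odd transitive group is semilinear

So its 2-subgroups are cyclic: a 2-element of scalars is trivial and the automorphisms of a finite
field form a cyclic group.
-/

set_option autoImplicit false
set_option linter.style.haveILetI false

namespace CfsgLib.LocalEven.TIEndgame.OddTransitiveGamma

open MulAction CfsgLib.LocalEven.TIEndgame.OddTransitiveNormaliser

universe u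

theorem le_two_pow_half {n : ℕ} (hn : 1 ≤ n) : 2 * n ≤ 2 ^ n := by
  induction n, hn using Nat.le_induction with
  | base => norm_num
  | succ n hn ih =>
    have : 2 ≤ 2 ^ n := Nat.one_lt_two_pow (by omega)
    rw [pow_succ]
    omega

/-- In a field of order `2 ^ r` a set with at least `(2 ^ r - 1) / r` elements generates the
field. -/
theorem closure_eq_top' {R : Type*} [Field R] [Finite R] [CharP R 2] {r : ℕ}
    (hr0 : r ≠ 0) (hR : Nat.card R = 2 ^ r) {S : Set R} (h0 : (0 : R) ∉ S)
    (hS : 2 ^ r - 1 ≤ r * S.ncard) : Subfield.closure S = ⊤ := by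
  classical
  set K := Subfield.closure S with hK
  by_contra hne
  haveI : CharP K 2 := K.subtype.charP K.subtype.injective 2
  letI : Algebra (ZMod 2) K := ZMod.algebra K 2
  obtain ⟨k, hk⟩ : ∃ k, Nat.card K = 2 ^ k :=
    ⟨_, (Module.natCard_eq_pow_finrank (K := ZMod 2) (V := K)).trans (by rw [Nat.card_zmod])⟩
  have hpow := Module.natCard_eq_pow_finrank (K := K) (V := R)
  set m := Module.finrank K R with hm
  rw [hR, hk, ← pow_mul] at hpow
  have hkm : r = k * m := Nat.pow_right_injective le_rfl hpow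
  have hk0 : k ≠ 0 := by
    rintro rfl
    rw [zero_mul] at hkm
    omega
  have hm2 : 2 ≤ m := by
    rcases Nat.lt_or_ge m 2 with h | h
    · interval_cases m
      · omega
      · refine absurd (eq_top_iff.2 fun x _ => ?_) hne
        have hle : Nat.card R ≤ Nat.card K := by rw [hR, hk, hkm, mul_one]
        obtain ⟨y, rfl⟩ := (Function.Injective.bijective_of_nat_card_le
          (f := (Subtype.val : K → R)) Subtype.val_injective hle).2 x
        exact y.2
    · exact h
  obtain ⟨n, rfl⟩ : ∃ n, r = k + n := ⟨r - k, by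
    have : k ≤ r := hkm ▸ Nat.le_mul_of_pos_right k (by omega)
    omega⟩
  have hkn : k ≤ n := by
    have := Nat.mul_le_mul_left k hm2
    omega
  have hle : k + n ≤ 2 ^ n := (by omega : k + n ≤ 2 * n).trans (le_two_pow_half (by omega))
  have hcard : S.ncard + 1 ≤ 2 ^ k := by
    rw [← hk, ← Set.ncard_insert_of_notMem h0 (Set.toFinite S),
      show Nat.card K = (K : Set R).ncard from Nat.card_coe_set_eq _]
    exact Set.ncard_le_ncard (Set.insert_subset (zero_mem K) Subfield.subset_closure)
  have h1 : (k + n) * S.ncard + 2 ^ n ≤ 2 ^ n * 2 ^ k :=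
    (Nat.add_le_add_right (Nat.mul_le_mul_right _ hle) _).trans
      (le_of_eq_of_le (by ring) (Nat.mul_le_mul_left (2 ^ n) hcard))
  have h2 : 2 ≤ 2 ^ n := Nat.one_lt_two_pow (by omega)
  rw [pow_add, mul_comm (2 ^ k)] at hS
  omega

/-- The 2-subgroups of the normaliser of an odd transitive group are cyclic. -/
theorem isCyclic {V : Type u} [Group V] [Finite V] (hV2 : ∀ v : V, v * v = 1) {r : ℕ} (hr0 : r ≠ 0)
    (hV : Nat.card V = 2 ^ r) (D : Subgroup (MulAut V)) (hodd : Odd (Nat.card D))
    (htrans : ∀ v w : V, v ≠ 1 → w ≠ 1 → ∃ d ∈ D, d v = w) (P : Subgroup (MulAut V))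
    (hP : IsPGroup 2 P) (hPD : ∀ g ∈ P, ∀ d ∈ D, g * d * g⁻¹ ∈ D) : IsCyclic P := by
  classical
  have hinv : ∀ v : V, v⁻¹ = v := fun v => inv_eq_of_mul_eq_one_right (hV2 v)
  letI : CommGroup V := { ‹Group V› with
    mul_comm := fun v w => by
      calc v * w = (v * w)⁻¹ := (hinv _).symm
        _ = w * v := by rw [mul_inv_rev, hinv, hinv] }
  haveI : Finite (MulAut V) := Finite.of_injective _ DFunLike.coe_injective
  obtain ⟨hcyc, hDcard, R, _, _, hchar, hR, ψ, hψ⟩ :=
    exists_field hV2 hr0 hV D hodd htrans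
  -- transport to the field
  let φ : MulAut V →* AddMonoid.End R :=
    { toFun := fun d => ψ.toAddMonoidHom.comp ((MulEquiv.toAdditive d).toAddMonoidHom.comp
        ψ.symm.toAddMonoidHom)
      map_one' := AddMonoidHom.ext fun x => ψ.apply_symm_apply x
      map_mul' := fun d d' => AddMonoidHom.ext fun x =>
        congrArg ψ (congrArg (MulEquiv.toAdditive d) (ψ.symm_apply_apply _).symm) }
  have hφ : ∀ (d : MulAut V) (v : V),
      φ d (ψ (Additive.ofMul v)) = ψ (Additive.ofMul (d v)) := fun d v => by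
    show ψ ((MulEquiv.toAdditive d) (ψ.symm (ψ (Additive.ofMul v)))) = _
    rw [ψ.symm_apply_apply]
    rfl
  have hφmul : ∀ (d d' : MulAut V) (x : R), φ (d * d') x = φ d (φ d' x) := fun d d' x => by
    rw [map_mul]; rfl
  have hφinj : Function.Injective φ := fun d d' h => MulEquiv.ext fun v => by
    have := congrArg (fun e : AddMonoid.End R => e (ψ (Additive.ofMul v))) h
    simp only [hφ] at this
    exact Additive.ofMul.injective (ψ.injective this)
  have hsemi : ∀ d : D, ∃ p : R × (R ≃+* R), p.1 ≠ 0 ∧ ∀ x, φ d x = p.1 * p.2 x := fun d => by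
    obtain ⟨c, θ, hc, h⟩ := hψ d d.2
    refine ⟨(c, θ), hc, fun x => ?_⟩
    obtain ⟨v, rfl⟩ : ∃ v, ψ (Additive.ofMul v) = x := ⟨(ψ.symm x).toMul, by simp⟩
    rw [hφ]; exact h v
  choose p hp0 hp using hsemi
  have huniq : ∀ (d : D) (c : R) (θ : R ≃+* R), (∀ x, φ d x = c * θ x) → (p d).2 = θ := by
    intro d c θ h
    have h1 : (p d).1 = c := by simpa [hp d 1] using h 1
    exact RingEquiv.ext fun x => mul_left_cancel₀ (hp0 d) (by rw [← hp d x, h x, h1])
  let π : D →* (R ≃+* R) := MonoidHom.mk' (fun d => (p d).2) fun d d' =>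
    huniq (d * d') ((p d).1 * (p d).2 (p d').1) _ fun x => by
      rw [Subgroup.coe_mul, hφmul, hp d', hp d, map_mul, ← mul_assoc]
      rfl
  have hscal : ∀ d : D, d ∈ π.ker ↔ ∀ x, φ d x = (p d).1 * x := fun d => by
    refine ⟨fun hd x => ?_, fun hd => huniq d (p d).1 1 hd⟩
    rw [hp d, show (p d).2 = 1 from hd]
    rfl
  haveI : Finite (R ≃+* R) := Finite.of_injective _ DFunLike.coe_injective
  have hTcard : 2 ^ r - 1 ≤ r * Nat.card π.ker := by
    refine hDcard.trans ?_
    rw [← π.ker.card_mul_index, Subgroup.index_ker, mul_comm r]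
    refine Nat.mul_le_mul_left _ ?_
    calc Nat.card π.range ≤ Nat.card (R ≃+* R) := Subgroup.card_le_card_group _
      _ = r := OddTransitiveCard.card_ringAut hR
  set S : Set R := Set.range fun t : π.ker => (p t).1 with hS
  have hScard : S.ncard = Nat.card π.ker := by
    rw [hS, ← Nat.card_coe_set_eq]
    refine Nat.card_range_of_injective fun t t' h => Subtype.ext (Subtype.ext (hφinj
      (DFunLike.ext _ _ fun x => ?_)))
    rw [(hscal t).1 t.2, (hscal t').1 t'.2]
    exact congrArg (· * x) h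
  have htop : Subfield.closure S = ⊤ := closure_eq_top' hr0 hR
    (by rintro ⟨t, ht⟩; exact hp0 t ht) (by rwa [hScard])
  -- the scalars form the Fitting subgroup
  haveI : Group.IsNilpotent π.ker := by
    letI : CommGroup π.ker := { (inferInstance : Group π.ker) with
      mul_comm := fun t t' => Subtype.ext (Subtype.ext (hφinj (DFunLike.ext _ _ fun x => by
        simp only [Subgroup.coe_mul, hφmul, (hscal t).1 t.2, (hscal t').1 t'.2, mul_left_comm]))) }
    exact CommGroup.isNilpotent
  have hTF : π.ker ≤ Cfsg.fittingSubgroup D :=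
    CfsgLib.Solvable.Cores.le_fittingSubgroup inferInstance
  have hFT : Cfsg.fittingSubgroup D ≤ π.ker := by
    intro d hd
    have hfix : S ⊆ ((p d).2 : R →+* R).eqLocusField (RingHom.id R) := by
      rintro _ ⟨t, rfl⟩
      letI := IsCyclic.commGroup (α := Cfsg.fittingSubgroup D)
      have hc : d * (t : D) = (t : D) * d :=
        congrArg Subtype.val (mul_comm (⟨d, hd⟩ : Cfsg.fittingSubgroup D) ⟨t, hTF t.2⟩)
      have := congrArg (fun e : D => φ e 1) hc
      simp only [Subgroup.coe_mul, hφmul, (hscal t).1 t.2, hp d, map_one,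
        mul_one] at this
      show (p d).2 (p t).1 = (p t).1
      exact mul_left_cancel₀ (hp0 d) (this.trans (mul_comm _ _))
    refine MonoidHom.mem_ker.2 (RingEquiv.ext fun x => ?_)
    exact Subfield.closure_le.2 hfix (htop ▸ Subfield.mem_top x)
  have key : ∀ g : P, ∃ (c : R) (ρ : R ≃+* R), c ≠ 0 ∧ ∀ x, φ (g : MulAut V) x = c * ρ x := by
    rintro ⟨g, hgP⟩
    have hnorm := hPD g hgP
    -- the conjugate of a scalar is a scalar
    let cj : D →* D := MonoidHom.mk' (fun d => ⟨g * d * g⁻¹, hnorm d d.2⟩) fun d d' =>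
      Subtype.ext (by simp only [Subgroup.coe_mul]; group)
    have hcjinj : Function.Injective cj := fun d d' h =>
      Subtype.ext (mul_left_cancel (mul_right_cancel (congrArg Subtype.val h)))
    have hmapN : (π.ker.map cj).Normal := (MonoidHom.normal_ker π).map cj
      (Finite.injective_iff_surjective.1 hcjinj)
    have hmapnil : Group.IsNilpotent ↥(π.ker.map cj) :=
      Group.nilpotent_of_mulEquiv (π.ker.equivMapOfInjective cj hcjinj)
    have hmap : π.ker.map cj ≤ π.ker :=
      (CfsgLib.Solvable.Cores.le_fittingSubgroup (hn := hmapN) hmapnil).trans hFT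
    -- so `g` is semilinear
    set τ := φ g with hτ
    have hconj : ∀ t : π.ker, ∀ x, τ ((p t).1 * x) = (p (cj t)).1 * τ x := fun t x => by
      rw [← (hscal t).1 t.2, ← (hscal (cj t)).1 (hmap ⟨t, t.2, rfl⟩), hτ]
      show φ g (φ ((t : D) : MulAut V) x) = φ (g * ((t : D) : MulAut V) * g⁻¹) (φ g x)
      rw [← hφmul, ← hφmul, inv_mul_cancel_right]
    have hτ0 : ∀ x, τ x = 0 → x = 0 := fun x hx => by
      have h1 : φ g⁻¹ (τ x) = x := by rw [hτ, ← hφmul, inv_mul_cancel, map_one]; rfl
      rw [← h1, hx, map_zero]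
    have hτbij : Function.Bijective τ :=
      Finite.injective_iff_bijective.1 ((injective_iff_map_eq_zero τ).2 hτ0)
    let L : Subfield R :=
      { carrier := {c | ∃ c', ∀ x, τ (c * x) = c' * τ x}
        one_mem' := ⟨1, fun x => by rw [one_mul, one_mul]⟩
        zero_mem' := ⟨0, fun x => by rw [zero_mul, zero_mul, map_zero]⟩
        mul_mem' := by
          rintro c d ⟨c', hc⟩ ⟨d', hd⟩
          exact ⟨c' * d', fun x => by rw [mul_assoc, hc, hd, mul_assoc]⟩
        add_mem' := by
          rintro c d ⟨c', hc⟩ ⟨d', hd⟩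
          exact ⟨c' + d', fun x => by rw [add_mul, map_add, hc, hd, add_mul]⟩
        neg_mem' := by
          rintro c ⟨c', hc⟩
          exact ⟨-c', fun x => by rw [neg_mul, map_neg, hc, neg_mul]⟩
        inv_mem' := by
          rintro c ⟨c', hc⟩
          rcases eq_or_ne c 0 with rfl | hc0
          · exact ⟨0, fun x => by rw [inv_zero, zero_mul, map_zero, zero_mul]⟩
          have hc'0 : c' ≠ 0 := fun e => by
            have := hτ0 (c * 1) (by rw [hc, e, zero_mul])
            exact hc0 (by simpa using this)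
          refine ⟨c'⁻¹, fun x => ?_⟩
          have := hc (c⁻¹ * x)
          rw [← mul_assoc, mul_inv_cancel₀ hc0, one_mul] at this
          rw [this, inv_mul_cancel_left₀ hc'0] }
    have hL : ∀ c : R, ∃ c', ∀ x, τ (c * x) = c' * τ x := fun c =>
      (show Subfield.closure S ≤ L from
        Subfield.closure_le.2 (by rintro _ ⟨t, rfl⟩; exact ⟨_, hconj t⟩))
        (htop ▸ Subfield.mem_top c)
    set c₁ := τ 1 with hu
    have hu0 : c₁ ≠ 0 := fun e => one_ne_zero (hτ0 1 e)
    let ρ : R ≃+* R :=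
      { ((Equiv.ofBijective _ hτbij).trans (Equiv.mulLeft₀ c₁⁻¹ (inv_ne_zero hu0))) with
        map_mul' := fun c x => by
          obtain ⟨c', hc⟩ := hL c
          have h1 := hc 1
          rw [mul_one, ← hu] at h1
          show c₁⁻¹ * τ (c * x) = (c₁⁻¹ * τ c) * (c₁⁻¹ * τ x)
          rw [hc x, h1]
          field_simp
        map_add' := fun c x => by
          show c₁⁻¹ * τ (c + x) = c₁⁻¹ * τ c + c₁⁻¹ * τ x
          rw [map_add, mul_add] }
    have hτρ : ∀ x, τ x = c₁ * ρ x := fun x => by
      show τ x = c₁ * (c₁⁻¹ * τ x)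
      rw [mul_inv_cancel_left₀ hu0]
    exact ⟨c₁, ρ, hu0, hτρ⟩
  choose c ρ hc hρ using key
  have hpow1 : ∀ a b : P, c (a * b) = c a * ρ a (c b) ∧ ρ (a * b) = ρ a * ρ b := by
    intro a b
    have h1 : ∀ x, c (a * b) * ρ (a * b) x = c a * ρ a (c b) * ρ a (ρ b x) := fun x => by
      rw [← hρ, Subgroup.coe_mul, hφmul, hρ b, hρ a, map_mul, mul_assoc]
    have h2 : c (a * b) = c a * ρ a (c b) := by simpa using h1 1
    refine ⟨h2, RingEquiv.ext fun x => mul_left_cancel₀ (hc (a * b)) ?_⟩
    rw [h1, h2]; rfl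
  let f : P →* (R ≃+* R) := MonoidHom.mk' ρ fun a b => (hpow1 a b).2
  have hf : Function.Injective f := by
    refine (injective_iff_map_eq_one _).2 fun a ha => ?_
    have ha' : ∀ i : ℕ, c (a ^ (i + 1)) = c a ^ (i + 1) := by
      intro i
      induction i with
      | zero => simp
      | succ i ih =>
        rw [pow_succ' a, (hpow1 _ _).1, ih, show ρ a = 1 from ha]
        exact (pow_succ' (c a) (i + 1)).symm
    obtain ⟨k, hk⟩ := hP a
    obtain ⟨i, hi⟩ : ∃ i, 2 ^ k = i + 1 := ⟨2 ^ k - 1, by have := Nat.two_pow_pos k; omega⟩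
    have hf1 : ρ (1 : P) = 1 := map_one f
    have hc1 : c (1 : P) = 1 := by
      have := hρ 1 1
      rw [OneMemClass.coe_one, map_one φ, hf1] at this
      exact ((mul_one _).symm.trans this.symm : c (1 : P) = 1)
    have h1 : c a ^ 2 ^ k = 1 := by rw [hi, ← ha', ← hi, hk, hc1]
    have h2 : (c a - 1) ^ 2 ^ k = 0 := by rw [sub_pow_char_pow, h1, one_pow, sub_self]
    have h3 : c a = 1 := sub_eq_zero.1 (pow_eq_zero_iff (pow_ne_zero k two_ne_zero) |>.1 h2)
    refine Subtype.ext (hφinj (DFunLike.ext _ _ fun x => ?_))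
    rw [hρ, h3, show ρ a = 1 from ha, OneMemClass.coe_one, map_one, one_mul]
    rfl
  haveI : Fact (Nat.Prime 2) := ⟨Nat.prime_two⟩
  letI := Fintype.ofFinite R
  obtain ⟨e⟩ := CfsgLib.KnownC.AutPSL.ringAut_cyclic (F := R) (p := 2) (f := r)
    (Nat.card_eq_fintype_card.symm.trans hR)
  haveI : IsCyclic (R ≃+* R) := isCyclic_of_surjective e.symm.toMonoidHom e.symm.surjective
  exact isCyclic_of_injective f hf

end CfsgLib.LocalEven.TIEndgame.OddTransitiveGamma
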