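import Mathlib.LinearAlgebra.Trace
import Mathlib.LinearAlgebra.Matrix.ToLin
import Mathlib.LinearAlgebra.FreeModule.PID
import Mathlib.Data.Real.Basic
import Mathlib.Tactic

/-!
# No generalized quadrangle of order `(q, q - 1)` for `q ≥ 3`

Its collinearity graph would be strongly regular with an eigenvalue of multiplicity
`q ^ 2 (q ^ 2 - 1) / (2 q - 1)`, which is not an integer.
-/

set_option autoImplicit false

namespace CfsgLib.LocalEven.TIEndgame.Quadrangle

open Matrix

/-- No graph of valency `q ^ 2` in which adjacent points have `q - 1` and non-adjacent points have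
`q` common neighbours. -/
theorem false_of_graph {P : Type*} [Finite P] [Nonempty P] (R : P → P → Prop)
    (hsymm : ∀ a b, R a b → R b a) (hirr : ∀ a, ¬ R a a) {q : ℕ} (hq : 3 ≤ q)
    (hdeg : ∀ a, Nat.card {b // R a b} = q ^ 2)
    (hadj : ∀ a b, R a b → Nat.card {c // R a c ∧ R c b} = q - 1)
    (hnon : ∀ a b, a ≠ b → ¬ R a b → Nat.card {c // R a c ∧ R c b} = q) : False := by
  classical
  have : Fintype P := Fintype.ofFinite P
  obtain ⟨A, hA⟩ : ∃ A : Matrix P P ℚ, A = Matrix.of (fun a b => if R a b then 1 else 0) := ⟨_, rfl⟩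
  obtain ⟨J, hJ⟩ : ∃ J : Matrix P P ℚ, J = Matrix.of (fun _ _ => 1) := ⟨_, rfl⟩
  have hA' : ∀ a b, A a b = if R a b then 1 else 0 := fun a b => by rw [hA]; rfl
  have hJ' : ∀ a b, J a b = 1 := fun a b => by rw [hJ]; rfl
  have cnt : ∀ p : P → Prop, ∑ c, (if p c then (1 : ℚ) else 0) = Nat.card {c // p c} := fun p => by
    rw [Finset.sum_boole, Nat.card_eq_fintype_card, Fintype.card_subtype]
  have hAJ : A * J = (q : ℚ) ^ 2 • J := by
    ext a b
    simp only [Matrix.mul_apply, Matrix.smul_apply, hA', hJ', mul_one, smul_eq_mul, cnt, hdeg]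
    push_cast; ring
  have hJA : J * A = (q : ℚ) ^ 2 • J := by
    ext a b
    simp only [Matrix.mul_apply, Matrix.smul_apply, hA', hJ', one_mul, mul_one, smul_eq_mul, cnt]
    rw [Nat.card_congr (Equiv.subtypeEquivRight fun c => ⟨hsymm c b, hsymm b c⟩), hdeg]
    push_cast; ring
  set v : ℚ := (Nat.card P : ℚ) with hv
  have hJJ : J * J = v • J := by
    ext a b
    simp [Matrix.mul_apply, hJ', hv, Nat.card_eq_fintype_card]
  have hqq : ((q - 1 : ℕ) : ℚ) = (q : ℚ) - 1 := by rw [Nat.cast_sub (by omega)]; norm_num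
  have hAA : A * A = ((q : ℚ) ^ 2 - q) • (1 : Matrix P P ℚ) + (q : ℚ) • J - A := by
    ext a b
    have hc : (A * A) a b = (Nat.card {c // R a c ∧ R c b} : ℚ) := by
      rw [← cnt]
      simp only [Matrix.mul_apply, hA']
      refine Finset.sum_congr rfl fun c _ => ?_
      by_cases h1 : R a c <;> by_cases h2 : R c b <;> simp [h1, h2]
    rw [hc]
    simp only [Matrix.sub_apply, Matrix.add_apply, Matrix.smul_apply, Matrix.one_apply, hJ', hA',
      smul_eq_mul, mul_one]
    by_cases hab : a = b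
    · subst hab
      rw [Nat.card_congr (Equiv.subtypeEquivRight
        fun c => ⟨fun h => h.1, fun h => ⟨h, hsymm a c h⟩⟩), hdeg]
      simp [hirr]
    · by_cases h : R a b
      · rw [hadj a b h, hqq]
        simp [hab, h]
      · rw [hnon a b hab h]
        simp [hab, h]
  -- the number of points
  have hvval : v = (q : ℚ) ^ 3 + 1 := by
    obtain ⟨a⟩ := (inferInstance : Nonempty P)
    have h0 : A * A * J = (((q : ℚ) ^ 2 - q) • (1 : Matrix P P ℚ) + (q : ℚ) • J - A) * J := by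
      rw [hAA]
    have h := congrFun (congrFun h0 a) a
    simp only [Matrix.sub_mul, Matrix.add_mul, Matrix.smul_mul, Matrix.mul_assoc, hAJ,
      Matrix.mul_smul, hJJ, Matrix.one_mul, Matrix.sub_apply, Matrix.add_apply, Matrix.smul_apply,
      hJ', smul_eq_mul, mul_one] at h
    have hq0 : (q : ℚ) ≠ 0 := by positivity
    apply mul_left_cancel₀ hq0
    linarith [h]
  have hq3 : (3 : ℚ) ≤ q := by exact_mod_cast hq
  have hpos : (q : ℚ) ^ 2 - q + 1 ≠ 0 := by nlinarith
  have h21 : 2 * (q : ℚ) - 1 ≠ 0 := by linarith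
  set c : ℚ := (q : ℚ) / ((q : ℚ) ^ 2 - q + 1) with hc
  set E : Matrix P P ℚ := (2 * (q : ℚ) - 1)⁻¹ • (A + (q : ℚ) • 1 - c • J) with hE
  have hc2 : c * ((q : ℚ) ^ 2 - q + 1) = q := by rw [hc]; exact div_mul_cancel₀ _ hpos
  have hcv : c * v = (q : ℚ) ^ 2 + q := by
    rw [hvval]
    linear_combination ((q : ℚ) + 1) * hc2
  have hidem : E * E = E := by
    have h1 : (A + (q : ℚ) • 1 - c • J) * (A + (q : ℚ) • 1 - c • J) =
        (2 * (q : ℚ) - 1) • (A + (q : ℚ) • 1 - c • J) := by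
      simp only [Matrix.sub_mul, Matrix.mul_sub, Matrix.add_mul, Matrix.mul_add, Matrix.smul_mul,
        Matrix.mul_smul, Matrix.one_mul, Matrix.mul_one, hAA, hAJ, hJA, hJJ, smul_smul]
      ext a b
      simp only [Matrix.sub_apply, Matrix.add_apply, Matrix.smul_apply, hJ', smul_eq_mul]
      linear_combination c * hcv - hc2
    rw [hE, Matrix.smul_mul, Matrix.mul_smul, h1, smul_smul, smul_smul]
    congr 1
    field_simp
  -- the trace is a natural number
  have hproj := (LinearMap.isProj_range_iff_isIdempotentElem (Matrix.toLin' E)).2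
    (show IsIdempotentElem (Matrix.toLin' E) by
      show Matrix.toLin' E * Matrix.toLin' E = Matrix.toLin' E
      rw [Module.End.mul_eq_comp, ← Matrix.toLin'_mul, hidem])
  have htr := hproj.trace
  rw [Matrix.trace_toLin'_eq] at htr
  set N := Module.finrank ℚ ↥(LinearMap.range (Matrix.toLin' E))
  have htA : A.trace = 0 := by simp [Matrix.trace, Matrix.diag, hA', hirr]
  have htJ : J.trace = v := by simp [Matrix.trace, Matrix.diag, hJ', hv, Nat.card_eq_fintype_card]
  have hEtr : E.trace = (2 * (q : ℚ) - 1)⁻¹ * ((q : ℚ) * v - c * v) := by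
    rw [hE, Matrix.trace_smul, Matrix.trace_sub, Matrix.trace_add, Matrix.trace_smul,
      Matrix.trace_smul, Matrix.trace_one, htA, htJ, hv, Nat.card_eq_fintype_card]
    simp only [smul_eq_mul, zero_add]
  rw [hEtr, hcv, hvval] at htr
  have hZ : ((2 * (q : ℤ) - 1) * (N : ℤ) : ℤ) = (q : ℤ) ^ 4 - (q : ℤ) ^ 2 := by
    have h' : (2 * (q : ℚ) - 1) * (N : ℚ) = (q : ℚ) ^ 4 - (q : ℚ) ^ 2 := by
      rw [← htr]; field_simp; ring
    exact_mod_cast h'
  have hdvd : (2 * (q : ℤ) - 1) ∣ 3 := by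
    refine ⟨(2 * (q : ℤ) + 1) * (4 * (q : ℤ) ^ 2 - 3) - 16 * N, ?_⟩
    linear_combination 16 * hZ
  have := Int.le_of_dvd (by norm_num) hdvd
  omega

/-- No generalized quadrangle of order `(q, q - 1)`, `q ≥ 3`. -/
theorem false_of_quadrangle {P L : Type*} [Finite P] [Finite L] [Nonempty P] (I : P → L → Prop)
    {q : ℕ} (hq : 3 ≤ q) (hline : ∀ l, Nat.card {p // I p l} = q + 1)
    (hpoint : ∀ p, Nat.card {l // I p l} = q)
    (huniq : ∀ p r l m, p ≠ r → I p l → I r l → I p m → I r m → l = m)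
    (hproj : ∀ p l, ¬ I p l → ∃! r, I r l ∧ ∃ m, I p m ∧ I r m) : False := by
  classical
  let R : P → P → Prop := fun a b => a ≠ b ∧ ∃ l, I a l ∧ I b l
  have hsymm : ∀ a b, R a b → R b a := fun a b ⟨h, l, ha, hb⟩ => ⟨h.symm, l, hb, ha⟩
  refine false_of_graph R hsymm (fun a h => h.1 rfl) hq ?_ ?_ ?_
  · intro a
    have hfib : ∀ l : {l // I a l}, Nat.card {b // I b l.1 ∧ b ≠ a} = q := by
      intro l
      have h := hline l.1
      have h2 : Nat.card {b // I b l.1} = Nat.card {b : {b // I b l.1} // b.1 ≠ a} + 1 := by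
        have : Fintype P := Fintype.ofFinite P
        simp only [Nat.card_eq_fintype_card]
        rw [Fintype.card_subtype_compl (fun b : {b // I b l.1} => b.1 = a)]
        have h1 : Fintype.card {b : {b // I b l.1} // b.1 = a} = 1 := by
          rw [Fintype.card_eq_one_iff]
          exact ⟨⟨⟨a, l.2⟩, rfl⟩, fun b => Subtype.ext (Subtype.ext b.2)⟩
        have h3 : 0 < Fintype.card {b // I b l.1} := Fintype.card_pos_iff.2 ⟨⟨a, l.2⟩⟩
        omega
      rw [Nat.card_congr (Equiv.subtypeSubtypeEquivSubtypeInter (fun b => I b l.1) (fun b => b ≠ a))]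
        at h2
      omega
    have e : {b // R a b} ≃ (Σ l : {l // I a l}, {b // I b l.1 ∧ b ≠ a}) :=
      { toFun := fun b => ⟨⟨b.2.2.choose, b.2.2.choose_spec.1⟩, ⟨b.1, b.2.2.choose_spec.2, b.2.1.symm⟩⟩
        invFun := fun x => ⟨x.2.1, x.2.2.2.symm, x.1.1, x.1.2, x.2.2.1⟩
        left_inv := fun b => rfl
        right_inv := fun x => by
          have hl : (Exists.choose (⟨x.1.1, x.1.2, x.2.2.1⟩ : ∃ l, I a l ∧ I x.2.1 l)) = x.1.1 :=
            huniq a x.2.1 _ _ x.2.2.2.symm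
              (Exists.choose_spec (⟨x.1.1, x.1.2, x.2.2.1⟩ : ∃ l, I a l ∧ I x.2.1 l)).1
              (Exists.choose_spec (⟨x.1.1, x.1.2, x.2.2.1⟩ : ∃ l, I a l ∧ I x.2.1 l)).2
              x.1.2 x.2.2.1
          refine Sigma.ext (Subtype.ext hl) ?_
          refine (Subtype.heq_iff_coe_eq fun c => ?_).2 rfl
          dsimp only
          rw [hl] }
    have : Fintype {l // I a l} := Fintype.ofFinite _
    rw [Nat.card_congr e, Nat.card_sigma, Finset.sum_congr rfl (fun l _ => hfib l), Finset.sum_const,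
      Finset.card_univ, ← Nat.card_eq_fintype_card, hpoint, smul_eq_mul, pow_two]
  · rintro a b ⟨hab, l, hal, hbl⟩
    have key : ∀ c, (R a c ∧ R c b) ↔ (I c l ∧ c ≠ a ∧ c ≠ b) := by
      intro c
      refine ⟨?_, fun ⟨hc, hca, hcb⟩ => ⟨⟨hca.symm, l, hal, hc⟩, ⟨hcb, l, hc, hbl⟩⟩⟩
      rintro ⟨⟨hac, m, ham, hcm⟩, hcb, n, hcn, hbn⟩
      refine ⟨?_, hac.symm, hcb⟩
      by_contra hcl
      exact hab ((hproj c l hcl).unique ⟨hal, m, hcm, ham⟩ ⟨hbl, n, hcn, hbn⟩)
    rw [Nat.card_congr (Equiv.subtypeEquivRight key)]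
    have : Fintype P := Fintype.ofFinite P
    have h := hline l
    rw [Nat.card_eq_fintype_card, Fintype.card_subtype] at h ⊢
    have hsplit : Finset.univ.filter (fun c => I c l ∧ c ≠ a ∧ c ≠ b) =
        ((Finset.univ.filter fun c => I c l).erase a).erase b := by
      ext c; simp; tauto
    rw [hsplit, Finset.card_erase_of_mem (by simp [hbl, hab.symm]),
      Finset.card_erase_of_mem (by simp [hal]), h]
    omega
  · intro a b hab hnR
    have hnI : ∀ l, I b l → ¬ I a l := fun l hb ha => hnR ⟨hab, l, ha, hb⟩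
    have hex : ∀ l : {l // I b l}, ∃! r, I r l.1 ∧ ∃ m, I a m ∧ I r m := fun l =>
      hproj a l.1 (hnI l.1 l.2)
    rw [← hpoint b]
    have hne : ∀ l : {l // I b l}, (hex l).choose ≠ b := fun l e => by
      obtain ⟨h1, m, ham, hrm⟩ := (hex l).choose_spec.1
      rw [e] at hrm
      exact hnI m hrm ham
    have hmem : ∀ l : {l // I b l}, R a (hex l).choose ∧ R (hex l).choose b := fun l => by
      obtain ⟨h1, m, ham, hrm⟩ := (hex l).choose_spec.1
      exact ⟨⟨fun e => hnI l.1 l.2 (e ▸ h1), m, ham, hrm⟩, hne l, l.1, h1, l.2⟩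
    refine (Nat.card_eq_of_bijective (fun l => (⟨(hex l).choose, hmem l⟩ :
      {c // R a c ∧ R c b})) ⟨fun l l' e => ?_, fun c => ?_⟩).symm
    · have e' : (hex l).choose = (hex l').choose := congrArg Subtype.val e
      exact Subtype.ext (huniq _ b l.1 l'.1 (hne l) (hex l).choose_spec.1.1 l.2
        (e' ▸ (hex l').choose_spec.1.1) l'.2)
    · obtain ⟨⟨hac, m, ham, hcm⟩, hcb, n, hcn, hbn⟩ := c.2
      exact ⟨⟨n, hbn⟩, Subtype.ext ((hex ⟨n, hbn⟩).choose_spec.2 c.1 ⟨hcn, m, ham, hcm⟩).symm⟩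

end CfsgLib.LocalEven.TIEndgame.Quadrangle
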