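import Cfsg.Agent.Lib.LocalEven.TIEndgame.Setup
import Cfsg.Agent.Lib.LocalEven.TIEndgame.TransferHom
import Cfsg.Agent.Lib.Involution.ZStar.Main
import Mathlib.GroupTheory.Perm.Sign

/-!
# Theorem T: at least four members at a point commute with a bad involution

With two members at a point the `Z*` theorem applies; if four and the involution moves one of
them, the sign of the action on the three members at the point transfers to the whole group.
-/

set_option autoImplicit false
set_option linter.style.haveILetI false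

namespace CfsgLib.LocalEven.TIEndgame

open MulAction
open CfsgLib.Involution

universe u v

variable {G : Type u} {Ω : Type v} [Group G] [MulAction G Ω] {W : Ω → Subgroup G}

namespace TISetting

variable (h : TISetting W)
include h

theorem inv_of_mem {a : Ω} {y : G} (hy : y ∈ W a) : y⁻¹ = y :=
  inv_eq_of_mul_eq_one_right (h.sq a y hy)

theorem conj_mem_W {x : G} {a : Ω} (hxa : x • a = a) {y : G} (hy : y ∈ W a) :
    x * y * x⁻¹ ∈ W a := by
  have := h.conj x a y hy
  rwa [hxa] at this

/-- The commutator with an element fixing the point. -/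
def commHom {x : G} {a : Ω} (hxa : x • a = a) : W a →* W a where
  toFun y := ⟨y * (x * y * x⁻¹), mul_mem y.2 (h.conj_mem_W hxa y.2)⟩
  map_one' := Subtype.ext (by simp)
  map_mul' := fun y z => Subtype.ext (by
    simp only [Subgroup.coe_mul]
    rw [show x * ((y : G) * z) * x⁻¹ = (x * y * x⁻¹) * (x * z * x⁻¹) by group]
    have hc : Commute (z : G) (x * y * x⁻¹) :=
      h.mul_comm_of_mem z.2 (h.conj_mem_W hxa y.2)
    calc (y : G) * z * ((x * y * x⁻¹) * (x * z * x⁻¹))
        = y * (z * (x * y * x⁻¹)) * (x * z * x⁻¹) := by group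
      _ = y * ((x * y * x⁻¹) * z) * (x * z * x⁻¹) := by rw [hc.eq]
      _ = y * (x * y * x⁻¹) * (z * (x * z * x⁻¹)) := by group)

theorem commHom_ker_map {x : G} {a : Ω} (hxa : x • a = a) :
    (h.commHom hxa).ker.map (W a).subtype = centredAt W x a := by
  ext y
  simp only [Subgroup.mem_map, MonoidHom.mem_ker, centredAt, Subgroup.mem_inf,
    Subgroup.mem_centralizer_singleton_iff]
  constructor
  · rintro ⟨⟨z, hz⟩, hzk, rfl⟩
    have h1 : z * (x * z * x⁻¹) = 1 := congrArg Subtype.val hzk
    refine ⟨hz, ?_⟩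
    show z * x = x * z
    have h2 : x * z * x⁻¹ = z := by
      rw [eq_inv_of_mul_eq_one_right h1, h.inv_of_mem hz]
    exact (mul_inv_eq_iff_eq_mul.1 h2).symm
  · rintro ⟨hy, hc⟩
    refine ⟨⟨y, hy⟩, Subtype.ext ?_, rfl⟩
    show y * (x * y * x⁻¹) = 1
    rw [← hc, mul_inv_cancel_right, h.sq a y hy]

theorem card_commHom_ker {x : G} {a : Ω} (hxa : x • a = a) :
    Nat.card (h.commHom hxa).ker = Nat.card (centredAt W x a) := by
  rw [← h.commHom_ker_map hxa]
  exact Nat.card_congr
    ((h.commHom hxa).ker.equivMapOfInjective _ (W a).subtype_injective).toEquiv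

theorem card_W_eq_mul {x : G} {a : Ω} (hxa : x • a = a) :
    Nat.card (W a) = Nat.card (centredAt W x a) * Nat.card (h.commHom hxa).range := by
  rw [← h.card_commHom_ker hxa, ← Subgroup.index_ker]
  exact ((h.commHom hxa).ker.card_mul_index).symm

theorem range_le_ker {x : G} (hx : x * x = 1) {a : Ω} (hxa : x • a = a) :
    (h.commHom hxa).range ≤ (h.commHom hxa).ker := by
  rintro y ⟨z, rfl⟩
  refine Subtype.ext ?_
  show (z : G) * (x * z * x⁻¹) * (x * ((z : G) * (x * z * x⁻¹)) * x⁻¹) = 1
  have hxi : x⁻¹ = x := inv_eq_of_mul_eq_one_right hx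
  have e : x * ((z : G) * (x * z * x⁻¹)) * x⁻¹ = (x * z * x⁻¹) * z := by
    calc x * ((z : G) * (x * z * x⁻¹)) * x⁻¹ = (x * z * x⁻¹) * (x * x * z * (x⁻¹ * x⁻¹)) := by group
      _ = (x * z * x⁻¹) * z := by rw [hxi, hx, one_mul, mul_one]
  rw [e]
  calc (z : G) * (x * z * x⁻¹) * (x * z * x⁻¹ * z)
      = z * ((x * z * x⁻¹) * (x * z * x⁻¹)) * z := by group
    _ = 1 := by rw [h.sq a _ (h.conj_mem_W hxa z.2), mul_one, h.sq a _ z.2]

theorem card_W_le_sq [Finite G] {x : G} (hx : x * x = 1) {a : Ω} (hxa : x • a = a) :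
    Nat.card (W a) ≤ Nat.card (centredAt W x a) ^ 2 := by
  rw [h.card_W_eq_mul hxa, pow_two]
  exact Nat.mul_le_mul le_rfl
    ((Subgroup.card_le_of_le (h.range_le_ker hx hxa)).trans (h.card_commHom_ker hxa).le)

theorem exists_card_two_pow [Finite G] (a : Ω) {H : Subgroup G} (hH : H ≤ W a) :
    ∃ k : ℕ, Nat.card H = 2 ^ k := by
  have : Fact (Nat.Prime 2) := ⟨Nat.prime_two⟩
  refine IsPGroup.iff_card.1 (fun y => ⟨1, Subtype.ext ?_⟩)
  show (y : G) ^ 2 ^ 1 = 1
  rw [pow_one, pow_two, h.sq a y (hH y.2)]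

theorem two_le_centredAt [Finite G] {x : G} (hx : orderOf x = 2) {a : Ω} (hxa : x • a = a) :
    2 ≤ Nat.card (centredAt W x a) := by
  obtain ⟨d, hd, hxd⟩ := OnePoint.exists_dat_commute h.covers hx hxa
  rw [h.dat_eq] at hd
  have : Nontrivial (centredAt W x a) :=
    ⟨⟨⟨d, hd.1, Subgroup.mem_centralizer_singleton_iff.2 hxd.symm.eq⟩, 1,
      fun e => hd.2 (congrArg Subtype.val e)⟩⟩
  exact Finite.one_lt_card

theorem member_conj_eq {a : Ω} {d y : G} (hd : d ∈ W a) (hy : y ∈ W a) : d * y * d⁻¹ = y := by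
  rw [(h.mul_comm_of_mem hd hy).eq, mul_inv_cancel_right]

end TISetting

section

variable [Finite G] [Finite Ω]

/-- Two members at each point: all involutions fix one point only. -/
theorem TISetting.false_of_card_two (h : TISetting W) (hgen : Subgroup.closure (members W) = ⊤)
    {x : G} (hx : IsBad Ω x) {a : Ω} (hw : Nat.card (W a) = 2) : False := by
  have : Fact (Nat.Prime 2) := ⟨Nat.prime_two⟩
  obtain ⟨d, hd, hd1⟩ := (Subgroup.ne_bot_iff_exists_ne_one (H := W a)).1 (h.ne_bot a) |>
    fun ⟨y, hy⟩ => (⟨y, y.2, fun e => hy (Subtype.ext e)⟩ : ∃ y ∈ W a, y ≠ 1)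
  have honly : ∀ y ∈ W a, y ≠ 1 → y = d := by
    intro y hy hy1
    by_contra hne
    have h3 : ({1, d, y} : Set G).ncard = 3 := by
      rw [Set.ncard_insert_of_notMem (by simp [hd1.symm, hy1.symm]), Set.ncard_pair (Ne.symm hne)]
    have h2 : ({1, d, y} : Set G).ncard ≤ (W a : Set G).ncard :=
      Set.ncard_le_ncard (by
        intro z hz
        rcases hz with rfl | rfl | rfl
        exacts [one_mem _, hd, hy])
    rw [h3, ← Nat.card_coe_set_eq] at h2
    have : Nat.card ↥(W a : Set G) = Nat.card (W a) := rfl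
    omega
  have hdm : d ∈ members W := ⟨hd1, a, hd⟩
  have hord := h.orderOf_member hdm
  obtain ⟨P, hP⟩ := (Basic.isPGroup_zpowers_of_two hord).exists_le_sylow
  have hdP : d ∈ (P : Subgroup G) := hP (Subgroup.mem_zpowers d)
  have hPa : (P : Subgroup G) ≤ stabilizer G a :=
    h.onePoint.le_stabilizer h.covers P.isPGroup' ⟨hdm, mem_stabilizer_iff.1 (h.fix a hd)⟩ hdP
  obtain ⟨N, hN, hNodd, hcomm⟩ := ZStar.exists_odd_normal_of_sylow P hord hdP (fun g hg => by
    have hg' : g * d * g⁻¹ ∈ members W := h.onePoint.conj_mem g d hdm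
    exact honly _ (h.mem_of_fixed hg' (mem_stabilizer_iff.1 (hPa hg))) hg'.1)
  -- every element lies in `N` or in `N d`
  have hmem : ∀ z : G, z ∈ N ∨ z * d ∈ N := by
    let K : Subgroup G := N ⊔ Subgroup.zpowers d
    have hK : ∀ z ∈ K, z ∈ N ∨ z * d ∈ N := by
      intro z hz
      rw [Subgroup.mem_sup_of_normal_left] at hz
      obtain ⟨n, hn, e, he, rfl⟩ := hz
      obtain ⟨i, rfl⟩ := Subgroup.mem_zpowers_iff.1 he
      rcases Int.even_or_odd i with ⟨j, rfl⟩ | ⟨j, rfl⟩
      · left
        rw [← two_mul, zpow_mul, show d ^ (2 : ℤ) = 1 by rw [zpow_two, h.sq a d hd], one_zpow,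
          mul_one]
        exact hn
      · right
        rw [zpow_add_one, zpow_mul, show d ^ (2 : ℤ) = 1 by rw [zpow_two, h.sq a d hd], one_zpow,
          one_mul, mul_assoc, h.sq a d hd, mul_one]
        exact hn
    intro z
    refine hK z ?_
    have hle : Subgroup.closure (members W) ≤ K := by
      rw [Subgroup.closure_le]
      intro e he
      obtain ⟨b, hb⟩ := h.onePoint.exists_fixed e he
      obtain ⟨g, hg⟩ := h.onePoint.exists_move h.covers b a
      have he' : g * e * g⁻¹ ∈ members W := h.onePoint.conj_mem g e he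
      have hge : g * e * g⁻¹ = d := honly _ (h.mem_of_fixed he'
        (by rw [mul_smul, mul_smul, inv_smul_eq_iff.2 hg.symm, hb, hg])) he'.1
      have hc := hcomm g⁻¹
      rw [inv_inv] at hc
      have heq : e = (d * g⁻¹ * d⁻¹ * g)⁻¹ * d := by
        rw [← hge]; group
      rw [heq]
      exact Subgroup.mul_mem_sup (N.inv_mem hc) (Subgroup.mem_zpowers d)
    exact hle (hgen ▸ Subgroup.mem_top z)
  obtain ⟨hx2, p, q, hpq, hp, hq⟩ := hx
  have hxx : x * x = 1 := Dihedral.mul_self hx2
  rcases hmem x with hxN | hxN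
  · have hdvd := Subgroup.orderOf_dvd_natCard N hxN
    rw [hx2] at hdvd
    exact Nat.not_even_iff_odd.2 hNodd (even_iff_two_dvd.2 hdvd)
  · have hodd : Odd (orderOf (x * d)) :=
      Odd.of_dvd_nat hNodd (Subgroup.orderOf_dvd_natCard N hxN)
    obtain ⟨c, -, hc⟩ := Dihedral.exists_conj_of_odd hx2 hord hodd
    have hxm : x ∈ members W := by
      have := h.onePoint.conj_mem c⁻¹ d hdm
      rwa [← hc, show c⁻¹ * (c * x * c⁻¹) * c⁻¹⁻¹ = x by group] at this
    exact hpq (h.onePoint.fixed_unique x hxm p q hp hq)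

/-- Four members with one moved: the sign of the action on the three members transfers. -/
theorem TISetting.false_of_card_four (h : TISetting W) (hgen : Subgroup.closure (members W) = ⊤)
    {x : G} (hx : orderOf x = 2) {a : Ω} (hxa : x • a = a) (hw : Nat.card (W a) = 4)
    (hq : Nat.card (centredAt W x a) = 2) : False := by
  classical
  have hxx : x * x = 1 := Dihedral.mul_self hx
  have hxi : x⁻¹ = x := inv_eq_of_mul_eq_one_right hxx
  letI act : MulAction (stabilizer G a) ↥(dat (members W) a) :=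
    { smul := fun g d => ⟨g * d * (g : G)⁻¹, by
        have := h.onePoint.conj_mem_dat (g : G) d.2
        rwa [mem_stabilizer_iff.1 g.2] at this⟩
      one_smul := fun d => Subtype.ext (show (1 : G) * d * (1 : G)⁻¹ = d by simp)
      mul_smul := fun g g' d => Subtype.ext (show ((g : G) * g') * d * ((g : G) * g')⁻¹ =
        g * (g' * d * (g' : G)⁻¹) * (g : G)⁻¹ by group) }
  have hval : ∀ (g : stabilizer G a) (d : ↥(dat (members W) a)),
      ((g • d : ↥(dat (members W) a)) : G) = g * d * (g : G)⁻¹ := fun g d => rfl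
  letI : Fintype ↥(dat (members W) a) := Fintype.ofFinite _
  obtain ⟨r, hr, hxr⟩ := OnePoint.exists_dat_commute h.covers hx hxa
  have hr' : r ∈ W a := h.mem_of_fixed hr.1 hr.2
  obtain ⟨y, hy, hxy⟩ : ∃ y ∈ W a, x * y * x⁻¹ ≠ y := by
    by_contra hall
    push Not at hall
    have : centredAt W x a = W a := inf_eq_left.2 fun z hz =>
      Subgroup.mem_centralizer_singleton_iff.2 (mul_inv_eq_iff_eq_mul.1 (hall z hz)).symm
    rw [this] at hq
    omega
  have hy1 : y ≠ 1 := fun e => hxy (by rw [e]; simp)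
  have hyd : y ∈ dat (members W) a := by rw [h.dat_eq]; exact ⟨hy, hy1⟩
  let χ : stabilizer G a →* ℤˣ :=
    Equiv.Perm.sign.comp (MulAction.toPermHom (stabilizer G a) ↥(dat (members W) a))
  refine h.onePoint.false_of_hom h.covers hgen χ (fun d hd => ?_) ⟨x, mem_stabilizer_iff.2 hxa⟩
    (k := 1) (Subtype.ext (by simp [pow_two, hxx])) ?_
  · have hdW : (d : G) ∈ W a := h.mem_of_fixed hd (mem_stabilizer_iff.1 d.2)
    have h1 : MulAction.toPermHom (stabilizer G a) ↥(dat (members W) a) d = 1 := by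
      ext e
      show ((d • e : ↥(dat (members W) a)) : G) = e
      rw [hval]
      exact h.member_conj_eq hdW (h.mem_of_fixed e.2.1 e.2.2)
    show Equiv.Perm.sign _ = 1
    rw [h1, map_one]
  · set σ := MulAction.toPermHom (stabilizer G a) ↥(dat (members W) a)
      ⟨x, mem_stabilizer_iff.2 hxa⟩ with hσ
    have hσ' : ∀ e : ↥(dat (members W) a), (σ e : G) = x * e * x⁻¹ := fun e => rfl
    let Y : ↥(dat (members W) a) := ⟨y, hyd⟩
    let R : ↥(dat (members W) a) := ⟨r, hr⟩
    have hYσ : σ Y ≠ Y := fun e => hxy ((hσ' Y).symm.trans (congrArg Subtype.val e))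
    have hσσ : σ (σ Y) = Y := Subtype.ext (by
      rw [hσ', hσ', hxi]
      show x * (x * y * x) * x = y
      calc x * (x * y * x) * x = (x * x) * y * (x * x) := by group
        _ = y := by rw [hxx, one_mul, mul_one])
    have hRσ : σ R = R := Subtype.ext (by
      rw [hσ']
      exact mul_inv_eq_iff_eq_mul.2 hxr.eq)
    have hRY : R ≠ Y := fun e => hYσ (e ▸ hRσ)
    have hRY' : R ≠ σ Y := fun e => hRY (σ.injective (hRσ.trans e))
    have hcard : Fintype.card ↥(dat (members W) a) = 3 := by
      rw [← Nat.card_eq_fintype_card, h.dat_eq]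
      have hs : {d | d ∈ W a ∧ d ≠ 1} = (W a : Set G) \ {1} := by ext; simp
      rw [Nat.card_coe_set_eq, hs, Set.ncard_sdiff_singleton_of_mem (one_mem _),
        ← Nat.card_coe_set_eq]
      have : Nat.card ↥(W a : Set G) = 4 := hw
      omega
    have hall : ∀ e, e = Y ∨ e = σ Y ∨ e = R := by
      have huniv : ({Y, σ Y, R} : Finset ↥(dat (members W) a)) = Finset.univ := by
        apply Finset.eq_univ_of_card
        rw [hcard, Finset.card_insert_of_notMem, Finset.card_pair hRY'.symm]
        simp [Ne.symm hYσ, hRY.symm]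
      intro e
      have := huniv ▸ Finset.mem_univ e
      simpa using this
    have heq : σ = Equiv.swap Y (σ Y) := by
      refine Equiv.ext fun e => ?_
      rcases hall e with rfl | rfl | rfl
      · rw [Equiv.swap_apply_left]
      · rw [Equiv.swap_apply_right, hσσ]
      · rw [Equiv.swap_apply_of_ne_of_ne hRY hRY', hRσ]
    show Equiv.Perm.sign σ ≠ 1
    rw [heq, Equiv.Perm.sign_swap (Ne.symm hYσ)]
    decide

/-- At least four members at a point (counting `1`) commute with a bad involution fixing it. -/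
theorem TISetting.four_le_centredAt (h : TISetting W) (hgen : Subgroup.closure (members W) = ⊤)
    {x : G} (hx : IsBad Ω x) {a : Ω} (hxa : x • a = a) :
    4 ≤ Nat.card (centredAt W x a) := by
  by_contra hlt
  obtain ⟨k, hk⟩ := h.exists_card_two_pow a (H := centredAt W x a) inf_le_left
  have h2 := h.two_le_centredAt hx.1 hxa
  have hq : Nat.card (centredAt W x a) = 2 := by
    rw [hk] at hlt h2 ⊢
    have : k < 2 := (Nat.pow_lt_pow_iff_right (by norm_num : 1 < 2)).1
      (show 2 ^ k < 2 ^ 2 by omega)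
    interval_cases k
    · simp at h2
    · rfl
  have hle := h.card_W_le_sq (Dihedral.mul_self hx.1) hxa
  have hge : Nat.card (centredAt W x a) ≤ Nat.card (W a) := Subgroup.card_le_of_le inf_le_left
  obtain ⟨j, hj⟩ := h.exists_card_two_pow a (H := W a) le_rfl
  rw [hq] at hle hge
  have hj2 : j ≤ 2 := (Nat.pow_le_pow_iff_right (by norm_num : 1 < 2)).1 (by omega)
  interval_cases j
  · omega
  · exact h.false_of_card_two hgen hx (by simpa using hj)
  · exact h.false_of_card_four hgen hx.1 hxa (by simpa using hj) hq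

end

theorem TIMin.four_le_centred {G Ω : Type u} [Group G] [Finite G] [Finite Ω] [MulAction G Ω]
    [FaithfulSMul G Ω] {W : Ω → Subgroup G} (h : TIMin G Ω W) {x : G} (hx : IsBad Ω x) {a : Ω}
    (hxa : x • a = a) : 4 ≤ Nat.card (centredAt W x a) :=
  h.toTISetting.four_le_centredAt h.gen hx hxa

end CfsgLib.LocalEven.TIEndgame
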