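import Cfsg.Agent.Lib.LocalEven.TIEndgame.SuzukiForm
import Mathlib.Algebra.Module.ZMod
import Mathlib.LinearAlgebra.Dimension.Free
import Mathlib.LinearAlgebra.FreeModule.Finite.Basic
import Mathlib.GroupTheory.Index

/-!
# The rows of zeros of the squaring form

Over a nonzero pairing coefficient the row `x = 1` at `e` has a zero iff
`((c + ν e) / κ ^ σ) ^ (σ + 1)` lies in the image of `r ↦ r ^ σ + r`, a hyperplane. This is a
quadratic condition on `e`, so for `|E| ≥ 8` evenly many `e` satisfy it. In particular the number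
of such `e` is not `|E| - 1`.
-/

set_option autoImplicit false
set_option linter.style.haveILetI false

namespace CfsgLib.LocalEven.TIEndgame.SquareZeros

open Finset SuzukiForm

/-- A function of degree at most two on an elementary group of order at least `8` has sum zero. -/
theorem sum_eq_zero_of_quadratic {E : Type*} [AddCommGroup E] [Fintype E] (hE : ∀ e : E, e + e = 0)
    (h8 : 8 ≤ Fintype.card E) (f : E → ZMod 2)
    (hf : ∀ a x y z : E, f (a + x + y + z) + f (a + x + y) + f (a + x + z) + f (a + y + z)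
      + f (a + x) + f (a + y) + f (a + z) + f a = 0) :
    ∑ e, f e = 0 := by
  classical
  haveI : Fact (Nat.Prime 2) := ⟨Nat.prime_two⟩
  letI : Module (ZMod 2) E := AddCommGroup.zmodModule (fun e => by rw [two_nsmul]; exact hE e)
  set d := Module.finrank (ZMod 2) E with hd
  have hcard : Fintype.card E = 2 ^ d := by
    rw [Module.card_eq_pow_finrank (K := ZMod 2), ZMod.card]
  obtain ⟨k, hk⟩ : ∃ k, d = k + 1 + 1 + 1 := by
    refine ⟨d - 3, ?_⟩
    by_contra h
    have : d ≤ 2 := by omega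
    have := Nat.pow_le_pow_right two_pos this
    omega
  set φ : E ≃ₗ[ZMod 2] (Fin (k + 1 + 1 + 1) → ZMod 2) :=
    (Module.finBasisOfFinrankEq (ZMod 2) E hk).equivFun with hφ
  have h2 : ∀ g : ZMod 2 → ZMod 2, ∑ i, g i = g 0 + g 1 := Fin.sum_univ_two
  rw [← φ.symm.toEquiv.sum_comp, ← (Fin.consEquiv (n := k + 1 + 1) fun _ => ZMod 2).sum_comp,
    Fintype.sum_prod_type, h2, ← sum_add_distrib,
    ← (Fin.consEquiv (n := k + 1) fun _ => ZMod 2).sum_comp,
    Fintype.sum_prod_type, h2, ← sum_add_distrib,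
    ← (Fin.consEquiv (n := k) fun _ => ZMod 2).sum_comp, Fintype.sum_prod_type, h2, ← sum_add_distrib]
  refine sum_eq_zero fun v _ => ?_
  have hcons : ∀ (n : ℕ) (i j : ZMod 2) (u w : Fin n → ZMod 2),
      (Fin.cons i u + Fin.cons j w : Fin (n + 1) → ZMod 2) = Fin.cons (i + j) (u + w) := by
    intro n i j u w
    funext t
    refine Fin.cases ?_ (fun t => ?_) t <;> simp
  have hzero : ∀ n : ℕ, (Fin.cons (0 : ZMod 2) (0 : Fin n → ZMod 2) : Fin (n + 1) → ZMod 2) = 0 := by
    intro n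
    funext t
    refine Fin.cases ?_ (fun t => ?_) t <;> simp
  set b : ZMod 2 → ZMod 2 → ZMod 2 → E := fun i j l =>
    φ.symm (Fin.cons i (Fin.cons j (Fin.cons l v))) with hb
  have hlin : ∀ i j l, b i j l = b 0 0 0 + φ.symm (Fin.cons i (Fin.cons j (Fin.cons l 0))) := by
    intro i j l
    rw [hb]
    simp only
    rw [← map_add, hcons, hcons, hcons, zero_add, zero_add, zero_add, add_zero]
  have hsplit : ∀ i j l, b i j l = b 0 0 0 + φ.symm (Fin.cons i (Fin.cons 0 (Fin.cons 0 0)))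
      + φ.symm (Fin.cons 0 (Fin.cons j (Fin.cons 0 0)))
      + φ.symm (Fin.cons 0 (Fin.cons 0 (Fin.cons l 0))) := by
    intro i j l
    rw [hlin, show φ.symm (Fin.cons i (Fin.cons j (Fin.cons l 0))) =
        φ.symm (Fin.cons i (Fin.cons 0 (Fin.cons 0 0))) + φ.symm (Fin.cons 0 (Fin.cons j (Fin.cons 0 0)))
          + φ.symm (Fin.cons 0 (Fin.cons 0 (Fin.cons l 0))) by
      rw [← map_add φ.symm, ← map_add φ.symm]; simp only [hcons, zero_add, add_zero]]
    abel
  set a := b 0 0 0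
  set x := φ.symm (Fin.cons 1 (Fin.cons 0 (Fin.cons 0 0))) with hx
  set y := φ.symm (Fin.cons 0 (Fin.cons 1 (Fin.cons 0 0))) with hy
  set z := φ.symm (Fin.cons 0 (Fin.cons 0 (Fin.cons 1 0))) with hz
  have h0 : φ.symm (Fin.cons 0 (Fin.cons 0 (Fin.cons 0 (0 : Fin k → ZMod 2)))) = 0 := by
    rw [hzero, hzero, hzero, map_zero]
  have e1 : b 1 1 1 = a + x + y + z := hsplit 1 1 1
  have e2 : b 1 1 0 = a + x + y := by rw [hsplit, h0, add_zero]
  have e3 : b 1 0 1 = a + x + z := by rw [hsplit, h0, add_zero]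
  have e4 : b 0 1 1 = a + y + z := by rw [hsplit, h0, add_zero]
  have e5 : b 1 0 0 = a + x := by rw [hsplit, h0, add_zero, add_zero]
  have e6 : b 0 1 0 = a + y := by rw [hsplit, h0, add_zero, add_zero]
  have e7 : b 0 0 1 = a + z := by rw [hsplit, h0, add_zero, add_zero]
  have key := hf a x y z
  rw [← e1, ← e2, ← e3, ← e4, ← e5, ← e6, ← e7] at key
  simp only [hb] at key
  simp only [Fin.consEquiv, Equiv.coe_fn_mk, LinearEquiv.coe_toEquiv]
  linear_combination key

variable {E F : Type*} [AddCommGroup E] [Field F] [Finite F] [CharP F 2] {m : ℕ} {ν : E →+ F}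
  {c κ : F}

/-- The image of `r ↦ r ^ 2 ^ (m + 1) + r`. -/
def hyperplane (F : Type*) [Field F] [CharP F 2] (m : ℕ) : AddSubgroup F :=
  haveI : Fact (Nat.Prime 2) := ⟨Nat.prime_two⟩
  ((iterateFrobenius F 2 (m + 1)).toAddMonoidHom + AddMonoidHom.id F).range

omit [Finite F] in
theorem mem_hyperplane {w : F} : w ∈ hyperplane F m ↔ ∃ r, r ^ 2 ^ (m + 1) + r = w := by
  haveI : Fact (Nat.Prime 2) := ⟨Nat.prime_two⟩
  rfl

/-- Membership in the hyperplane is additive. -/
theorem index_hyperplane (hF : Nat.card F = 2 ^ (2 * m + 1)) : (hyperplane F m).index = 2 := by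
  haveI : Fact (Nat.Prime 2) := ⟨Nat.prime_two⟩
  set f := (iterateFrobenius F 2 (m + 1)).toAddMonoidHom + AddMonoidHom.id F
  have hk : Nat.card f.ker = 2 := by
    rw [show (Nat.card f.ker) = Nat.card ({0, 1} : Set F) from Nat.card_congr (Equiv.setCongr ?_),
      Nat.card_coe_set_eq, Set.ncard_pair zero_ne_one]
    ext r
    simp only [SetLike.mem_coe, AddMonoidHom.mem_ker, f, AddMonoidHom.add_apply,
      AddMonoidHom.id_apply, Set.mem_insert_iff, Set.mem_singleton_iff, RingHom.toAddMonoidHom_eq_coe,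
      AddMonoidHom.coe_coe, iterateFrobenius_def, CharTwo.add_eq_zero]
    constructor
    · intro e
      by_cases hr : r = 0
      · exact Or.inl hr
      · right
        apply (pow_norm_pred_bijective hF).1
        simp only [one_pow]
        refine mul_right_cancel₀ hr ?_
        rw [← pow_succ, Nat.sub_add_cancel Nat.one_le_two_pow, e, one_mul]
    · rintro (rfl | rfl) <;> simp
  have hc := f.ker.card_mul_index
  rw [AddSubgroup.index_ker, hk] at hc
  have hr := f.range.card_mul_index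
  rw [← hc, mul_comm 2] at hr
  exact Nat.eq_of_mul_eq_mul_left Nat.card_pos hr

/-- When a row has a zero. -/
theorem exists_zero_row_iff (hF : Nat.card F = 2 ^ (2 * m + 1)) (hκ : κ ≠ 0) (e : E) :
    (∃ y, SuzukiForm.sq m ν c κ (e, 1, y) = 0) ↔
      ((c + ν e) / κ ^ 2 ^ (m + 1)) ^ (2 ^ (m + 1) + 1) ∈ hyperplane F m := by
  haveI : Fact (Nat.Prime 2) := ⟨Nat.prime_two⟩
  set D := c + ν e
  have hsq : ∀ y, SuzukiForm.sq m ν c κ (e, 1, y) = 1 + D * y + κ * y ^ 2 ^ m := fun y => by simp [SuzukiForm.sq, D]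
  simp only [hsq]
  by_cases hD : D = 0
  · rw [hD, zero_div, zero_pow (by positivity)]
    refine iff_of_true ?_ (zero_mem _)
    obtain ⟨y, hy⟩ := (pow_frob_bijective hF).2 κ⁻¹
    refine ⟨y, ?_⟩
    rw [show y ^ 2 ^ m = κ⁻¹ from hy, zero_mul, add_zero, mul_inv_cancel₀ hκ, CharTwo.add_self_eq_zero]
  set σ := 2 ^ (m + 1) with hσ
  set K := (D / κ ^ σ) ^ (σ + 1) with hK
  have hu : ∀ x : F, x ≠ 0 → (x ^ (σ + 1)) ^ (σ - 1) = x := fun x _ => by
    have h1 : (σ + 1) * (σ - 1) = 2 ^ (2 * m + 1) + (2 ^ (2 * m + 1) - 1) := by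
      rw [← Nat.sq_sub_sq, one_pow, hσ, ← pow_mul, show (m + 1) * 2 = 2 * m + 1 + 1 by ring, pow_succ]
      have := Nat.one_le_two_pow (n := 2 * m + 1)
      omega
    haveI := Fintype.ofFinite F
    rw [← pow_mul, h1, ← hF, Nat.card_eq_fintype_card, pow_add, FiniteField.pow_card,
      FiniteField.pow_card_sub_one_eq_one _ ‹x ≠ 0›, mul_one]
  have hD0 : D / κ ^ σ ≠ 0 := div_ne_zero hD (pow_ne_zero _ hκ)
  have hK0 : K ≠ 0 := pow_ne_zero _ hD0
  have hKσ : K ^ σ * κ ^ σ = K * D := by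
    have := hu _ hD0
    rw [← hK] at this
    rw [← Nat.sub_add_cancel (m := 1) (n := σ) Nat.one_le_two_pow, pow_succ K, this,
      Nat.sub_add_cancel Nat.one_le_two_pow]
    rw [← hσ]
    field_simp
  have key : ∀ y : F, (K * κ * y ^ 2 ^ m) ^ σ + K * κ * y ^ 2 ^ m
      = K * (D * y + κ * y ^ 2 ^ m) := fun y => by
    rw [mul_pow, mul_pow, frob_frob hF, hKσ]
    ring
  rw [mem_hyperplane]
  constructor
  · rintro ⟨y, hy⟩
    refine ⟨K * κ * y ^ 2 ^ m, ?_⟩
    rw [key, show D * y + κ * y ^ 2 ^ m = 1 from (CharTwo.add_eq_zero.1 (by rw [← hy]; ring)).symm,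
      mul_one]
  · rintro ⟨r, hr⟩
    obtain ⟨y, hy⟩ := (pow_frob_bijective hF).2 (r / (K * κ))
    have hr' : r = K * κ * y ^ 2 ^ m := by
      rw [show y ^ 2 ^ m = r / (K * κ) from hy, mul_div_cancel₀ _ (mul_ne_zero hK0 hκ)]
    rw [hr', key] at hr
    refine ⟨y, ?_⟩
    rw [add_assoc, mul_left_cancel₀ hK0 (hr.trans (mul_one K).symm), CharTwo.add_self_eq_zero]

/-- For `|E| ≥ 8` evenly many rows have zeros. -/
theorem even_card_rows (hF : Nat.card F = 2 ^ (2 * m + 1)) (hκ : κ ≠ 0) [Finite E]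
    (hE : ∀ e : E, e + e = 0) (h8 : 8 ≤ Nat.card E) :
    Even (Nat.card {e : E // ∃ y, SuzukiForm.sq m ν c κ (e, 1, y) = 0}) := by
  classical
  haveI := Fintype.ofFinite E
  haveI : Fact (Nat.Prime 2) := ⟨Nat.prime_two⟩
  rw [Nat.card_eq_fintype_card] at h8
  have hidx := index_hyperplane hF
  set χ : F → ZMod 2 := fun w => if w ∈ hyperplane F m then 0 else 1 with hχ
  have hχadd : ∀ v w, χ (v + w) = χ v + χ w := fun v w => by
    simp only [hχ]
    by_cases hv : v ∈ hyperplane F m <;> by_cases hw : w ∈ hyperplane F m <;>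
      simp [AddSubgroup.add_mem_iff_of_index_two hidx, hv, hw, CharTwo.add_self_eq_zero]
  have hE2 : (Fintype.card E : ZMod 2) = 0 := by
    rw [ZMod.natCast_eq_zero_iff_even, even_iff_two_dvd]
    obtain ⟨e, he⟩ : ∃ e : E, e ≠ 0 := by
      obtain ⟨e, -, he⟩ := Finset.exists_mem_ne (s := (univ : Finset E)) (by rw [card_univ]; omega) 0
      exact ⟨e, he⟩
    have : addOrderOf e = 2 := addOrderOf_eq_prime (by rw [two_nsmul]; exact hE e) he
    exact this ▸ addOrderOf_dvd_card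
  have hquad : ∀ A X Y Z A' X' Y' Z' : F,
      (A' + X' + Y' + Z') * (A + X + Y + Z) + (A' + X' + Y') * (A + X + Y)
        + (A' + X' + Z') * (A + X + Z) + (A' + Y' + Z') * (A + Y + Z)
        + (A' + X') * (A + X) + (A' + Y') * (A + Y) + (A' + Z') * (A + Z) + A' * A = 0 :=
    fun A X Y Z A' X' Y' Z' => by
      linear_combination (4 * A * A' + 2 * (A * X' + A * Y' + A * Z' + X * A' + Y * A' + Z * A')
        + 2 * (X * X' + Y * Y' + Z * Z') + (X * Y' + X * Z' + Y * X' + Y * Z' + Z * X' + Z * Y'))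
        * (CharTwo.two_eq_zero : (2 : F) = 0)
  have hsum := sum_eq_zero_of_quadratic hE h8
    (fun e => χ (((c + ν e) / κ ^ 2 ^ (m + 1)) ^ (2 ^ (m + 1) + 1))) (fun a x y z => by
      simp only [← hχadd]
      rw [show (0 : ZMod 2) = χ 0 by simp [hχ]]
      congr 1
      set K := κ ^ 2 ^ (m + 1)
      simp only [map_add, ← add_assoc, add_div, pow_succ _ (2 ^ (m + 1)), add_pow_char_pow]
      exact hquad (c / K + ν a / K) (ν x / K) (ν y / K) (ν z / K) ((c / K) ^ 2 ^ (m + 1) +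
        (ν a / K) ^ 2 ^ (m + 1)) ((ν x / K) ^ 2 ^ (m + 1)) ((ν y / K) ^ 2 ^ (m + 1))
        ((ν z / K) ^ 2 ^ (m + 1)))
  rw [← ZMod.natCast_eq_zero_iff_even, Nat.card_eq_fintype_card, Fintype.card_subtype]
  have hone : ∀ e : E, (if ∃ y, SuzukiForm.sq m ν c κ (e, 1, y) = 0 then (1 : ZMod 2) else 0)
      = 1 + χ (((c + ν e) / κ ^ 2 ^ (m + 1)) ^ (2 ^ (m + 1) + 1)) := fun e => by
    simp only [hχ, exists_zero_row_iff hF hκ e]
    split_ifs <;> simp [CharTwo.add_self_eq_zero]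
  rw [← sum_boole, sum_congr rfl fun e _ => hone e, sum_add_distrib, hsum, sum_const, card_univ,
    nsmul_one, hE2, add_zero]

end CfsgLib.LocalEven.TIEndgame.SquareZeros
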