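import Mathlib.Algebra.CharP.Lemmas
import Mathlib.Algebra.CharP.Two
import Mathlib.Algebra.GCDMonoid.Nat
import Mathlib.FieldTheory.Finite.Basic
import Mathlib.Data.Nat.GCD.Basic

/-!
# The squaring form above a Suzuki line

`F` has order `2 ^ (2 * m + 1)`. The elementary group `E × F × F` models the image, modulo the
elementary group of the members at a point, of the Sylow subgroup above a bad involution; squaring
is `(e, x, y) ↦ x ^ (2 ^ (m + 1) + 1) + (c + ν e) * y + κ * (x * y) ^ 2 ^ m`.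
The zeros over each nonzero `e` are odd in number, so the sum of all zeros is the sum of `E`; if
`κ = 0` the hyperplane `0 × F × F` is intrinsic and contains a zero.
-/

set_option autoImplicit false
set_option linter.style.haveILetI false

namespace CfsgLib.LocalEven.TIEndgame.SuzukiForm

open Finset

variable {E F : Type*} [AddCommGroup E] [Field F]

/-- The squaring form. -/
def sq (m : ℕ) (ν : E →+ F) (c κ : F) (z : E × F × F) : F :=
  z.2.1 ^ (2 ^ (m + 1) + 1) + (c + ν z.1) * z.2.2 + κ * (z.2.1 * z.2.2) ^ 2 ^ m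

/-- The polar of `sq`. -/
def polar (m : ℕ) (ν : E →+ F) (c κ : F) (z w : E × F × F) : F :=
  sq m ν c κ (z + w) + sq m ν c κ z + sq m ν c κ w

variable {m : ℕ} {ν : E →+ F} {c κ : F}

section

variable [Finite F] [CharP F 2] (hF : Nat.card F = 2 ^ (2 * m + 1))
include hF

omit [CharP F 2] in
/-- Powers prime to `|F| - 1` are bijective. -/
theorem pow_bijective {e : ℕ} (he : e ≠ 0) (hco : (2 ^ (2 * m + 1) - 1).Coprime e) :
    Function.Bijective fun x : F => x ^ e := by
  have hu : (Nat.card Fˣ).Coprime e := by rw [Nat.card_units, hF]; exact hco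
  refine Finite.injective_iff_bijective.1 fun x y hxy => ?_
  rcases eq_or_ne x 0 with rfl | hx
  · simp only [zero_pow he] at hxy
    exact ((pow_eq_zero_iff he).1 hxy.symm).symm
  rcases eq_or_ne y 0 with rfl | hy
  · simp only [zero_pow he] at hxy
    exact (pow_eq_zero_iff he).1 hxy
  have : Units.mk0 x hx = Units.mk0 y hy :=
    (powCoprime hu).injective (Units.ext (by simpa [powCoprime] using hxy))
  simpa using congrArg Units.val this

omit [CharP F 2] in
theorem pow_frob_bijective : Function.Bijective fun x : F => x ^ 2 ^ m :=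
  pow_bijective hF (pow_ne_zero _ two_ne_zero) (Nat.Coprime.pow_right _ (Nat.coprime_two_right.2
    (Nat.Even.sub_odd (Nat.one_le_two_pow) (Even.pow_of_ne_zero even_two (by omega)) odd_one)))

omit [CharP F 2] in
theorem pow_pred_bijective (hm : 1 ≤ m) : Function.Bijective fun x : F => x ^ (2 ^ m - 1) := by
  refine pow_bijective hF (Nat.sub_ne_zero_of_lt (Nat.one_lt_two_pow (by omega))) ?_
  rw [Nat.coprime_iff_gcd_eq_one, Nat.pow_sub_one_gcd_pow_sub_one,
    Nat.gcd_comm, show 2 * m + 1 = 1 + 2 * m by omega, Nat.gcd_add_mul_right_right, Nat.gcd_one_right,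
    pow_one]

omit [CharP F 2] in
theorem pow_norm_bijective : Function.Bijective fun x : F => x ^ (2 ^ (m + 1) + 1) := by
  refine pow_bijective hF (by positivity) ?_
  have h1 : (2 ^ (2 * (m + 1)) - 1).gcd (2 ^ (2 * m + 1) - 1) = 1 := by
    rw [Nat.pow_sub_one_gcd_pow_sub_one, show 2 * (m + 1) = 2 * m + 1 + 1 by ring,
      Nat.gcd_self_add_left, Nat.gcd_one_left, pow_one]
  refine Nat.Coprime.coprime_dvd_right ⟨2 ^ (m + 1) - 1, ?_⟩ (Nat.Coprime.symm h1)
  rw [Nat.mul_comm 2 (m + 1), pow_mul, ← Nat.sq_sub_sq, one_pow]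

omit [CharP F 2] in
theorem pow_norm_pred_bijective : Function.Bijective fun x : F => x ^ (2 ^ (m + 1) - 1) := by
  refine pow_bijective hF (Nat.sub_ne_zero_of_lt (Nat.one_lt_two_pow (by omega))) ?_
  rw [Nat.coprime_iff_gcd_eq_one, Nat.pow_sub_one_gcd_pow_sub_one, show 2 * m + 1 = (m + 1) + m by omega,
    Nat.gcd_self_add_left]
  simp

omit [CharP F 2] in
theorem frob_frob (t : F) : (t ^ 2 ^ m) ^ 2 ^ (m + 1) = t := by
  haveI := Fintype.ofFinite F
  rw [← pow_mul, ← pow_add, show m + (m + 1) = 2 * m + 1 by omega, ← hF, Nat.card_eq_fintype_card,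
    FiniteField.pow_card]

end

section

variable [CharP F 2]

theorem polar_eq (z w : E × F × F) :
    polar m ν c κ z w = z.2.1 ^ 2 ^ (m + 1) * w.2.1 + w.2.1 ^ 2 ^ (m + 1) * z.2.1
      + (ν z.1 * w.2.2 + ν w.1 * z.2.2)
      + κ * ((z.2.1 * w.2.2) ^ 2 ^ m + (w.2.1 * z.2.2) ^ 2 ^ m) := by
  haveI : Fact (Nat.Prime 2) := ⟨Nat.prime_two⟩
  obtain ⟨e, x, y⟩ := z
  obtain ⟨f, a, b⟩ := w
  simp only [polar, sq, Prod.mk_add_mk, map_add, pow_succ _ (2 ^ (m + 1)), add_mul, mul_add, add_pow_char_pow]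
  linear_combination (x ^ 2 ^ (m + 1) * x + a ^ 2 ^ (m + 1) * a + (c * y + ν e * y) + (c * b + ν f * b)
    + κ * (x * y) ^ 2 ^ m + κ * (a * b) ^ 2 ^ m) * (CharTwo.two_eq_zero : (2 : F) = 0)

variable [Finite F] (hF : Nat.card F = 2 ^ (2 * m + 1))
include hF

omit [CharP F 2] in
theorem sq_scale (e : E) (t x y : F) :
    sq m ν c κ (e, t * x, t ^ (2 ^ (m + 1) + 1) * y) =
      t ^ (2 ^ (m + 1) + 1) * sq m ν c κ (e, x, y) := by
  have ht : (t ^ 2 ^ m * (t ^ 2 ^ m) ^ 2 ^ (m + 1)) * t ^ 2 ^ m = t ^ (2 ^ (m + 1) + 1) := by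
    rw [frob_frob hF, pow_succ t (2 ^ (m + 1)), mul_right_comm, ← pow_add,
      show 2 ^ m + 2 ^ m = 2 ^ (m + 1) by rw [pow_succ]; omega]
  simp only [sq]
  rw [mul_pow, show t * x * (t ^ (2 ^ (m + 1) + 1) * y) = (t * t ^ 2 ^ (m + 1) * t) * (x * y) by ring,
    mul_pow _ (x * y), mul_pow (t * t ^ 2 ^ (m + 1)), mul_pow t, pow_right_comm t (2 ^ (m + 1)), ht]
  ring

/-- Off `x = 0` the fibres are even as soon as both coefficients are nonzero. -/
theorem even_fibre [Fintype F] [DecidableEq F] (hm : 1 ≤ m) {a x : F} (ha : a ≠ 0) (hκ : κ ≠ 0)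
    (hx : x ≠ 0) (d : F) : Even #{y : F | d + a * y + κ * (x * y) ^ 2 ^ m = 0} := by
  haveI : Fact (Nat.Prime 2) := ⟨Nat.prime_two⟩
  obtain ⟨δ, hδ⟩ := (pow_pred_bijective hF hm).2 (a / (κ * x ^ 2 ^ m))
  replace hδ : δ ^ (2 ^ m - 1) = a / (κ * x ^ 2 ^ m) := hδ
  have hx' : κ * x ^ 2 ^ m ≠ 0 := mul_ne_zero hκ (pow_ne_zero _ hx)
  have hδ0 : δ ≠ 0 := by
    rintro rfl
    rw [zero_pow (Nat.sub_ne_zero_of_lt (Nat.one_lt_two_pow (by omega)))] at hδ
    exact div_ne_zero ha hx' hδ.symm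
  have hk : a * δ + κ * (x * δ) ^ 2 ^ m = 0 := by
    have : δ ^ 2 ^ m = a / (κ * x ^ 2 ^ m) * δ := by
      rw [← hδ, ← pow_succ, Nat.sub_add_cancel Nat.one_le_two_pow]
    rw [mul_pow, this, show κ * (x ^ 2 ^ m * (a / (κ * x ^ 2 ^ m) * δ))
      = κ * x ^ 2 ^ m * (a / (κ * x ^ 2 ^ m)) * δ by ring, mul_div_cancel₀ _ hx', CharTwo.add_self_eq_zero]
  rw [← ZMod.natCast_eq_zero_iff_even, card_eq_sum_ones, Nat.cast_sum, Nat.cast_one]
  refine sum_involution (fun y _ => y + δ) (fun y _ => rfl) (fun y _ _ => ?_) (fun y hy => ?_)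
    (fun y _ => by rw [add_assoc, CharTwo.add_self_eq_zero, add_zero])
  · simpa using hδ0
  · simp only [mem_filter, mem_univ, true_and] at hy ⊢
    rw [mul_add x, add_pow_char_pow]
    linear_combination hy + hk

/-- Over a nonzero `κ` every coset of the hyperplane has an odd number of zeros. -/
theorem odd_zeros [Fintype F] [DecidableEq F] (hm : 1 ≤ m) (hκ : κ ≠ 0) (e : E) :
    Odd #{p : F × F | sq m ν c κ (e, p) = 0} := by
  rw [← ZMod.natCast_eq_one_iff_odd,
    card_eq_sum_card_fiberwise (f := Prod.fst) (t := (univ : Finset F)) fun _ _ => mem_univ _,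
    Nat.cast_sum, ← add_sum_erase univ _ (mem_univ (0 : F))]
  have hfib : ∀ x : F, #({p ∈ ({p : F × F | sq m ν c κ (e, p) = 0} : Finset (F × F)) | p.1 = x}) =
      #{y : F | x ^ (2 ^ (m + 1) + 1) + (c + ν e) * y + κ * (x * y) ^ 2 ^ m = 0} := fun x => by
    refine card_bij' (fun p _ => p.2) (fun y _ => (x, y)) ?_ ?_ ?_ ?_
    · rintro ⟨x', y⟩ hp
      simp only [mem_filter, mem_univ, true_and] at hp ⊢
      obtain ⟨hp, rfl⟩ := hp
      exact hp
    · intro y hy
      simp only [mem_filter, mem_univ, true_and, and_true] at hy ⊢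
      exact hy
    · rintro ⟨x', y⟩ hp
      simp only [mem_filter, mem_univ, true_and] at hp
      exact Prod.ext hp.2.symm rfl
    · intro y _
      rfl
  simp only [hfib]
  have h0 : ∀ y : F, (0 : F) ^ (2 ^ (m + 1) + 1) + (c + ν e) * y + κ * (0 * y) ^ 2 ^ m = (c + ν e) * y := by
    intro y
    rw [zero_pow (by positivity), zero_mul, zero_pow (by positivity)]
    ring
  simp only [h0]
  by_cases ha : c + ν e = 0
  · have h1 : ∀ x : F, x ≠ 0 →
        #{y : F | x ^ (2 ^ (m + 1) + 1) + (c + ν e) * y + κ * (x * y) ^ 2 ^ m = 0} = 1 := fun x hx => by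
      refine card_eq_one.2 ?_
      obtain ⟨w, hw⟩ := (pow_frob_bijective hF).2 (x ^ (2 ^ (m + 1) + 1) / κ)
      replace hw : w ^ 2 ^ m = x ^ (2 ^ (m + 1) + 1) / κ := hw
      refine ⟨w / x, ext fun y => ?_⟩
      simp only [mem_filter, mem_univ, true_and, mem_singleton, ha, zero_mul, add_zero,
        CharTwo.add_eq_zero]
      rw [eq_div_iff hx, mul_comm y]
      refine ⟨fun h => (pow_frob_bijective hF).1 ?_, fun h => ?_⟩
      · show (x * y) ^ 2 ^ m = w ^ 2 ^ m
        rw [hw, eq_div_iff hκ, h, mul_comm]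
      · rw [h, hw, mul_div_cancel₀ _ hκ]
    rw [sum_congr rfl fun x hx => by rw [h1 x (mem_erase.1 hx).1, Nat.cast_one]]
    simp only [ha, zero_mul, filter_true, card_univ, sum_const, card_erase_of_mem (mem_univ _),
      nsmul_eq_mul, mul_one, ← Nat.card_eq_fintype_card, hF]
    rw [ZMod.natCast_eq_zero_iff_even.2 (Even.pow_of_ne_zero even_two (by omega)), zero_add,
      ZMod.natCast_eq_one_iff_odd]
    exact Nat.Even.sub_odd Nat.one_le_two_pow (Even.pow_of_ne_zero even_two (by omega)) odd_one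
  · rw [sum_eq_zero fun x hx => ZMod.natCast_eq_zero_iff_even.2
      (even_fibre hF hm ha hκ (mem_erase.1 hx).1 _), add_zero]
    simp [ha, filter_eq']

/-- The sum of all zeros is the sum of `E`. -/
theorem sum_zeros [Fintype E] [Fintype F] [DecidableEq F] (hm : 1 ≤ m) (hκ : κ ≠ 0)
    (hE : ∀ e : E, e + e = 0) :
    ∑ z ∈ ({z : E × F × F | sq m ν c κ z = 0} : Finset (E × F × F)), z = (∑ e, e, 0, 0) := by
  obtain ⟨t, ht0, ht1⟩ : ∃ t : F, t ≠ 0 ∧ t ≠ 1 := by
    have hcard : 2 < Fintype.card F := by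
      rw [← Nat.card_eq_fintype_card, hF]
      calc 2 < 2 ^ 3 := by norm_num
        _ ≤ _ := Nat.pow_le_pow_right two_pos (by omega)
    obtain ⟨t, -, ht⟩ := exists_mem_notMem_of_card_lt_card (s := ({0, 1} : Finset F)) (t := univ)
      (by rw [card_pair zero_ne_one, card_univ]; exact hcard)
    simp only [mem_insert, mem_singleton, not_or] at ht
    exact ⟨t, ht⟩
  classical
  set d := 2 ^ (m + 1) + 1
  have htd : t ^ d ≠ 1 := fun h => ht1 ((pow_norm_bijective hF).1 (by simpa [d] using h))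
  set Z := ({z : E × F × F | sq m ν c κ z = 0} : Finset (E × F × F))
  have hinv : ∀ f : E × F × F → F, ∑ z ∈ Z, f (z.1, t * z.2.1, t ^ d * z.2.2) = ∑ z ∈ Z, f z := by
    intro f
    refine sum_bij' (fun z _ => (z.1, t * z.2.1, t ^ d * z.2.2))
      (fun z _ => (z.1, t⁻¹ * z.2.1, t⁻¹ ^ d * z.2.2)) ?_ ?_ ?_ ?_ fun _ _ => rfl
    · rintro ⟨e, x, y⟩ hz
      simp only [Z, mem_filter, mem_univ, true_and] at hz ⊢
      rw [sq_scale hF, hz, mul_zero]
    · rintro ⟨e, x, y⟩ hz
      simp only [Z, mem_filter, mem_univ, true_and] at hz ⊢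
      rw [sq_scale hF, hz, mul_zero]
    · rintro ⟨e, x, y⟩ -
      simp [← mul_assoc, inv_mul_cancel₀ ht0, inv_mul_cancel₀ (pow_ne_zero d ht0)]
    · rintro ⟨e, x, y⟩ -
      simp [← mul_assoc, mul_inv_cancel₀ ht0, mul_inv_cancel₀ (pow_ne_zero d ht0)]
  refine Prod.ext ?_ (Prod.ext ?_ ?_)
  · rw [Prod.fst_sum, ← sum_fiberwise_of_maps_to (g := Prod.fst) (t := (univ : Finset E)) fun _ _ => mem_univ _]
    refine sum_congr rfl fun e _ => ?_
    have hcard : #({z ∈ Z | z.1 = e}) = #{p : F × F | sq m ν c κ (e, p) = 0} := by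
      refine card_bij' (fun z _ => z.2) (fun p _ => (e, p)) ?_ ?_ ?_ ?_
      · rintro ⟨e', p⟩ hz
        simp only [Z, mem_filter, mem_univ, true_and] at hz ⊢
        obtain ⟨hz, rfl⟩ := hz
        exact hz
      · intro p hp
        simp only [Z, mem_filter, mem_univ, true_and, and_true] at hp ⊢
        exact hp
      · rintro ⟨e', p⟩ hz
        simp only [mem_filter] at hz
        exact Prod.ext hz.2.symm rfl
      · intro p _
        rfl
    rw [sum_congr rfl fun z hz => (mem_filter.1 hz).2, sum_const, hcard]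
    obtain ⟨k, hk⟩ := odd_zeros (c := c) (ν := ν) hF hm hκ e
    rw [hk, succ_nsmul, mul_nsmul', two_nsmul, hE, zero_add]
  · have h := hinv fun z => z.2.1
    rw [← mul_sum] at h
    rw [Prod.snd_sum, Prod.fst_sum]
    exact (mul_left_eq_self₀.1 h).resolve_left ht1
  · have h := hinv fun z => z.2.2
    rw [← mul_sum] at h
    rw [Prod.snd_sum, Prod.snd_sum]
    exact (mul_left_eq_self₀.1 h).resolve_left htd

omit hF [Finite F] in
/-- If `κ = 0` the hyperplane `0 × F × F` contains a nonzero zero. -/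
theorem exists_zero_hyperplane : ∃ p : F × F, p ≠ 0 ∧ sq m ν c (0 : F) ((0 : E), p) = 0 := by
  by_cases hc : c = 0
  · exact ⟨(0, 1), by simp, by simp [sq, hc]⟩
  · refine ⟨(1, c⁻¹), by simp, ?_⟩
    simp [sq, mul_inv_cancel₀ hc, CharTwo.add_self_eq_zero]

omit hF [Finite F] in
/-- The last coordinate commutes with little. -/
theorem range_polar_subset (y : F) :
    Set.range (polar m ν c (0 : F) ((0 : E), 0, y)) ⊆ Set.range fun f : E => ν f * y := by
  rintro _ ⟨w, rfl⟩
  exact ⟨w.1, by simp [polar_eq]⟩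

/-- Everything off the last coordinate commutes with at most half. -/
theorem card_le_range_polar (hν : Function.Injective ν) {z : E × F × F}
    (hz : z.1 ≠ 0 ∨ z.2.1 ≠ 0) :
    Nat.card F ≤ 2 * Nat.card (Set.range (polar m ν c (0 : F) z)) := by
  classical
  haveI := Fintype.ofFinite F
  by_cases he : z.1 = 0
  · have hx : z.2.1 ≠ 0 := hz.resolve_left (· he)
    set g : F → F := fun a => polar m ν c (0 : F) z (0, a, 0)
    have h1 : Finset.card (univ : Finset F) ≤ 2 * #(univ.image g) := by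
      refine card_le_mul_card_image _ 2 fun b hb => ?_
      obtain ⟨a₀, -, rfl⟩ := mem_image.1 hb
      refine (card_le_card (t := {a₀, a₀ + z.2.1}) fun a ha => ?_).trans card_le_two
      simp only [mem_filter, mem_univ, true_and, g, polar_eq, he, map_zero, zero_mul, mul_zero,
        add_zero] at ha
      haveI : Fact (Nat.Prime 2) := ⟨Nat.prime_two⟩
      have h : z.2.1 ^ 2 ^ (m + 1) * (a + a₀) + (a + a₀) ^ 2 ^ (m + 1) * z.2.1 = 0 := by
        rw [add_pow_char_pow]
        linear_combination ha + (z.2.1 ^ 2 ^ (m + 1) * a₀ + a₀ ^ 2 ^ (m + 1) * z.2.1) *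
          (CharTwo.two_eq_zero : (2 : F) = 0)
      simp only [mem_insert, mem_singleton]
      by_cases hb : a + a₀ = 0
      · exact Or.inl (CharTwo.add_eq_zero.1 hb)
      refine Or.inr ?_
      have he1 : 2 ^ (m + 1) - 1 + 1 = 2 ^ (m + 1) := Nat.sub_add_cancel Nat.one_le_two_pow
      have h2 : (a + a₀) ^ (2 ^ (m + 1) - 1) = z.2.1 ^ (2 ^ (m + 1) - 1) := by
        generalize hk : 2 ^ (m + 1) - 1 = k
        rw [hk] at he1
        rw [← he1, pow_succ, pow_succ, CharTwo.add_eq_zero] at h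
        refine mul_right_cancel₀ (mul_ne_zero hb hx) ?_
        linear_combination -h
      rw [← (pow_norm_pred_bijective hF).1 h2, add_comm a a₀, ← add_assoc, CharTwo.add_self_eq_zero,
        zero_add]
    rw [Nat.card_eq_fintype_card (α := F), ← card_univ]
    refine h1.trans (Nat.mul_le_mul_left 2 ?_)
    rw [← Set.ncard_coe_finset, Nat.card_coe_set_eq]
    refine Set.ncard_le_ncard ?_ (Set.toFinite _)
    intro b hb
    obtain ⟨a, -, rfl⟩ := mem_image.1 hb
    exact ⟨_, rfl⟩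
  · have hνe : ν z.1 ≠ 0 := fun h => he (hν (h.trans (map_zero ν).symm))
    have : Set.range (polar m ν c (0 : F) z) = Set.univ := by
      refine Set.eq_univ_of_forall fun b => ⟨(0, 0, b / ν z.1), ?_⟩
      simp [polar_eq, mul_div_cancel₀ b hνe]
    rw [this, Nat.card_univ]
    omega

omit hF [Finite F] in
/-- The hyperplane `0 × F × F` is the orthogonal of the last coordinate. -/
theorem forall_polar_eq_zero_iff (hν : Function.Injective ν) (z : E × F × F) :
    (∀ y : F, polar m ν c (0 : F) z (0, 0, y) = 0) ↔ z.1 = 0 := by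
  refine ⟨fun h => hν ?_, fun h y => by simp [polar_eq, h]⟩
  simpa [polar_eq] using h 1

omit hF [Finite F] [CharP F 2] in
/-- A sum fixed by symmetries with small fixed sets pins the set. -/
theorem eq_of_sum_fixed {A : Type*} [AddCommGroup A] {Z : Finset A} {u v : A} (g : A ≃+ A)
    (hg : ∀ z, g z ∈ Z ↔ z ∈ Z) (hfix : ∀ a, g a = a → a = 0 ∨ a = v)
    (hsum : ∑ z ∈ Z, z = u) (hu : u ≠ 0) : v = u := by
  refine ((hfix u ?_).resolve_left hu).symm
  rw [← hsum, map_sum]
  exact sum_equiv g.toEquiv (fun z => (hg z).symm) fun _ _ => rfl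

end

end CfsgLib.LocalEven.TIEndgame.SuzukiForm
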