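import Mathlib.Algebra.CharP.Lemmas
import Mathlib.Algebra.Algebra.ZMod
import Mathlib.Algebra.Module.ZMod
import Mathlib.Algebra.CharP.Algebra
import Mathlib.Combinatorics.Colex
import Mathlib.FieldTheory.Finite.Basic
import Mathlib.FieldTheory.Fixed
import Mathlib.LinearAlgebra.FreeModule.Finite.Matrix

/-!
# The pairing above a Suzuki line

Over a field `F` of order `2 ^ (2 * m + 1)` a biadditive map `B : F × F → F` with
`B (t x) (t ^ d y) = t ^ d * B x y`, `d = 2 ^ (m + 1) + 1`, is `κ * (x * y) ^ 2 ^ m`.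
-/

set_option autoImplicit false
set_option linter.style.haveILetI false

namespace CfsgLib.LocalEven.TIEndgame.SuzukiPairing

open Finset

/-- A sum of distinct powers of two is determined modulo `2 ^ n - 1`, short of all of them. -/
theorem eq_of_modEq {n : ℕ} {S T : Finset ℕ} (hS : S ⊆ range n) (hT : T ⊂ range n)
    (hT0 : T.Nonempty) (hS0 : S.Nonempty)
    (h : ∑ i ∈ T, 2 ^ i ≡ ∑ i ∈ S, 2 ^ i [MOD 2 ^ n - 1]) : S = T := by
  have hsum : ∑ i ∈ range n, 2 ^ i = 2 ^ n - 1 := by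
    rw [Nat.geomSum_eq le_rfl]; simp
  have hTlt : ∑ i ∈ T, 2 ^ i < 2 ^ n - 1 := by
    rw [← hsum]
    obtain ⟨i, hi, hiT⟩ := exists_of_ssubset hT
    exact sum_lt_sum_of_subset hT.1 hi hiT (by positivity) fun _ _ _ => Nat.zero_le _
  have hSle : ∑ i ∈ S, 2 ^ i ≤ 2 ^ n - 1 := by
    rw [← hsum]
    exact sum_le_sum_of_subset hS
  have hTpos : 0 < ∑ i ∈ T, 2 ^ i := sum_pos (fun i _ => by positivity) hT0
  have hSpos : 0 < ∑ i ∈ S, 2 ^ i := sum_pos (fun i _ => by positivity) hS0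
  refine (geomSum_injective le_rfl) ?_
  rcases lt_or_eq_of_le hSle with hlt | heq
  · exact (h.eq_of_lt_of_lt hTlt hlt).symm
  · exfalso
    have : ∑ i ∈ T, 2 ^ i ≡ 0 [MOD 2 ^ n - 1] := by
      rw [heq] at h
      exact h.trans (Nat.modEq_zero_iff_dvd.2 dvd_rfl)
    have := this.eq_of_lt_of_lt hTlt (by omega)
    omega

theorem two_pow_mod {n : ℕ} (a : ℕ) : 2 ^ a ≡ 2 ^ (a % n) [MOD 2 ^ n - 1] := by
  conv_lhs => rw [← Nat.div_add_mod a n, pow_add, pow_mul]
  have h1 : 2 ^ n ≡ 1 [MOD 2 ^ n - 1] :=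
    Nat.ModEq.symm ((Nat.modEq_iff_dvd' Nat.one_le_two_pow).2 dvd_rfl)
  simpa using ((h1.pow (a / n)).mul_right (2 ^ (a % n)))

theorem add_mod_lt {n j s : ℕ} (hj : j < n) (hs : s ≤ n) :
    (j + s < n ∧ (j + s) % n = j + s) ∨ (n ≤ j + s ∧ (j + s) % n = j + s - n) := by
  rcases lt_or_ge (j + s) n with h | h
  · exact Or.inl ⟨h, Nat.mod_eq_of_lt h⟩
  · exact Or.inr ⟨h, by rw [Nat.mod_eq_sub_mod h, Nat.mod_eq_of_lt (by omega)]⟩

/-- The one exponent solution. -/
theorem eq_middle {m : ℕ} (hm : 1 ≤ m) {j k : ℕ} (hj : j < 2 * m + 1)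
    (h : 2 ^ (m + 1) + 1 ≡ 2 ^ k + 2 ^ (m + 1) * 2 ^ j + 2 ^ j [MOD 2 ^ (2 * m + 1) - 1]) :
    j = m := by
  set n := 2 * m + 1 with hn
  set a := k % n
  set b := (j + (m + 1)) % n with hb
  have ha : a < n := Nat.mod_lt _ (by omega)
  have hbn : b < n := Nat.mod_lt _ (by omega)
  have h' : ∑ i ∈ ({0, m + 1} : Finset ℕ), 2 ^ i ≡ 2 ^ a + 2 ^ b + 2 ^ j [MOD 2 ^ n - 1] := by
    rw [sum_pair (by omega), pow_zero, add_comm]
    refine h.trans (((two_pow_mod k).add ?_).add_right _)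
    rw [← pow_add, add_comm (m + 1) j]
    exact two_pow_mod _
  have hT : ({0, m + 1} : Finset ℕ) ⊂ range n := by
    refine ssubset_iff_of_subset (by intro i hi; simp at hi; simp; omega) |>.2 ⟨1, by simp; omega, ?_⟩
    simp
    omega
  have hbj : b ≠ j := by
    rcases add_mod_lt hj (s := m + 1) (by omega) with ⟨h0, h1⟩ | ⟨h0, h1⟩ <;> (rw [hb, h1]; omega)
  have hb' := add_mod_lt hj (s := m + 1) (by omega)
  rw [← hb] at hb'
  by_cases haj : a = j
  · have hj1 := add_mod_lt hj (s := 1) (by omega)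
    set c := (j + 1) % n with hc
    have hcn : c < n := Nat.mod_lt _ (by omega)
    have hcb : c ≠ b := by omega
    have h2 : ∑ i ∈ ({0, m + 1} : Finset ℕ), 2 ^ i ≡ ∑ i ∈ ({c, b} : Finset ℕ), 2 ^ i [MOD 2 ^ n - 1] := by
      refine h'.trans ?_
      rw [sum_pair hcb, haj, show 2 ^ j + 2 ^ b + 2 ^ j = 2 ^ (j + 1) + 2 ^ b by ring]
      exact (two_pow_mod _).add_right _
    have := eq_of_modEq (by intro i hi; simp at hi; simp; omega) hT ⟨0, by simp⟩ ⟨c, by simp⟩ h2
    have h0 : c ∈ ({0, m + 1} : Finset ℕ) := this ▸ mem_insert_self _ _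
    have h1 : b ∈ ({0, m + 1} : Finset ℕ) := this ▸ mem_insert_of_mem (mem_singleton_self _)
    simp at h0 h1
    omega
  by_cases hab : a = b
  · have hb1 := add_mod_lt hbn (s := 1) (by omega)
    set c := (b + 1) % n with hc
    have hcn : c < n := Nat.mod_lt _ (by omega)
    have h2 : ∑ i ∈ ({0, m + 1} : Finset ℕ), 2 ^ i ≡ 2 ^ c + 2 ^ j [MOD 2 ^ n - 1] := by
      refine h'.trans ?_
      rw [hab, show 2 ^ b + 2 ^ b + 2 ^ j = 2 ^ (b + 1) + 2 ^ j by ring]
      exact (two_pow_mod _).add_right _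
    by_cases hcj : c = j
    · exfalso
      have h3 : ∑ i ∈ ({0, m + 1} : Finset ℕ), 2 ^ i ≡ ∑ i ∈ ({(j + 1) % n} : Finset ℕ), 2 ^ i [MOD 2 ^ n - 1] := by
        rw [sum_singleton]
        refine h2.trans ?_
        rw [hcj, show 2 ^ j + 2 ^ j = 2 ^ (j + 1) by ring]
        exact two_pow_mod _
      have := eq_of_modEq (by intro i hi; simp at hi; simp [hi]; exact Nat.mod_lt _ (by omega))
        hT ⟨0, by simp⟩ ⟨_, mem_singleton_self _⟩ h3
      have hc2 := congrArg Finset.card this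
      rw [card_singleton, card_pair (by omega)] at hc2
      omega
    · rw [← sum_pair hcj] at h2
      have := eq_of_modEq (by intro i hi; simp at hi; simp; omega) hT ⟨0, by simp⟩ ⟨c, by simp⟩ h2
      have h0 : c ∈ ({0, m + 1} : Finset ℕ) := this ▸ mem_insert_self _ _
      have h1 : j ∈ ({0, m + 1} : Finset ℕ) := this ▸ mem_insert_of_mem (mem_singleton_self _)
      simp at h0 h1
      omega
  · exfalso
    have h2 : ∑ i ∈ ({0, m + 1} : Finset ℕ), 2 ^ i ≡ ∑ i ∈ ({a, b, j} : Finset ℕ), 2 ^ i [MOD 2 ^ n - 1] := by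
      rwa [show ∑ i ∈ ({a, b, j} : Finset ℕ), 2 ^ i = 2 ^ a + 2 ^ b + 2 ^ j by rw [sum_insert (by simp [hab, haj]), sum_pair hbj, add_assoc]]
    have := eq_of_modEq (by intro i hi; simp at hi; simp; omega) hT ⟨0, by simp⟩ ⟨a, by simp⟩ h2
    have hc2 := congrArg Finset.card this
    rw [card_insert_of_notMem (by simp [hab, haj]), card_pair hbj, card_pair (by omega)] at hc2
    omega

variable {F : Type*} [Field F] [Finite F] [CharP F 2] {m : ℕ}

/-- The equivariant biadditive maps. -/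
theorem exists_coeff (hF : Nat.card F = 2 ^ (2 * m + 1)) (hm : 1 ≤ m) (B : F →+ F →+ F)
    (hB : ∀ t x y : F, t ≠ 0 → B (t * x) (t ^ (2 ^ (m + 1) + 1) * y) = t ^ (2 ^ (m + 1) + 1) * B x y) :
    ∃ κ : F, ∀ x y : F, B x y = κ * (x * y) ^ 2 ^ m := by
  classical
  haveI := Fintype.ofFinite F
  haveI : Fact (Nat.Prime 2) := ⟨Nat.prime_two⟩
  letI : Algebra (ZMod 2) F := ZMod.algebra F 2
  set d := 2 ^ (m + 1) + 1 with hd
  have hfin : Module.finrank (ZMod 2) F = 2 * m + 1 := by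
    have := Module.card_eq_pow_finrank (K := ZMod 2) (V := F)
    rw [ZMod.card, ← Nat.card_eq_fintype_card, hF] at this
    exact (Nat.pow_right_injective le_rfl this).symm
  set φ : Fin (Module.finrank (ZMod 2) F) → (F →ₗ[ZMod 2] F) :=
    fun i => (FiniteField.frobeniusAlgHom (ZMod 2) F ^ i.1).toLinearMap
  have hφ : ∀ (i : Fin (Module.finrank (ZMod 2) F)) (y : F), φ i y = y ^ 2 ^ i.1 := fun i y => by
    show (FiniteField.frobeniusAlgHom (ZMod 2) F ^ i.1) y = _
    rw [AlgHom.coe_pow, FiniteField.coe_frobeniusAlgHom, pow_iterate, ZMod.card]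
  have hli : LinearIndependent F φ :=
    (linearIndependent_algHom_toLinearMap (ZMod 2) F F).comp _
      (FiniteField.bijective_frobeniusAlgHom_pow (ZMod 2) F).1
  haveI : Nonempty (Fin (Module.finrank (ZMod 2) F)) := ⟨⟨0, Module.finrank_pos⟩⟩
  have hspan := hli.span_eq_top_of_card_eq_finrank
    (by rw [Fintype.card_fin, Module.finrank_linearMap_self])
  obtain ⟨a, ha⟩ := (Submodule.mem_span_range_iff_exists_fun F).1
    (hspan.symm ▸ Submodule.mem_top (x := (B 1).toZModLinearMap 2))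
  have hg : ∀ y : F, B 1 y = ∑ i, a i * y ^ 2 ^ i.1 := fun y => by
    rw [← AddMonoidHom.coe_toZModLinearMap 2 (B 1), ← ha]
    simp [hφ]
  have hBx : ∀ x y : F, x ≠ 0 → B x y = ∑ i, a i * (x ^ d / (x ^ d) ^ 2 ^ i.1) * y ^ 2 ^ i.1 := by
    intro x y hx
    have h := hB x 1 (y / x ^ d) hx
    rw [mul_one, mul_div_cancel₀ _ (pow_ne_zero _ hx)] at h
    rw [h, hg, mul_sum]
    refine sum_congr rfl fun i _ => ?_
    rw [div_pow]
    ring
  set f : Fin (Module.finrank (ZMod 2) F) → F → F :=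
    fun i x => if x = 0 then 0 else x ^ d / (x ^ d) ^ 2 ^ i.1
  have hBx' : ∀ x y : F, B x y = ∑ i, a i * f i x * y ^ 2 ^ i.1 := fun x y => by
    by_cases hx : x = 0
    · simp [f, hx]
    · simpa [f, hx] using hBx x y hx
  have hadd : ∀ i, a i ≠ 0 → ∀ x x' : F, f i (x + x') = f i x + f i x' := by
    intro i hi x x'
    have h0 : ∑ i, (a i * (f i (x + x') - (f i x + f i x'))) • φ i = 0 := by
      refine LinearMap.ext fun y => ?_
      have h := hBx' (x + x') y
      rw [map_add, AddMonoidHom.add_apply, hBx', hBx', ← sum_add_distrib] at h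
      simp only [LinearMap.sum_apply, LinearMap.smul_apply, LinearMap.zero_apply, hφ, smul_eq_mul]
      rw [← sub_eq_zero, ← sum_sub_distrib] at h
      rw [← neg_eq_zero, ← h, ← sum_neg_distrib]
      exact sum_congr rfl fun i _ => by ring
    exact sub_eq_zero.1 ((mul_eq_zero.1 (Fintype.linearIndependent_iff.1 hli _ h0 i)).resolve_left hi)
  have hmid : ∀ i, a i ≠ 0 → i.1 = m := by
    intro i hi
    obtain ⟨⟨k, _⟩, hk⟩ := (FiniteField.bijective_frobeniusAlgHom_pow (ZMod 2) F).2 (AlgHom.mk'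
        ({ toFun := f i
           map_zero' := by simp [f]
           map_one' := by simp [f]
           map_mul' := fun x x' => by
             by_cases hx : x = 0
             · simp [f, hx]
             by_cases hx' : x' = 0
             · simp [f, hx']
             simp [f, hx, hx', mul_pow]
             field_simp
           map_add' := hadd i hi } : F →+* F)
        (fun c x => ZMod.map_smul (AddMonoidHom.mk' (f i) (hadd i hi)) c x))
    refine eq_middle hm (by have := i.2; omega) (k := k) ?_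
    obtain ⟨g, hgen⟩ := IsCyclic.exists_generator (α := Fˣ)
    have h1 : (g : F) ^ d = (g : F) ^ (2 ^ k + d * 2 ^ i.1) := by
      have h := DFunLike.congr_fun hk (g : F)
      simp only [AlgHom.coe_pow, FiniteField.coe_frobeniusAlgHom, pow_iterate, ZMod.card] at h
      have h' : (g : F) ^ 2 ^ k = (g : F) ^ d / ((g : F) ^ d) ^ 2 ^ i.1 := h.trans (if_neg g.ne_zero)
      conv_rhs => rw [pow_add, pow_mul, h', div_mul_cancel₀ _ (by simp)]
    have h2 := pow_eq_pow_iff_modEq.1 (Units.ext (by simpa using h1) : g ^ d = g ^ (2 ^ k + d * 2 ^ i.1))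
    rw [orderOf_eq_card_of_forall_mem_zpowers hgen, Nat.card_units, hF] at h2
    rw [hd, add_mul, one_mul, ← add_assoc] at h2
    exact h2
  refine ⟨∑ i, a i, fun x y => ?_⟩
  rw [hBx', sum_mul]
  refine sum_congr rfl fun i _ => ?_
  by_cases hi : a i = 0
  · simp [hi]
  rw [hmid i hi, mul_assoc]
  congr 1
  by_cases hx : x = 0
  · simp [f, hx]
  have hq : (x ^ d) ^ 2 ^ m = x * x ^ 2 ^ m := by
    rw [← pow_mul, hd, add_mul, one_mul, ← pow_add, show m + 1 + m = 2 * m + 1 by omega, ← hF,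
      pow_add, Nat.card_eq_fintype_card, FiniteField.pow_card]
  simp only [f, hx, if_false, hmid i hi, hq, mul_pow]
  rw [hd, pow_succ x (2 ^ (m + 1)), show 2 ^ (m + 1) = 2 ^ m + 2 ^ m by rw [pow_succ]; omega, pow_add]
  field_simp

end CfsgLib.LocalEven.TIEndgame.SuzukiPairing
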