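import Cfsg.Agent.Lib.LocalEven.TIEndgame.SuzukiForm
import Cfsg.Agent.Lib.LocalEven.TIEndgame.SuzukiPairing

/-!
# Recognising the squaring form above a Suzuki line

A quadratic map `E × F × F → F` which is equivariant for the torus, restricts to
`x ↦ x ^ (2 ^ (m + 1) + 1)` on the middle coordinate, vanishes on `E` and pairs `E` with the last
coordinate by `ν`, is a `SuzukiForm.sq`.
-/

set_option autoImplicit false
set_option linter.style.haveILetI false

namespace CfsgLib.LocalEven.TIEndgame.SuzukiForm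

variable {E F : Type*} [AddCommGroup E] [Field F] [Finite F] [CharP F 2] {m : ℕ}

/-- The form is determined by two parameters. -/
theorem exists_eq_sq (hF : Nat.card F = 2 ^ (2 * m + 1)) (hm : 1 ≤ m) (ν : E →+ F)
    (f : E × F × F → F) (B : E × F × F →+ E × F × F →+ F)
    (hquad : ∀ z w, f (z + w) = f z + f w + B z w)
    (hscale : ∀ (t : F), t ≠ 0 → ∀ e x y,
      f (e, t * x, t ^ (2 ^ (m + 1) + 1) * y) = t ^ (2 ^ (m + 1) + 1) * f (e, x, y))
    (hmid : ∀ x, f (0, x, 0) = x ^ (2 ^ (m + 1) + 1))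
    (hE : ∀ e, f (e, 0, 0) = 0)
    (hEx : ∀ e x, B (e, 0, 0) (0, x, 0) = 0)
    (hEy : ∀ e y, B (e, 0, 0) (0, 0, y) = ν e * y) :
    ∃ c κ : F, ∀ z, f z = sq m ν c κ z := by
  set d := 2 ^ (m + 1) + 1 with hd
  have hf0 : f (0, 0, 0) = 0 := hE 0
  -- the last coordinate squares linearly
  have hsc : ∀ s y, f ((0 : E), (0 : F), s * y) = s * f (0, 0, y) := by
    intro s y
    obtain ⟨t, rfl⟩ := (pow_norm_bijective hF).2 s
    by_cases ht : t = 0
    · subst ht
      simpa [zero_pow (show d ≠ 0 by positivity)] using hf0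
    · simpa [hd] using hscale t ht 0 0 y
  have hlast : ∀ y, f ((0 : E), (0 : F), y) = f (0, 0, 1) * y := fun y => by
    rw [mul_comm, ← hsc, mul_one]
  -- the middle pairs with the last by one coefficient
  set g : F →+ F →+ F := AddMonoidHom.mk' (fun x => AddMonoidHom.mk'
      (fun y => B (0, x, 0) (0, 0, y)) fun y y' => by rw [← map_add]; simp)
    fun x x' => AddMonoidHom.ext fun y => by
      show B (0, x + x', 0) (0, 0, y) = B (0, x, 0) (0, 0, y) + B (0, x', 0) (0, 0, y)
      rw [← AddMonoidHom.add_apply, ← map_add]; simp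
  have hg : ∀ x y, g x y = B (0, x, 0) (0, 0, y) := fun _ _ => rfl
  have hgf : ∀ x y, f ((0 : E), x, y) = x ^ d + f (0, 0, 1) * y + g x y := fun x y => by
    rw [hg, ← hmid, ← hlast, ← hquad]; simp
  obtain ⟨κ, hκ⟩ := SuzukiPairing.exists_coeff hF hm g (fun t x y ht => by
    have h1 := hgf (t * x) (t ^ d * y)
    rw [hscale t ht, hgf, mul_pow] at h1
    linear_combination -h1)
  refine ⟨f (0, 0, 1), κ, fun ⟨e, x, y⟩ => ?_⟩
  have h1 : f (e, x, y) = f (e, 0, 0) + f (0, x, y) + B (e, 0, 0) (0, x, y) := by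
    rw [← hquad]; simp
  have h2 : B (e, 0, 0) (0, x, y) = B (e, 0, 0) (0, x, 0) + B (e, 0, 0) (0, 0, y) := by
    rw [← map_add]; simp
  rw [h1, h2, hE, hEx, hEy, hgf, hκ]
  simp only [sq]
  ring

/-- A map respecting the polar up to relabelling of values preserves `0 × F × F`. -/
theorem fst_eq_zero_iff [Finite E] (hF : Nat.card F = 2 ^ (2 * m + 1)) {ν : E →+ F}
    (hν : Function.Injective ν) (hsmall : 2 * Nat.card E < Nat.card F) {c : F}
    (g : (E × F × F) ≃+ (E × F × F)) (h : F ≃+ F)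
    (hg : ∀ z w, polar m ν c (0 : F) (g z) (g w) = h (polar m ν c (0 : F) z w)) (z : E × F × F) :
    (g z).1 = 0 ↔ z.1 = 0 := by
  have hrange : ∀ a, Nat.card (Set.range (polar m ν c (0 : F) (g a))) =
      Nat.card (Set.range (polar m ν c (0 : F) a)) := fun a => by
    have : Set.range (polar m ν c (0 : F) (g a)) = h '' Set.range (polar m ν c (0 : F) a) := by
      rw [← Set.range_comp]
      refine Set.ext fun b => ⟨?_, ?_⟩
      · rintro ⟨w, rfl⟩
        exact ⟨g.symm w, by simp [← hg]⟩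
      · rintro ⟨w, rfl⟩
        exact ⟨g w, hg a w⟩
    rw [this, Nat.card_image_of_injective h.injective]
  have hlast : ∀ a, (2 * Nat.card (Set.range (polar m ν c (0 : F) a)) < Nat.card F ↔
      a.1 = 0 ∧ a.2.1 = 0) := fun a => by
    refine ⟨fun hlt => ?_, fun ⟨h1, h2⟩ => ?_⟩
    · by_contra hne
      exact absurd (card_le_range_polar hF hν (c := c) (z := a) (not_and_or.1 hne)) (by omega)
    · obtain ⟨a1, a2, a3⟩ := a
      dsimp only at h1 h2
      subst h1 h2
      refine lt_of_le_of_lt (Nat.mul_le_mul_left 2 ?_) hsmall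
      exact (Nat.card_mono (Set.finite_range _) (range_polar_subset a3)).trans
        (Finite.card_range_le _)
  have hiff : ∀ a, ((g a).1 = 0 ∧ (g a).2.1 = 0 ↔ a.1 = 0 ∧ a.2.1 = 0) := fun a => by
    rw [← hlast, hrange, hlast]
  rw [← forall_polar_eq_zero_iff (m := m) (c := c) hν, ← forall_polar_eq_zero_iff (m := m) (c := c) hν z]
  constructor
  · intro hz y
    obtain ⟨h1, h2⟩ := (hiff (0, 0, y)).2 ⟨rfl, rfl⟩
    have e : g (0, 0, y) = (0, 0, (g (0, 0, y)).2.2) := Prod.ext h1 (Prod.ext h2 rfl)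
    have h3 := hz (g (0, 0, y)).2.2
    rw [← e, hg] at h3
    exact h.injective (h3.trans (map_zero h).symm)
  · intro hz y
    obtain ⟨h1, h2⟩ := (hiff (g.symm (0, 0, y))).1 (by simp)
    have h3 := hg z (g.symm (0, 0, y))
    rw [g.apply_symm_apply] at h3
    have e : g.symm (0, 0, y) = (0, 0, (g.symm (0, 0, y)).2.2) := Prod.ext h1 (Prod.ext h2 rfl)
    have h4 := hz (g.symm (0, 0, y)).2.2
    rw [← e] at h4
    rw [h3, h4, map_zero]

omit [Finite F] [CharP F 2] in
/-- A symmetry of odd order preserving `0 × F × F` fixes something off it. -/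
theorem exists_fixed_off {u : E} (hu : u ≠ 0) (hu2 : u + u = 0) (g : (E × F × F) ≃+ (E × F × F))
    (hE : ∀ e, e = 0 ∨ e = u) (hH : ∀ z, (g z).1 = 0 ↔ z.1 = 0) {k : ℕ} (hk : Odd k)
    (hord : ∀ z, g^[k] z = z) : ∃ z, g z = z ∧ z.1 ≠ 0 := by
  set a : E × F × F := (u, 0, 0)
  refine ⟨∑ i ∈ Finset.range k, g^[i] a, ?_, ?_⟩
  · rw [map_sum]
    simp_rw [← Function.iterate_succ_apply' g]
    have h1 := Finset.sum_range_succ (fun i => g^[i] a) k
    rw [Finset.sum_range_succ' (fun i => g^[i] a) k, hord, Function.iterate_zero_apply] at h1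
    exact add_right_cancel h1
  · have h1 : ∀ i, (g^[i] a).1 = u := fun i => by
      induction i with
      | zero => rfl
      | succ i ih =>
        rw [Function.iterate_succ_apply']
        refine (hE _).resolve_left fun h0 => hu ?_
        rw [← ih, (hH _).1 h0]
    rw [Prod.fst_sum, Finset.sum_congr rfl fun i _ => h1 i, Finset.sum_const, Finset.card_range]
    obtain ⟨j, rfl⟩ := hk
    rwa [succ_nsmul, mul_comm, mul_nsmul', two_nsmul, hu2, nsmul_zero, zero_add]

end CfsgLib.LocalEven.TIEndgame.SuzukiForm
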