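import Cfsg.Agent.Lib.LocalEven.TIEndgame.Clean
import Cfsg.Agent.Lib.LocalEven.TIEndgame.PairCore
import Cfsg.Agent.Lib.RankOne.Small.Simple

/-!
# The torus of a local configuration

The image of `core W H` in the permutations of `pts W H` is a rank-one set-up as soon as the splitting
2-group `Q` of `Loc` is given.  Its inverted elements form a cyclic group; they lift uniquely to the
elements of the core inverted by the swappers, the torus `J`.
-/

set_option autoImplicit false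
set_option linter.style.haveILetI false

open Cfsg

namespace CfsgLib.LocalEven.TIEndgame

open MulAction CfsgLib.Involution CfsgLib.RankOne

universe u v

variable {G : Type u} {Ω : Type v} [Group G] [MulAction G Ω] {W : Ω → Subgroup G} {H : Subgroup G}

namespace TISetting

variable (h : TISetting W)
include h

theorem conj_mem_core {g x : G} (hg : g ∈ H) (hx : x ∈ core W H) :
    g * x * g⁻¹ ∈ core W H := by
  have hle : core W H ≤ (core W H).comap (MulAut.conj g).toMonoidHom := by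
    refine (Subgroup.closure_le _).2 fun d hd => ?_
    obtain ⟨⟨-, c, hdc⟩, hdH⟩ := hd
    exact mem_core_of_mem (H := H) ⟨h.conj g c d hdc, H.mul_mem (H.mul_mem hg hdH) (H.inv_mem hg)⟩
  exact hle hx

/-- A member in `H` at each point of `pts W H`. -/
theorem exists_member {c : Ω} (hc : c ∈ pts W H) : ∃ d ∈ W c, d ≠ 1 ∧ d ∈ H := by
  obtain ⟨⟨d, hd⟩, hd1⟩ := Subgroup.ne_bot_iff_exists_ne_one.1 hc
  exact ⟨d, hd.1, fun e => hd1 (Subtype.ext e), hd.2⟩

/-- Two members at different points of `H` are exchanged by a swapper in `H`. -/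
theorem exists_swapper [Finite G] {a b : Ω} (hab : a ≠ b) {d e : G} (hd : d ∈ W a) (hd1 : d ≠ 1)
    (hdH : d ∈ H) (he : e ∈ W b) (he1 : e ≠ 1) (heH : e ∈ H) :
    ∃ f ∈ swappers (members W) a b, f ∈ H ∧ f * d * f⁻¹ = e := by
  have h1 := h.onePoint
  have hd' : d ∈ dat (members W) a := by rw [h.dat_eq]; exact ⟨hd, hd1⟩
  have he' : e ∈ dat (members W) b := by rw [h.dat_eq]; exact ⟨he, he1⟩
  have hd2 := h1.orderOf_eq d hd'.1
  have he2 := h1.orderOf_eq e he'.1
  obtain ⟨k, hk, hke⟩ := Dihedral.exists_conj_of_odd hd2 he2 (h1.odd_of_ne hd' he' hab)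
  obtain ⟨m, rfl⟩ := Subgroup.mem_zpowers_iff.1 hk
  have hfe : (d * e) ^ m * d * d * ((d * e) ^ m * d)⁻¹ = e :=
    Eq.trans (by group) hke
  refine ⟨(d * e) ^ m * d, ⟨?_, h1.smul_eq_of_conj_eq hd' he' hfe⟩,
    mul_mem (zpow_mem (mul_mem hdH heH) m) hdH, hfe⟩
  rw [Dihedral.zpow_mul_left (Dihedral.conj_mul_left hd2 he2)]
  exact h1.reflection_mem hd'.1 he'.1 _

/-- The action of the core on `pts W H`. -/
def coreAct (H : Subgroup G) : SubMulAction ↥(core W H) Ω where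
  carrier := pts W H
  smul_mem' g _ hc := h.smul_mem_pts (core_le W H g.2) hc

/-- The permutations of `pts W H` given by the core. -/
def coreHom (H : Subgroup G) : ↥(core W H) →* Equiv.Perm ↥(h.coreAct H) :=
  MulAction.toPermHom _ _

/-- The image of the core. -/
abbrev CoreImg (H : Subgroup G) : Subgroup (Equiv.Perm ↥(h.coreAct H)) := (h.coreHom H).range

/-- The map onto the image. -/
def rho (H : Subgroup G) : ↥(core W H) →* ↥(h.CoreImg H) := (h.coreHom H).rangeRestrict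

theorem rho_surjective (H : Subgroup G) : Function.Surjective (h.rho H) :=
  (h.coreHom H).rangeRestrict_surjective

theorem rho_smul (x : ↥(core W H)) (c : ↥(h.coreAct H)) :
    ((h.rho H x • c : ↥(h.coreAct H)) : Ω) = (x : G) • (c : Ω) := rfl

theorem rho_eq_one {x : ↥(core W H)} : h.rho H x = 1 ↔ ∀ c ∈ pts W H, (x : G) • c = c := by
  constructor
  · intro hx c hc
    have := congrArg (fun g : ↥(h.CoreImg H) => ((g • (⟨c, hc⟩ : ↥(h.coreAct H)) : _) : Ω)) hx
    simpa [h.rho_smul] using this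
  · intro hx
    refine Subtype.ext (Equiv.ext fun c => Subtype.ext ?_)
    exact hx c c.2

/-- An element of the core fixing all of `pts W H` is central in the core. -/
theorem commute_of_rho_one {a b : Ω} (ha : a ∈ pts W H) (hb : b ∈ pts W H) (hab : a ≠ b)
    {x : ↥(core W H)} (hx : h.rho H x = 1) (y : ↥(core W H)) : Commute x y := by
  exact Subtype.ext (h.commute_core_of_fix_pts ha hb hab (h.rho_eq_one.1 hx) y.2).eq

section Local

variable {a b : Ω} {Q : Subgroup G} (hL : Loc W H a Q) (ha : a ∈ pts W H) (hb : b ∈ pts W H)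
  (hab : b ≠ a)
include hL hb hab

omit h in
theorem loc_eq_one {x : G} (hx : x ∈ Q) (hxb : x • b = b) : x = 1 :=
  (hL.regular b hb hab b hb hab).unique ⟨hx, hxb⟩ ⟨one_mem _, one_smul _ _⟩

omit h in
/-- Elements of the core fixing `a` and `b` have odd order. -/
theorem odd_orderOf_pair [Finite G] {x : G} (hx : x ∈ core W H) (hxa : x • a = a) (hxb : x • b = b) :
    Odd (orderOf x) := by
  by_contra hodd
  rw [Nat.not_odd_iff_even] at hodd
  have hy : orderOf (x ^ (orderOf x / 2)) = 2 := by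
    refine orderOf_pow_orderOf_div (orderOf_pos x).ne' (even_iff_two_dvd.1 hodd)
  have hstab : x ∈ stabilizer G a ⊓ stabilizer G b := ⟨hxa, hxb⟩
  have hy' : x ^ (orderOf x / 2) ∈ stabilizer G a ⊓ stabilizer G b := pow_mem hstab _
  have hQ := hL.mem_of_two _ (pow_mem hx _) hy'.1 ⟨1, by
    have h2 := pow_orderOf_eq_one (x ^ (orderOf x / 2))
    rwa [hy] at h2⟩
  have h1 := loc_eq_one hL hb hab hQ hy'.2
  rw [h1, orderOf_one] at hy
  exact absurd hy (by norm_num)

include ha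

/-- A fixed point of the image at `a` of order at most two comes from a member. -/
theorem exists_member_lift [Finite G] {β : ↥(h.CoreImg H)}
    (hβa : β • (⟨a, ha⟩ : ↥(h.coreAct H)) = ⟨a, ha⟩) (hβ : β * β = 1) :
    ∃ d : ↥(core W H), (d : G) ∈ W a ∧ h.rho H d = β := by
  obtain ⟨x, rfl⟩ := h.rho_surjective H β
  have hxa : (x : G) • a = a := congrArg Subtype.val hβa
  have hsq : h.rho H (x * x) = 1 := by rw [map_mul, hβ]
  have hfix := h.rho_eq_one.1 hsq
  have hodd : Odd (orderOf ((x * x : ↥(core W H)) : G)) :=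
    odd_orderOf_pair hL hb hab (x * x).2 (hfix a ha) (hfix b hb)
  set m := orderOf ((x * x : ↥(core W H)) : G) with hm
  have hyy : (((x ^ m : ↥(core W H))) : G) * ((x ^ m : ↥(core W H)) : G) = 1 := by
    rw [← Subgroup.coe_mul, ← pow_add, ← two_mul, pow_mul, pow_two, SubgroupClass.coe_pow, hm,
      pow_orderOf_eq_one]
  refine ⟨x ^ m, hL.invol _ (hL.mem_of_two _ (x ^ m).2 ?_ ⟨1, by rw [pow_one, pow_two, hyy]⟩) hyy, ?_⟩
  · rw [SubgroupClass.coe_pow]
    exact pow_mem (show (x : G) ∈ stabilizer G a from hxa) m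
  · obtain ⟨k, hk⟩ := hodd
    rw [map_pow, hk, pow_succ, pow_mul, pow_two, hβ, one_pow, one_mul]

/-- Members at `a` are determined by their image. -/
theorem member_rho_inj {d d' : ↥(core W H)} (hd : (d : G) ∈ W a) (hd' : (d' : G) ∈ W a)
    (e : h.rho H d = h.rho H d') : d = d' := by
  by_contra hne
  have h1 : h.rho H (d'⁻¹ * d) = 1 := by rw [map_mul, map_inv, e, inv_mul_cancel]
  exact hab (h.unique a _ (mul_mem (inv_mem hd') hd)
    (fun e' => hne (inv_mul_eq_one.1 (Subtype.ext e' : d'⁻¹ * d = 1)).symm) b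
    (h.rho_eq_one.1 h1 b hb))

omit hb hab in
theorem exists_move_core [Finite G] {c : Ω} (hc : c ∈ pts W H) :
    ∃ g ∈ core W H, g • a = c := by
  rcases eq_or_ne a c with rfl | hne
  · exact ⟨1, one_mem _, one_smul _ _⟩
  obtain ⟨d, hd, hd1, hdH⟩ := h.exists_member ha
  obtain ⟨e, he, he1, heH⟩ := h.exists_member hc
  obtain ⟨f, hf, hfH, -⟩ := h.exists_swapper hne hd hd1 hdH he he1 heH
  exact ⟨f, Subgroup.subset_closure ⟨hf.1, hfH⟩, hf.2⟩

/-- The rank-one set-up on the image of the core. -/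
theorem setup_img [Finite G] [Finite Ω] {f : ↥(core W H)} (hfD : (f : G) ∈ members W)
    (hfab : (f : G) • a = b) :
    IsRankOneSetup ↥(h.CoreImg H) ↥(h.coreAct H) ⟨a, ha⟩ (h.rho H f)
      ((Q.subgroupOf (core W H)).map (h.rho H)) := by
  haveI : Fact (Nat.Prime 2) := ⟨Nat.prime_two⟩
  have hfa : h.rho H f • (⟨a, ha⟩ : ↥(h.coreAct H)) = ⟨b, hb⟩ := Subtype.ext hfab
  have hff : f * f = 1 := Subtype.ext (h.onePoint.mul_self hfD)
  have hQmem : ∀ {q : G} (hq : q ∈ Q), h.rho H ⟨q, (hL.le hq).1⟩ ∈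
      (Q.subgroupOf (core W H)).map (h.rho H) := fun {q} hq => ⟨⟨q, (hL.le hq).1⟩, hq, rfl⟩
  have htwo : MulAction.IsMultiplyPretransitive ↥(h.CoreImg H) ↥(h.coreAct H) 2 := by
    refine is_two_pretransitive_iff.mpr fun {x y x' y'} hxy hxy' => ?_
    suffices hs : ∀ c c' : ↥(h.coreAct H), c ≠ c' →
        ∃ g : ↥(h.CoreImg H), g • (⟨a, ha⟩ : ↥(h.coreAct H)) = c ∧ g • ⟨b, hb⟩ = c' by
      obtain ⟨g, rfl, rfl⟩ := hs x y hxy
      obtain ⟨g', rfl, rfl⟩ := hs x' y' hxy'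
      exact ⟨g' * g⁻¹, by rw [mul_smul, inv_smul_smul], by rw [mul_smul, inv_smul_smul]⟩
    rintro ⟨c, hc⟩ ⟨c', hc'⟩ hne
    obtain ⟨g, hg, hgc⟩ := h.exists_move_core hL ha hc
    have hc'' : g⁻¹ • c' ∈ pts W H := h.smul_mem_pts (inv_mem (core_le W H hg)) hc'
    have hne' : g⁻¹ • c' ≠ a := fun e => hne (Subtype.ext (show c = c' by
      rw [← hgc, ← e, smul_inv_smul]))
    obtain ⟨q, ⟨hq, hqb⟩, -⟩ := hL.regular b hb hab _ hc'' hne'
    refine ⟨h.rho H (⟨g, hg⟩ * ⟨q, (hL.le hq).1⟩), Subtype.ext ?_, Subtype.ext ?_⟩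
    · show (g * q) • a = c
      rw [mul_smul, mem_stabilizer_iff.1 (hL.le hq).2, hgc]
    · show (g * q) • b = c'
      rw [mul_smul, hqb, smul_inv_smul]
  refine ⟨htwo, by rw [← map_mul, hff, map_one], ?_, ?_, ?_, ?_, ?_, ?_, ?_, ?_⟩
  · intro e
    have : (f : G) • a = a := h.rho_eq_one.1 e a ha
    exact hab (hfab.symm.trans this)
  · intro e
    exact hab (congrArg Subtype.val (hfa.symm.trans e))
  · rintro _ ⟨q, hq, rfl⟩
    exact Subtype.ext (mem_stabilizer_iff.1 (hL.le hq).2)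
  · intro g hg y hy
    obtain ⟨x, rfl⟩ := h.rho_surjective H g
    obtain ⟨q, hq, rfl⟩ := hy
    refine ⟨x * q * x⁻¹, ?_, by simp⟩
    exact hL.normal x (core_le W H x.2) (congrArg Subtype.val hg) q hq
  · rw [Subgroup.eq_bot_iff_forall]
    rintro _ ⟨⟨q, hq, rfl⟩, hqb⟩
    rw [SetLike.mem_coe, hfa] at hqb
    have : (q : G) = 1 := loc_eq_one hL hb hab hq (congrArg Subtype.val hqb)
    rw [show q = 1 from Subtype.ext this, map_one]
  · refine le_antisymm (sup_le ?_ inf_le_left) fun g hg => ?_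
    · rintro _ ⟨q, hq, rfl⟩
      exact Subtype.ext (mem_stabilizer_iff.1 (hL.le hq).2)
    · obtain ⟨x, rfl⟩ := h.rho_surjective H g
      have hxa : (x : G) • a = a := congrArg Subtype.val hg
      have hxb : (x : G) • b ∈ pts W H := h.smul_mem_pts (core_le W H x.2) hb
      have hxb' : (x : G) • b ≠ a := fun e => hab (smul_left_cancel _ (e.trans hxa.symm))
      obtain ⟨q, ⟨hq, hqb⟩, -⟩ := hL.regular b hb hab _ hxb hxb'
      have : h.rho H x = h.rho H ⟨q, (hL.le hq).1⟩ * h.rho H (⟨q, (hL.le hq).1⟩⁻¹ * x) := by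
        rw [← map_mul, mul_inv_cancel_left]
      rw [this]
      refine Subgroup.mul_mem_sup (hQmem hq) ⟨Subtype.ext ?_, ?_⟩
      · show (q⁻¹ * (x : G)) • a = a
        rw [mul_smul, hxa, inv_smul_eq_iff, mem_stabilizer_iff.1 (hL.le hq).2]
      · rw [hfa]
        refine Subtype.ext ?_
        show (q⁻¹ * (x : G)) • b = b
        rw [mul_smul, inv_smul_eq_iff, hqb]
  · obtain ⟨d, hd, hd1, hdH⟩ := h.exists_member ha
    have hdQ : d ∈ Q := hL.inf_le ⟨hd, hdH⟩
    refine even_iff_two_dvd.2 ?_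
    have ho : orderOf (h.rho H ⟨d, (hL.le hdQ).1⟩) = 2 := by
      refine orderOf_eq_prime ?_ fun e => hd1 ?_
      · rw [pow_two, ← map_mul]
        exact (congrArg (h.rho H) (Subtype.ext (h.sq a d hd))).trans (map_one _)
      · exact congrArg Subtype.val (h.member_rho_inj hL ha hb hab (d := ⟨d, (hL.le hdQ).1⟩) (d' := 1)
          hd (one_mem _) (by rw [e, map_one]))
    exact ho ▸ Subgroup.orderOf_dvd_natCard _ (hQmem hdQ)
  · rw [← Nat.not_even_iff_odd]
    intro he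
    obtain ⟨⟨g, hga, hgb⟩, hg⟩ := exists_prime_orderOf_dvd_card' 2 (even_iff_two_dvd.1 he)
    rw [← Subgroup.orderOf_coe] at hg
    change orderOf g = 2 at hg
    obtain ⟨x, rfl⟩ := h.rho_surjective H g
    rw [hfa] at hgb
    have hodd := odd_orderOf_pair hL hb hab x.2 (congrArg Subtype.val hga) (congrArg Subtype.val hgb)
    rw [Subgroup.orderOf_coe] at hodd
    have := hodd.of_dvd_nat (orderOf_map_dvd (h.rho H) x)
    rw [hg] at this
    exact absurd this (by decide)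

/-- The image has two commuting involutions. -/
theorem hasFour_img (four : 4 ≤ Nat.card ↥(W a ⊓ H)) :
    ∃ x y : ↥(h.CoreImg H), x ≠ 1 ∧ y ≠ 1 ∧ x ≠ y ∧ x * x = 1 ∧ y * y = 1 ∧ x * y = y * x := by
  haveI : Finite ↥(W a ⊓ H) := Nat.finite_of_card_ne_zero (by omega)
  have hnt : ∀ d : ↥(W a ⊓ H), ∃ e : ↥(W a ⊓ H), e ≠ 1 ∧ e ≠ d := by
    intro d
    by_contra hno
    push Not at hno
    classical
    haveI := Fintype.ofFinite ↥(W a ⊓ H)
    have hle : (Finset.univ : Finset ↥(W a ⊓ H)).card ≤ ({1, d} : Finset ↥(W a ⊓ H)).card :=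
      Finset.card_le_card fun e _ => by
        rcases eq_or_ne e 1 with rfl | he
        · simp
        · simp [hno e he]
    rw [Finset.card_univ, ← Nat.card_eq_fintype_card] at hle
    have := Finset.card_le_two (a := (1 : ↥(W a ⊓ H))) (b := d)
    omega
  obtain ⟨d, hd, -⟩ := hnt 1
  obtain ⟨e, he, hed⟩ := hnt d
  let i : ↥(W a ⊓ H) → ↥(core W H) := fun d => ⟨d, mem_core_of_mem d.2⟩
  have hinj : ∀ x y, h.rho H (i x) = h.rho H (i y) → x = y := fun x y e =>
    Subtype.ext (congrArg Subtype.val (h.member_rho_inj hL ha hb hab x.2.1 y.2.1 e) :)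
  have hone : h.rho H (i 1) = 1 := map_one _
  have hsq : ∀ x, h.rho H (i x) * h.rho H (i x) = 1 := fun x => by
    rw [← map_mul]
    exact (congrArg (h.rho H) (Subtype.ext (h.sq a x x.2.1) : i x * i x = 1)).trans (map_one _)
  refine ⟨h.rho H (i d), h.rho H (i e), fun e' => hd (hinj _ _ (e'.trans hone.symm)),
    fun e' => he (hinj _ _ (e'.trans hone.symm)), fun e' => hed (hinj _ _ e').symm, hsq d, hsq e, ?_⟩
  rw [← map_mul, ← map_mul]
  exact congrArg (h.rho H) (Subtype.ext (h.mul_comm_of_mem d.2.1 e.2.1).eq)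

/-- The torus at `a`, `b`, with lifts of the inverted elements of the image. -/
theorem exists_torus_lift [Finite G] [Finite Ω] (four : 4 ≤ Nat.card ↥(W a ⊓ H)) :
    ∃ (J : Subgroup G) (f : ↥(core W H)), Torus W H a b Q J ∧ (f : G) ∈ members W ∧
      (f : G) • a = b ∧
      ∀ k ∈ invertedBy (two ↥(h.CoreImg H) (⟨a, ha⟩ : ↥(h.coreAct H)) (h.rho H f)) (h.rho H f),
        ∃ j : ↥(core W H), (j : G) ∈ J ∧ h.rho H j = k := by
  classical
  have h1 := h.onePoint
  obtain ⟨d0, hd0, hd01, hd0H⟩ := h.exists_member ha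
  obtain ⟨e0, he0, he01, he0H⟩ := h.exists_member hb
  obtain ⟨f0, hf0, hf0H, -⟩ := h.exists_swapper hab.symm hd0 hd01 hd0H he0 he01 he0H
  set f : ↥(core W H) := ⟨f0, Subgroup.subset_closure ⟨hf0.1, hf0H⟩⟩ with hfdef
  have hS := h.setup_img hL ha hb hab (f := f) hf0.1 hf0.2
  have h2 := h.hasFour_img hL ha hb hab four
  have hfa : h.rho H f • (⟨a, ha⟩ : ↥(h.coreAct H)) = ⟨b, hb⟩ := Subtype.ext hf0.2
  obtain ⟨Z, K, A⟩ := Small.exists_data hS h2
  have hti : (h.rho H f)⁻¹ = h.rho H f := t_inv hS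
  have hker : ∀ {x : ↥(core W H)}, h.rho H x = 1 → ∀ y, Commute x y := fun hx y =>
    h.commute_of_rho_one ha hb hab.symm hx y
  -- lifts of the inverted elements commute
  have hcomm : ∀ x y : ↥(core W H), h.rho H x ∈ K → h.rho H y ∈ K → Commute x y := by
    obtain ⟨⟨k, hk⟩, hgen⟩ := A.cyclicK.exists_generator
    obtain ⟨κ, hκ⟩ := h.rho_surjective H k
    have hdec : ∀ x, h.rho H x ∈ K → ∃ (i : ℤ) (z : ↥(core W H)), h.rho H z = 1 ∧ x = κ ^ i * z := by
      intro x hx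
      obtain ⟨i, hi⟩ := Subgroup.mem_zpowers_iff.1 (hgen ⟨_, hx⟩)
      refine ⟨i, (κ ^ i)⁻¹ * x, ?_, by group⟩
      have hi' : k ^ i = h.rho H x := congrArg Subtype.val hi
      rw [map_mul, map_inv, map_zpow, hκ, hi', inv_mul_cancel]
    intro x y hx hy
    obtain ⟨i, z, hz, rfl⟩ := hdec x hx
    obtain ⟨j, z', hz', rfl⟩ := hdec y hy
    exact ((((Commute.refl κ).zpow_left i).zpow_right j).mul_right (hker hz' _).symm).mul_left
      ((hker hz _).mul_right (hker hz _))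
  -- the inverted elements of the core, for any swapper
  let T : G → Set G := fun f' =>
    {x | x ∈ core W H ∧ x • a = a ∧ x • b = b ∧ f' * x * f' = x⁻¹}
  have hTinj : ∀ x : ↥(core W H), (x : G) ∈ T f0 → h.rho H x = 1 → x = 1 := by
    intro x hx e
    have hc : Commute (x : G) f0 := congrArg Subtype.val (hker e f)
    have hxx : (x : G) * x = 1 := by
      have := hx.2.2.2
      rw [← hc.eq, mul_assoc, h1.mul_self hf0.1, mul_one, eq_inv_iff_mul_eq_one] at this
      exact this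
    by_contra hne
    have hodd := odd_orderOf_pair hL hb hab hx.1 hx.2.1 hx.2.2.1
    rw [Dihedral.orderOf_eq_two hxx (fun e' => hne (Subtype.ext e'))] at hodd
    exact absurd hodd (by decide)
  have hTK : ∀ x : ↥(core W H), (x : G) ∈ T f0 → h.rho H x ∈ K := by
    intro x hx
    rw [A.mem_K]
    refine ⟨⟨Subtype.ext hx.2.1, ?_⟩, ?_⟩
    · rw [hfa]; exact Subtype.ext hx.2.2.1
    · rw [hti, ← map_mul, ← map_mul, ← map_inv]
      exact congrArg (h.rho H) (Subtype.ext hx.2.2.2)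
  have hTcomm : ∀ x ∈ T f0, ∀ y ∈ T f0, Commute x y := fun x hx y hy =>
    congrArg Subtype.val (hcomm ⟨x, hx.1⟩ ⟨y, hy.1⟩ (hTK _ hx) (hTK _ hy)).eq
  have hTmul : ∀ x ∈ T f0, ∀ y ∈ T f0, x * y ∈ T f0 := fun x hx y hy =>
    ⟨mul_mem hx.1 hy.1, by rw [mul_smul, hy.2.1, hx.2.1], by rw [mul_smul, hy.2.2.1, hx.2.2.1], by
      calc f0 * (x * y) * f0 = (f0 * x * f0) * (f0 * y * f0) := by
            simp only [mul_assoc]; rw [← mul_assoc f0 f0, h1.mul_self hf0.1, one_mul]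
        _ = (x * y)⁻¹ := by rw [hx.2.2.2, hy.2.2.2, ← mul_inv_rev, (hTcomm x hx y hy).eq]⟩
  have hTinv : ∀ x ∈ T f0, x⁻¹ ∈ T f0 := fun x hx =>
    ⟨inv_mem hx.1, inv_smul_eq_iff.2 hx.2.1.symm, inv_smul_eq_iff.2 hx.2.2.1.symm, by
      calc f0 * x⁻¹ * f0 = (f0⁻¹ * x * f0⁻¹)⁻¹ := by group
        _ = x⁻¹⁻¹ := by rw [h1.inv_eq hf0.1, hx.2.2.2]⟩
  let J : Subgroup G :=
    { carrier := T f0
      mul_mem' := fun hx hy => hTmul _ hx _ hy
      one_mem' := ⟨one_mem _, one_smul _ _, one_smul _ _, by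
        rw [mul_one, h1.mul_self hf0.1, inv_one]⟩
      inv_mem' := fun hx => hTinv _ hx }
  -- the torus does not depend on the swapper
  have hswap : ∀ f' ∈ swappers (members W) a b, f' ∈ H → f' * f0 ∈ J := fun f' hf' hf'H => by
    refine ⟨mul_mem (Subgroup.subset_closure ⟨hf'.1, hf'H⟩) f.2, (h1.mul_smul_pair hf' hf0).1,
      (h1.mul_smul_pair hf' hf0).2, ?_⟩
    rw [mul_inv_rev, h1.inv_eq hf'.1, h1.inv_eq hf0.1, mul_assoc, mul_assoc, h1.mul_self hf0.1,
      mul_one]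
  have hindep : ∀ f' ∈ swappers (members W) a b, f' ∈ H → ∀ y ∈ J, f' * y * f' = y⁻¹ := by
    intro f' hf' hf'H y hy
    have hk := hswap f' hf' hf'H
    calc f' * y * f' = (f' * f0) * (f0 * y * f0) * (f0 * f') := by
          simp only [mul_assoc]
          simp only [← mul_assoc f0 f0, h1.mul_self hf0.1, one_mul]
      _ = (f' * f0) * y⁻¹ * (f' * f0)⁻¹ := by
          rw [hy.2.2.2, mul_inv_rev, h1.inv_eq hf'.1, h1.inv_eq hf0.1]
      _ = y⁻¹ := by rw [(hTcomm _ hk _ (hTinv y hy)).eq, mul_inv_cancel_right]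
  have hlift : ∀ k ∈ K, ∃ j : ↥(core W H), (j : G) ∈ J ∧ h.rho H j = k := by
    intro k hk
    obtain ⟨⟨hka, hkb⟩, hkt⟩ := (A.mem_K k).1 hk
    rw [hfa] at hkb
    obtain ⟨x, rfl⟩ := h.rho_surjective H k
    have hxa : (x : G) • a = a := congrArg Subtype.val hka
    have hxb : (x : G) • b = b := congrArg Subtype.val hkb
    have hz : h.rho H (f * x * f * x) = 1 := by
      rw [hti] at hkt
      rw [map_mul, map_mul, map_mul, hkt, inv_mul_cancel]
    set z := f * x * f * x with hzdef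
    have hfix := h.rho_eq_one.1 hz
    have hodd : Odd (orderOf z) := by
      rw [← Subgroup.orderOf_coe]
      exact odd_orderOf_pair hL hb hab z.2 (hfix a ha) (hfix b hb)
    obtain ⟨m, hm⟩ := hodd
    set w := (z⁻¹) ^ (m + 1) with hwdef
    have hw1 : h.rho H w = 1 := by rw [hwdef, map_pow, map_inv, hz, inv_one, one_pow]
    have hww : w * w = z⁻¹ := by
      rw [hwdef, ← pow_add, show m + 1 + (m + 1) = orderOf z⁻¹ + 1 by rw [orderOf_inv]; omega,
        pow_succ, pow_orderOf_eq_one, one_mul]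
    refine ⟨x * w, ⟨(x * w).2, ?_, ?_, ?_⟩, by rw [map_mul, hw1, mul_one]⟩
    · show ((x : G) * w) • a = a
      rw [mul_smul, h.rho_eq_one.1 hw1 a ha, hxa]
    · show ((x : G) * w) • b = b
      rw [mul_smul, h.rho_eq_one.1 hw1 b hb, hxb]
    · have e : f * (x * w) * f * (x * w) = 1 := by
        calc f * (x * w) * f * (x * w) = f * x * (w * f) * x * w := by group
          _ = f * x * f * (w * x) * w := by rw [(hker hw1 f).eq]; group
          _ = z * (w * w) := by rw [(hker hw1 x).eq, hzdef]; group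
          _ = 1 := by rw [hww, mul_inv_cancel]
      exact congrArg Subtype.val (eq_inv_of_mul_eq_one_left e)
  have hTrho : ∀ (x y : ↥(core W H)), (x : G) ∈ J → (y : G) ∈ J → h.rho H x = h.rho H y → x = y := by
    intro x y hx hy e
    exact (inv_mul_eq_one.1 (hTinj (y⁻¹ * x) (mul_mem (inv_mem (hy : (y : G) ∈ J)) hx)
      (by rw [map_mul, map_inv, e, inv_mul_cancel]))).symm
  have hJle : J ≤ core W H ⊓ stabilizer G a ⊓ stabilizer G b := fun x hx =>
    ⟨⟨hx.1, hx.2.1⟩, hx.2.2.1⟩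
  let φ : J →* K :=
    { toFun := fun x => ⟨h.rho H ⟨x, x.2.1⟩, hTK _ x.2⟩
      map_one' := Subtype.ext (map_one (h.rho H))
      map_mul' := fun x y => Subtype.ext (map_mul (h.rho H) ⟨x, x.2.1⟩ ⟨y, y.2.1⟩) }
  have hφ : Function.Bijective φ := by
    refine ⟨fun x y e => Subtype.ext (congrArg Subtype.val
      (hTrho ⟨x, x.2.1⟩ ⟨y, y.2.1⟩ x.2 y.2 (congrArg Subtype.val e)) :), fun k => ?_⟩
    obtain ⟨j, hj, e⟩ := hlift k k.2
    exact ⟨⟨j, hj⟩, Subtype.ext e⟩
  haveI := A.cyclicK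
  have hmemZ : ∀ d : ↥(W a ⊓ H), h.rho H ⟨d, mem_core_of_mem d.2⟩ ∈ Z := fun d => by
    rw [A.mem_Z]
    refine ⟨Subtype.ext (mem_stabilizer_iff.1 (h.fix a d.2.1)), ?_⟩
    rw [← map_mul]
    exact (congrArg (h.rho H) (Subtype.ext (h.sq a d d.2.1))).trans (map_one _)
  have hcardZ : Nat.card ↥(W a ⊓ H) = Nat.card Z := by
    refine Nat.card_eq_of_bijective (fun d => (⟨_, hmemZ d⟩ : Z)) ⟨fun d d' e => ?_, fun k => ?_⟩
    · exact Subtype.ext (congrArg Subtype.val (h.member_rho_inj hL ha hb hab d.2.1 d'.2.1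
        (congrArg Subtype.val e)) :)
    · obtain ⟨hka, hkk⟩ := (A.mem_Z k).1 k.2
      obtain ⟨d, hd, e⟩ := h.exists_member_lift hL ha hb hab hka hkk
      exact ⟨⟨d, hd, core_le W H d.2⟩, Subtype.ext e⟩
  have hQimg : ∀ {q : G} (hq : q ∈ Q), h.rho H ⟨q, (hL.le hq).1⟩ ∈
      (Q.subgroupOf (core W H)).map (h.rho H) := fun {q} hq => ⟨⟨q, (hL.le hq).1⟩, hq, rfl⟩
  -- an element of the torus other than one has no fixed translation
  have hfpf : ∀ j ∈ J, j ≠ 1 → ∀ q : G, q ∈ Q → Commute j q →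
      ∀ c ∈ pts W H, q • c = c := by
    intro j hj hj1 q hq hc c hcp
    have hne : h.rho H ⟨j, hj.1⟩ ≠ 1 := fun e =>
      hj1 (congrArg Subtype.val (hTinj ⟨j, hj.1⟩ hj e))
    have := A.fpf _ (hTK ⟨j, hj.1⟩ hj) hne _ (hQimg hq) (by
      rw [← map_mul, ← map_mul]
      exact congrArg (h.rho H) (Subtype.ext hc.eq))
    exact h.rho_eq_one.1 this c hcp
  refine ⟨J, f, ⟨hJle, isCyclic_of_injective φ hφ.1, ?_, ?_, ?_, ?_, ?_, ?_, ?_⟩, hf0.1, hf0.2,
    fun k hk => hlift k ((A.mem_K k).2 hk)⟩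
  · -- card
    rw [hcardZ, A.card_Z, Nat.card_eq_of_bijective φ hφ]
  · -- normal
    intro g hg hga hgb j hj
    have hgi : g⁻¹ • a = a ∧ g⁻¹ • b = b :=
      ⟨inv_smul_eq_iff.2 hga.symm, inv_smul_eq_iff.2 hgb.symm⟩
    refine ⟨h.conj_mem_core hg hj.1, ?_, ?_, ?_⟩
    · rw [mul_smul, mul_smul, hgi.1, hj.2.1, hga]
    · rw [mul_smul, mul_smul, hgi.2, hj.2.2.1, hgb]
    · have hsw : g⁻¹ * f0 * g⁻¹⁻¹ ∈ swappers (members W) a b := by
        refine ⟨h1.conj_mem g⁻¹ f0 hf0.1, ?_⟩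
        rw [inv_inv, mul_smul, mul_smul, hga, hf0.2, hgi.2]
      have hinv := hindep _ hsw (mul_mem (mul_mem (inv_mem hg) hf0H) (inv_mem (inv_mem hg))) j hj
      calc f0 * (g * j * g⁻¹) * f0 = g * ((g⁻¹ * f0 * g⁻¹⁻¹) * j * (g⁻¹ * f0 * g⁻¹⁻¹)) * g⁻¹ := by
            group
        _ = (g * j * g⁻¹)⁻¹ := by rw [hinv]; group
  · -- trans
    intro d hd hd1 d' hd' hd'1
    have hne : ∀ {x : G} (hx : x ∈ W a ⊓ H), x ≠ 1 →
        h.rho H ⟨x, mem_core_of_mem hx⟩ ≠ 1 := fun {x} hx hx1 e =>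
      hx1 (congrArg Subtype.val (h.member_rho_inj hL ha hb hab
        (d := ⟨x, mem_core_of_mem hx⟩) (d' := 1) hx.1 (one_mem _) (by rw [e, map_one])))
    obtain ⟨l, hl, e⟩ := A.exists_conj_Z (hmemZ ⟨d, hd⟩) (hne hd hd1) (hmemZ ⟨d', hd'⟩) (hne hd' hd'1)
    obtain ⟨j, hj, rfl⟩ := hlift l hl
    refine ⟨j, hj, ?_⟩
    have hmem : (j : G) * d * (j : G)⁻¹ ∈ W a := by
      simpa [show (j : G) • a = a from hj.2.1] using h.conj j a d hd.1
    exact congrArg Subtype.val (h.member_rho_inj hL ha hb hab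
      (d := j * ⟨d, mem_core_of_mem hd⟩ * j⁻¹) (d' := ⟨d', mem_core_of_mem hd'⟩)
      hmem hd'.1 (by rw [map_mul, map_mul, map_inv]; exact e.symm))
  · -- free_b
    intro j hj hj1 d hd hjd
    have hdf : f0 * d * f0 ∈ W a := by
      have := h.conj f0 b d hd.1
      rwa [h1.swap_smul hf0, h1.inv_eq hf0.1] at this
    have hdQ : f0 * d * f0 ∈ Q := hL.inf_le ⟨hdf, mul_mem (mul_mem hf0H hd.2) hf0H⟩
    have hc : Commute j (f0 * d * f0) := by
      have hconj : ∀ x y : G, Commute x y → Commute (f0 * x * f0) (f0 * y * f0) := fun x y hxy => by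
        show f0 * x * f0 * (f0 * y * f0) = f0 * y * f0 * (f0 * x * f0)
        simp only [mul_assoc]
        simp only [← mul_assoc f0 f0, h1.mul_self hf0.1, one_mul]
        rw [← mul_assoc x y, hxy.eq, mul_assoc y x]
      have := hconj _ _ hjd.inv_left
      rwa [show f0 * j⁻¹ * f0 = j from by rw [(hTinv j hj).2.2.2, inv_inv]] at this
    have h0 := loc_eq_one hL hb hab hdQ (hfpf j hj hj1 _ hdQ hc b hb)
    calc d = f0 * (f0 * d * f0) * f0 := by
          simp only [mul_assoc]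
          rw [h1.mul_self hf0.1, mul_one, ← mul_assoc, h1.mul_self hf0.1, one_mul]
      _ = 1 := by rw [h0, mul_one, h1.mul_self hf0.1]
  · -- fix_two
    intro j hj hj1 c hc hjc
    by_contra hne
    push Not at hne
    obtain ⟨q, ⟨hq, hqb⟩, huniq⟩ := hL.regular b hb hab c hc hne.1
    have hjq : j * q * j⁻¹ = q := huniq _ ⟨hL.normal j (core_le W H hj.1) hj.2.1 q hq, by
      rw [mul_smul, mul_smul, inv_smul_eq_iff.2 hj.2.2.1.symm, hqb, hjc]⟩
    exact hne.2 (by rw [← hqb, hfpf j hj hj1 q hq (mul_inv_eq_iff_eq_mul.1 hjq) b hb])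
  · -- both
    intro x hx hxa hxb hxd d hd
    suffices hall : ∀ f' ∈ swappers (members W) a b, f' ∈ H → Commute x f' by
      rcases eq_or_ne d 1 with rfl | hd1
      · exact Commute.one_right _
      obtain ⟨f', hf', hf'H, e⟩ := h.exists_swapper hab.symm hd0 hd01 hd0H hd.1 hd1 hd.2
      rw [← e]
      exact ((hall f' hf' hf'H).mul_right (hxd d0 ⟨hd0, hd0H⟩)).mul_right
        (hall f' hf' hf'H).inv_right
    intro f' hf' hf'H
    set fc : ↥(core W H) := ⟨f', Subgroup.subset_closure ⟨hf'.1, hf'H⟩⟩ with hfc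
    have hS' := h.setup_img hL ha hb hab (f := fc) hf'.1 hf'.2
    have hfa' : h.rho H fc • (⟨a, ha⟩ : ↥(h.coreAct H)) = ⟨b, hb⟩ := Subtype.ext hf'.2
    obtain ⟨⟨hf'1, e, he⟩, -⟩ := id hf'
    have hep : e ∈ pts W H :=
      Subgroup.ne_bot_iff_exists_ne_one.2 ⟨⟨f', he, hf'H⟩, fun e' => hf'1 (congrArg Subtype.val e')⟩
    have hfe : f' • e = e := mem_stabilizer_iff.1 (h.fix e he)
    have hea : e ≠ a := by
      rintro rfl
      exact hab (hf'.2.symm.trans hfe)
    obtain ⟨r, ⟨hr, hrb⟩, -⟩ := hL.regular b hb hab e hep hea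
    have hrH : r ∈ H := core_le W H (hL.le hr).1
    have hv : r⁻¹ * f' * r ∈ W b := by
      have := h.conj r⁻¹ e f' he
      rwa [inv_inv, inv_smul_eq_iff.2 hrb.symm] at this
    set s := f' * (r⁻¹ * f' * r) * f' with hsdef
    have hsa : s ∈ W a := by
      have := h.conj f' b _ hv
      rwa [h1.swap_smul hf', h1.inv_eq hf'.1] at this
    have hsH : s ∈ H :=
      mul_mem (mul_mem hf'H (mul_mem (mul_mem (inv_mem hrH) hf'H) hrH)) hf'H
    have hfs : f' * s * f' = r⁻¹ * f' * r := by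
      rw [hsdef]
      simp only [mul_assoc]
      simp only [← mul_assoc f' f', h1.mul_self hf'.1, one_mul, mul_one]
    have hs1 : s ≠ 1 := fun e' => hf'1 (by
      rw [e', mul_one, h1.mul_self hf'.1] at hfs
      calc f' = r * (r⁻¹ * f' * r) * r⁻¹ := by group
        _ = 1 := by rw [← hfs]; group)
    set f'' := x * f' * x⁻¹ with hf''def
    have hxi : x⁻¹ • a = a ∧ x⁻¹ • b = b := ⟨inv_smul_eq_iff.2 hxa.symm, inv_smul_eq_iff.2 hxb.symm⟩
    have hsw : f'' ∈ swappers (members W) a b := by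
      refine ⟨h1.conj_mem x f' hf'.1, ?_⟩
      rw [hf''def, mul_smul, mul_smul, hxi.1, hf'.2, hxb]
    have hf''H : f'' ∈ H := mul_mem (mul_mem hx hf'H) (inv_mem hx)
    have hxs : x * s * x⁻¹ = s := by rw [(hxd s ⟨hsa, hsH⟩).eq, mul_inv_cancel_right]
    have hr' : x * r * x⁻¹ ∈ Q := hL.normal x hx hxa r hr
    have hrel : f'' * s * f'' = (x * r * x⁻¹)⁻¹ * f'' * (x * r * x⁻¹) := by
      calc f'' * s * f'' = f'' * (x * s * x⁻¹) * f'' := by rw [hxs]
        _ = x * (f' * s * f') * x⁻¹ := by rw [hf''def]; group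
        _ = _ := by rw [hfs, hf''def]; group
    set fd : ↥(core W H) := ⟨f'', Subgroup.subset_closure ⟨hsw.1, hf''H⟩⟩ with hfd
    set sc : ↥(core W H) := ⟨s, mem_core_of_mem (H := H) ⟨hsa, hsH⟩⟩ with hsc
    set k := fc * fd with hkdef
    have hkab := h1.mul_smul_pair hf' hsw
    have hfcfc : fc * fc = 1 := Subtype.ext (h1.mul_self hf'.1)
    have hti' : (h.rho H fc)⁻¹ = h.rho H fc := t_inv hS'
    have hkfd : h.rho H fc * h.rho H k = h.rho H fd := by
      rw [← map_mul, hkdef, ← mul_assoc, hfcfc, one_mul]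
    have hin : h.rho H k ∈ invertedBy (two ↥(h.CoreImg H) (⟨a, ha⟩ : ↥(h.coreAct H)) (h.rho H fc))
        (h.rho H fc) := by
      refine ⟨⟨Subtype.ext hkab.1, ?_⟩, ?_⟩
      · rw [hfa']; exact Subtype.ext hkab.2
      · rw [hti', ← map_mul, ← map_mul, ← map_inv]
        refine congrArg (h.rho H) (Subtype.ext ?_)
        show f' * (f' * f'') * f' = (f' * f'')⁻¹
        rw [mul_inv_rev, h1.inv_eq hf'.1, h1.inv_eq hsw.1, ← mul_assoc, h1.mul_self hf'.1, one_mul]
    have hsI : h.rho H sc ∈ involutionsIn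
        (stabilizer ↥(h.CoreImg H) (⟨a, ha⟩ : ↥(h.coreAct H)) : Set _) := by
      refine ⟨Subtype.ext (mem_stabilizer_iff.1 (h.fix a hsa)), fun e' => hs1 ?_, ?_⟩
      · exact congrArg Subtype.val (h.member_rho_inj hL ha hb hab (d := sc) (d' := 1) hsa (one_mem _)
          (by rw [e', map_one]))
      · rw [← map_mul]
        exact (congrArg (h.rho H) (Subtype.ext (h.sq a s hsa))).trans (map_one _)
    have hk1 : h.rho H k = 1 := by
      refine (existsUnique_inverted hS' hsI).unique ⟨hin, h.rho H ⟨x * r * x⁻¹, (hL.le hr').1⟩,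
        hQimg hr', ?_⟩ ⟨one_inverted hS', h.rho H ⟨r, (hL.le hr).1⟩, hQimg hr, ?_⟩
      · rw [hkfd, ← map_inv, ← map_mul, ← map_mul, ← map_mul, ← map_mul]
        exact congrArg (h.rho H) (Subtype.ext hrel)
      · rw [mul_one, ← map_inv, ← map_mul, ← map_mul, ← map_mul, ← map_mul]
        exact congrArg (h.rho H) (Subtype.ext hfs)
    have hmul : f' * f'' ∈ J := by
      have h0 := mul_mem (hswap f' hf' hf'H) (inv_mem (hswap f'' hsw hf''H))
      rwa [mul_inv_rev, h1.inv_eq hf0.1, h1.inv_eq hsw.1, mul_assoc f', ← mul_assoc f0,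
        h1.mul_self hf0.1, one_mul] at h0
    have h0 : f' * f'' = 1 := congrArg Subtype.val (hTinj k hmul hk1)
    have h0' : f'' = f' := (eq_inv_of_mul_eq_one_right h0).trans (h1.inv_eq hf'.1)
    exact mul_inv_eq_iff_eq_mul.1 (hf''def ▸ h0')
  · -- full
    intro hcardQ x hx hxa hxb d hd hd1 hxd c hc
    have hcQ : Nat.card ↥((Q.subgroupOf (core W H)).map (h.rho H)) = Nat.card Z := by
      rw [← hcardZ, ← hcardQ]
      refine (Nat.card_eq_of_bijective
        (fun q : Q => (⟨_, hQimg q.2⟩ : ↥((Q.subgroupOf (core W H)).map (h.rho H)))) ⟨?_, ?_⟩).symm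
      · intro q q' e
        have e' : h.rho H ⟨q, (hL.le q.2).1⟩ = h.rho H ⟨q', (hL.le q'.2).1⟩ := congrArg Subtype.val e
        have h0 : h.rho H (⟨q', (hL.le q'.2).1⟩⁻¹ * ⟨q, (hL.le q.2).1⟩) = 1 := by
          rw [map_mul, map_inv, e', inv_mul_cancel]
        refine Subtype.ext (inv_mul_eq_one.1 ?_).symm
        exact loc_eq_one hL hb hab (mul_mem (inv_mem q'.2) q.2) (h.rho_eq_one.1 h0 b hb)
      · rintro ⟨_, q, hq, rfl⟩
        exact ⟨⟨q, hq⟩, rfl⟩
    have hF := A.frame (Or.inl hcQ)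
    haveI hN := A.span_normal hF
    have hodd := A.odd_index_span hF
    set L := Small.span (h.rho H f) ((Q.subgroupOf (core W H)).map (h.rho H)) K with hLdef
    have hmemL : ∀ y : ↥(core W H), h.rho H y ∈ L := by
      suffices hle : core W H ≤ (L.comap (h.rho H)).map (core W H).subtype by
        intro y
        obtain ⟨y', hy', e⟩ := hle y.2
        rw [← show y' = y from Subtype.ext e]
        exact hy'
      refine (Subgroup.closure_le _).2 fun m hm => ⟨⟨m, Subgroup.subset_closure hm⟩, ?_, rfl⟩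
      set mc : ↥(core W H) := ⟨m, Subgroup.subset_closure hm⟩
      show h.rho H mc ∈ L
      rw [← QuotientGroup.eq_one_iff, ← orderOf_eq_one_iff]
      have hdvd1 : orderOf (h.rho H mc : ↥(h.CoreImg H) ⧸ L) ∣ 2 := by
        refine orderOf_dvd_of_pow_eq_one ?_
        rw [pow_two, ← QuotientGroup.mk_mul, ← map_mul,
          show mc * mc = 1 from Subtype.ext (h1.mul_self hm.1), map_one, QuotientGroup.mk_one]
      exact Nat.eq_one_of_dvd_coprimes (Nat.coprime_two_left.2 hodd) hdvd1 (orderOf_dvd_natCard _)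
    have hxab : h.rho H ⟨x, hx⟩ ∈ two ↥(h.CoreImg H) (⟨a, ha⟩ : ↥(h.coreAct H)) (h.rho H f) := by
      refine ⟨Subtype.ext hxa, ?_⟩
      rw [hfa]; exact Subtype.ext hxb
    have hxK := A.span_two hF (hmemL ⟨x, hx⟩) hxab
    by_contra hxc
    have hne : h.rho H ⟨x, hx⟩ ≠ 1 := fun e => hxc (h.rho_eq_one.1 e c hc)
    have hdQ : d ∈ Q := hL.inf_le hd
    have := A.fpf _ hxK hne _ (hQimg hdQ) (by
      rw [← map_mul, ← map_mul]
      exact congrArg (h.rho H) (Subtype.ext hxd.eq))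
    exact hd1 (loc_eq_one hL hb hab hdQ (h.rho_eq_one.1 this b hb))

/-- The torus at `a`, `b`. -/
theorem exists_torus [Finite G] [Finite Ω] (four : 4 ≤ Nat.card ↥(W a ⊓ H)) :
    ∃ J, Torus W H a b Q J := by
  obtain ⟨J, -, hJ, -⟩ := h.exists_torus_lift hL ha hb hab four
  exact ⟨J, hJ⟩

end Local

end TISetting

end CfsgLib.LocalEven.TIEndgame
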